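import Cfsg.Agent.Lib.CFun.MinParab.Push.Comp
import Cfsg.Agent.Lib.Char.SubBlock.Small2
import Cfsg.Agent.Lib.Coprime.PConstrained
import Cfsg.Agent.Lib.LocalStructure.BlockModule

/-!
# Pushing up: the residual of a component in the acting group

The residual of a component induces on `V` the residual of the component, which is the commutator subgroup of
`SL(2, q)`, resp. an alternating group; neither fixes a vector outside the fixed space of the component.
-/

set_option autoImplicit false
set_option linter.unusedSectionVars false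
set_option linter.style.haveILetI false

open Subgroup
open CfsgLib.Char.NatSL (fixS mem_fixS fixS_mono)
open scoped commutatorElement MatrixGroups

namespace CfsgLib.CFun.MinParab.Push

open Rec Off

universe u v w

section General

variable {X Y : Type*} [Group X] [Group Y] {p : ℕ}

theorem map_res_equiv (e : X ≃* Y) :
    (Cfsg.pResidual p X).map e.toMonoidHom = Cfsg.pResidual p Y := by
  rw [Cfsg.pResidual, Cfsg.pResidual, MonoidHom.map_closure]
  refine congrArg Subgroup.closure (Set.ext fun y => ⟨?_, fun hy => ⟨e.symm y, ?_, e.apply_symm_apply y⟩⟩)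
  · rintro ⟨x, hx, rfl⟩
    show (orderOf (e x)).Coprime p
    rwa [MulEquiv.orderOf_eq]
  · show (orderOf (e.symm y)).Coprime p
    rwa [MulEquiv.orderOf_eq]

/-- For `q = p ^ n > 2` the residual of `SL(2, q)` is its commutator subgroup. -/
theorem res_sl2 {F : Type*} [Field F] [Fintype F] [hp : Fact p.Prime] {n : ℕ} (hF : Fintype.card F = p ^ n)
    (h3 : 2 < Fintype.card F) : Cfsg.pResidual p SL(2, F) = _root_.commutator SL(2, F) := by
  by_cases h : 3 < Fintype.card F
  · haveI : Group.IsPerfect SL(2, F) := ⟨CfsgLib.Lie.SLUniv.sl2_commutator h⟩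
    rw [CfsgLib.Lie.SLUniv.sl2_commutator h, CfsgLib.Coprime.pResidual_eq_top_of_isPerfect]
  have hF3 : Fintype.card F = 3 := by omega
  have hdvd : p ∣ 3 := hF3 ▸ hF ▸ dvd_pow_self p (fun h0 => by rw [h0, pow_zero] at hF; omega)
  have hp3 : p = 3 := (Nat.prime_dvd_prime_iff_eq hp.out Nat.prime_three).1 hdvd
  refine le_antisymm ?_ ?_
  · refine CfsgLib.Fusion.pResidual_le_of_isPGroup_quotient _ fun x => ⟨1, ?_⟩
    have h1 := card_eq_card_quotient_mul_card_subgroup (_root_.commutator SL(2, F))
    rw [CfsgLib.SubBlock.card_comm_three hF3, CfsgLib.Classical.card_sl2, hF3] at h1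
    have h2 : Nat.card (SL(2, F) ⧸ _root_.commutator SL(2, F)) = p := by omega
    rw [pow_one]
    conv_lhs => rw [← h2]
    exact pow_card_eq_one'
  · intro x hx
    refine subset_closure ?_
    show (orderOf x).Coprime p
    refine Nat.Coprime.coprime_dvd_left ?_ (show Nat.Coprime 8 p by rw [hp3]; decide)
    have h1 := orderOf_dvd_natCard (⟨x, hx⟩ : ↥(_root_.commutator SL(2, F)))
    rwa [orderOf_mk, CfsgLib.SubBlock.card_comm_three hF3] at h1

/-- The residual of a symmetric group of degree at least two is the alternating group. -/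
theorem res_perm (k : ℕ) : Cfsg.pResidual 2 (Equiv.Perm (Fin k)) = alternatingGroup (Fin k) := by
  haveI : Fact (Nat.Prime 2) := ⟨Nat.prime_two⟩
  refine le_antisymm ?_ ?_
  · have hu : IsPGroup 2 ℤˣ := fun u => ⟨1, by rw [pow_one, pow_two]; exact Int.units_mul_self u⟩
    exact fun x hx => Equiv.Perm.mem_alternatingGroup.2
      (CfsgLib.Fusion.pResidual_le_ker Equiv.Perm.sign hu hx)
  · rw [← Equiv.Perm.closure_three_cycles_eq_alternating, closure_le]
    intro σ hσ
    refine subset_closure ?_
    show (orderOf σ).Coprime 2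
    rw [Equiv.Perm.IsThreeCycle.orderOf hσ]
    decide

/-- The commutator subgroup of `SL(2, q)` fixes no nonzero vector. -/
theorem sl2_fixed {F : Type*} [Field F] [Fintype F] (h3 : 2 < Fintype.card F) {v : Fin 2 → F}
    (hv : ∀ g ∈ _root_.commutator SL(2, F), (g : Matrix (Fin 2) (Fin 2) F).mulVec v = v) : v = 0 := by
  let S : AddSubgroup (Fin 2 → F) :=
    { carrier := {v | ∀ g ∈ _root_.commutator SL(2, F), (g : Matrix (Fin 2) (Fin 2) F).mulVec v = v}
      zero_mem' := fun g _ => Matrix.mulVec_zero _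
      add_mem' := fun {a b} ha hb g hg => by rw [Matrix.mulVec_add, ha g hg, hb g hg]
      neg_mem' := fun {a} ha g hg => by rw [Matrix.mulVec_neg, ha g hg] }
  rcases CfsgLib.BaumannBlock.sl2_invariant S (fun g hg w hw => by rw [hw g hg]; exact hw) with h | h
  · exact AddSubgroup.mem_bot.1 (h.le (show v ∈ S from hv))
  exfalso
  have htriv : _root_.commutator SL(2, F) = ⊥ := (eq_bot_iff_forall _).2 fun g hg =>
    Subtype.ext (Matrix.mulVec_injective (funext fun w => by
      rw [h.ge (AddSubgroup.mem_top w) g hg]; exact (Matrix.one_mulVec w).symm))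
  by_cases h4 : 3 < Fintype.card F
  · have h1 := congrArg (fun K : Subgroup SL(2, F) => Nat.card ↥K)
      ((CfsgLib.Lie.SLUniv.sl2_commutator h4).symm.trans htriv)
    simp only [Subgroup.card_top, Subgroup.card_bot, CfsgLib.Classical.card_sl2] at h1
    have := Nat.eq_one_of_mul_eq_one_right h1
    omega
  · have h1 := CfsgLib.SubBlock.card_comm_three (F := F) (by omega)
    rw [htriv, card_bot] at h1
    omega

/-- The alternating group of odd degree fixes no nonzero even vector. -/
theorem perm_fixed {k : ℕ} (hk : 3 ≤ k) (hodd : Odd k) {v : Fin k → ZMod 2} (hsum : ∑ i, v i = 0)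
    (hv : ∀ g ∈ alternatingGroup (Fin k), ∀ i, v (g⁻¹ i) = v i) : v = 0 := by
  classical
  have hconst : ∀ i j, v i = v j := by
    intro i j
    by_cases hij : i = j
    · rw [hij]
    obtain ⟨l, hl⟩ := Finset.exists_mem_notMem_of_card_lt_card
      (show ({i, j} : Finset (Fin k)).card < Finset.univ.card by
        rw [Finset.card_univ, Fintype.card_fin]
        exact Finset.card_le_two.trans_lt (by omega))
    have hl' : l ≠ i ∧ l ≠ j := by simpa using hl.2
    have hg : Equiv.swap j l * Equiv.swap i j ∈ alternatingGroup (Fin k) := by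
      rw [Equiv.Perm.mem_alternatingGroup, map_mul, Equiv.Perm.sign_swap hl'.2.symm, Equiv.Perm.sign_swap hij]
      decide
    have h1 := hv _ hg j
    rwa [mul_inv_rev, Equiv.swap_inv, Equiv.swap_inv, Equiv.Perm.mul_apply, Equiv.swap_apply_left,
      Equiv.swap_apply_of_ne_of_ne hl'.1 hl'.2, eq_comm, show v l = v i from ?_, eq_comm] at h1
    have hg' : Equiv.swap i l * Equiv.swap i j ∈ alternatingGroup (Fin k) := by
      rw [Equiv.Perm.mem_alternatingGroup, map_mul, Equiv.Perm.sign_swap hl'.1.symm, Equiv.Perm.sign_swap hij]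
      decide
    have h2 := hv _ hg' i
    rwa [mul_inv_rev, Equiv.swap_inv, Equiv.swap_inv, Equiv.Perm.mul_apply, Equiv.swap_apply_left,
      Equiv.swap_apply_of_ne_of_ne hl'.1 hl'.2] at h2
  funext i
  have h2 : ((Finset.univ : Finset (Fin k)).card : ZMod 2) * v i = 0 := by
    rw [← nsmul_eq_mul, ← Finset.sum_const, ← hsum]
    exact Finset.sum_congr rfl fun j _ => hconst i j
  rwa [Finset.card_univ, Fintype.card_fin, (ZMod.natCast_eq_one_iff_odd).2 hodd, one_mul] at h2

end General

variable {G : Type u} [Group G] [Finite G] {p : ℕ} [hp : Fact p.Prime] {T : Sylow p G} {M : Subgroup G}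
  {H : Type v} [Group H] [Finite H] {U : Type w} [AddCommGroup U] [Finite U] [DistribMulAction H U]
  {m : Glue.Mdl (vQ p G) ⊤ H U} {q n r : ℕ} {S : Sylow p H} {E : Fin r → Subgroup H}

theorem comp_self (i : Fin r) : Cfsg.pResidual p ↥(comp m E i) = ⊤ := by
  refine map_injective (comp m E i).subtype_injective ?_
  show Cfsg.pResidualOf p (comp m E i) = (⊤ : Subgroup ↥(comp m E i)).map (comp m E i).subtype
  rw [comp, res_res, ← MonoidHom.range_eq_map, range_subtype]

/-- The action of the residual of a component in the component. -/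
def compHom (m : Glue.Mdl (vQ p G) ⊤ H U) (E : Fin r → Subgroup H) (i : Fin r) :
    ↥(comp m E i) →* ↥(E i) :=
  ((proj m).comp (comp m E i).subtype).codRestrict (E i) fun x => mem_lift_proj.1 (res_le _ x.2)

theorem compHom_coe (i : Fin r) (x : ↥(comp m E i)) : (compHom m E i x : H) = proj m (x : G) := rfl

theorem compHom_range (i : Fin r) : (compHom m E i).range = Cfsg.pResidual p ↥(E i) := by
  refine le_antisymm ?_ ?_
  · rw [MonoidHom.range_eq_map, ← comp_self (m := m) (E := E) i, Cfsg.pResidual, Cfsg.pResidual,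
      MonoidHom.map_closure]
    refine closure_mono ?_
    rintro _ ⟨x, hx, rfl⟩
    exact hx.coprime_dvd_left (orderOf_map_dvd _ x)
  · rw [Cfsg.pResidual, closure_le]
    intro e he
    obtain ⟨x, hx⟩ := proj_surj m (e : H)
    obtain ⟨a, ha⟩ := CfsgLib.BlockCent.exists_coprime_power p x
    have hxl : x ∈ m.lift (E i) := mem_lift_proj.2 (hx ▸ e.2)
    obtain ⟨j, hj⟩ := exists_pow_eq_self_of_coprime
      (show (p ^ a).Coprime (orderOf e) from (Nat.Coprime.pow_right a he).symm)
    refine ⟨⟨x ^ p ^ a, mem_res (pow_mem hxl _) ha⟩ ^ j, ?_⟩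
    rw [map_pow]
    refine Eq.trans ?_ hj
    congr 1
    exact Subtype.ext (by rw [compHom_coe, map_pow, hx]; rfl)

/-- The inverse of `val` on `V`. -/
noncomputable def valInv (m : Glue.Mdl (vQ p G) ⊤ H U) : ↥(vQ p G) →* Multiplicative U :=
  MonoidHom.mk' (fun v => Multiplicative.ofAdd (Classical.choose (m.exists_val _ v.2))) fun a b => by
    refine Multiplicative.toAdd.injective (m.val_inj ?_)
    rw [toAdd_mul, toAdd_ofAdd, toAdd_ofAdd, toAdd_ofAdd, m.val_add,
      Classical.choose_spec (m.exists_val _ (a * b).2), Classical.choose_spec (m.exists_val _ a.2),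
      Classical.choose_spec (m.exists_val _ b.2)]
    rfl

theorem valInv_val {u : U} {h : m.val u ∈ vQ p G} :
    Multiplicative.toAdd (valInv m ⟨m.val u, h⟩) = u :=
  m.val_inj (Classical.choose_spec (m.exists_val _ h))

namespace Data

variable (d : Data T M m q n r S E)
include d

/-- `U` is `[U, E i]` plus the fixed space of `E i`. -/
theorem span_one (i : Fin r) : CFun.MinParab.commS U (E i) ⊔ fixS U (E i) = ⊤ := by
  refine top_le_iff.1 (d.frame.parts.span.ge.trans (sup_le ((fixS_mono (le_iSup E i)).trans le_sup_right) ?_))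
  refine iSup_le fun j => ?_
  by_cases hj : j = i
  · subst hj; exact le_sup_left
  · exact (d.frame.parts.cross j i hj).trans le_sup_right

theorem lift_normal : (m.lift (⨆ i, E i)).Normal := by
  refine normalizer_eq_top_iff.1 (top_le_iff.1 fun x _ => CfsgLib.Fusion.conjBy_eq_iff.1
    (CfsgLib.Fusion.conjBy_eq_of_le ?_))
  rintro _ ⟨y, hy, rfl⟩
  show x * y * x⁻¹ ∈ m.lift (⨆ i, E i)
  rw [mem_lift_proj, map_mul, map_mul, map_inv]
  refine (show CfsgLib.Fusion.conjBy (proj m x) (⨆ i, E i) ≤ ⨆ i, E i from ?_)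
    (CfsgLib.Fusion.conj_mem_conjBy (mem_lift_proj.1 hy))
  rw [conjBy_iSup]
  refine iSup_le fun j => ?_
  obtain ⟨k, hk⟩ := d.frame.parts.perm (proj m x) j
  exact hk.le.trans (le_iSup E k)

theorem mem_normalizer_comp {x : G} {i : Fin r} (hx : proj m x ∈ ⨆ j, E j) :
    x ∈ normalizer (comp m E i : Set G) := by
  refine CfsgLib.Char.TW.normalizer_le_pResidualOf p _ ?_
  refine CfsgLib.Fusion.conjBy_eq_iff.1 (CfsgLib.Fusion.conjBy_eq_of_le ?_)
  rintro _ ⟨y, hy, rfl⟩
  show x * y * x⁻¹ ∈ m.lift (E i)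
  rw [mem_lift_proj, map_mul, map_mul, map_inv]
  exact (d.parts_conj i hx).le (CfsgLib.Fusion.conj_mem_conjBy (mem_lift_proj.1 hy))

/-- `O_p` of the residual of a component lies in `O_p(G)`. -/
theorem pCoreOf_comp_le (i : Fin r) : Cfsg.pCoreOf p (comp m E i) ≤ Cfsg.pCore p G := by
  haveI := d.lift_normal
  set N := m.lift (⨆ j, E j)
  have hle : comp m E i ≤ N := (res_le _).trans (m.lift_mono (le_iSup E i))
  have h1 : Cfsg.pCoreOf p (comp m E i) ≤ Cfsg.pCoreOf p N :=
    CfsgLib.JComp.le_pCoreOf ((CfsgLib.JComp.pCoreOf_le p _).trans hle) (CfsgLib.JComp.isPGroup_pCoreOf p _)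
      fun x hx => CfsgLib.JComp.normalizer_le_normalizer_pCoreOf _ (d.mem_normalizer_comp (mem_lift_proj.1 hx))
  refine h1.trans (CfsgLib.PGroup.le_pCore ?_ (CfsgLib.JComp.isPGroup_pCoreOf p N))
  exact normalizer_eq_top_iff.1 (top_le_iff.1 ((normalizer_eq_top_iff.2 (inferInstance : N.Normal)).ge.trans
    (CfsgLib.JComp.normalizer_le_normalizer_pCoreOf N)))

end Data

end CfsgLib.CFun.MinParab.Push
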