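import Cfsg.Agent.Lib.CFun.MinParab.Push.Sym
import Cfsg.Agent.Lib.CFun.MinParab.Push.Image

/-!
# Pushing up with one natural step: the residuals of the components are blocks
-/

set_option autoImplicit false
set_option linter.unusedSectionVars false
set_option linter.style.haveILetI false

open Subgroup
open CfsgLib.Char.NatSL (fixS mem_fixS fixS_mono)
open scoped commutatorElement MatrixGroups

namespace CfsgLib.CFun.MinParab.Push

open Rec Off

universe u v w

variable {G : Type u} [Group G] [Finite G] {p : ℕ} [hp : Fact p.Prime] {T : Sylow p G} {M : Subgroup G}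
  {H : Type v} [Group H] [Finite H] {U : Type w} [AddCommGroup U] [Finite U] [DistribMulAction H U]
  {m : Glue.Mdl (vQ p G) ⊤ H U} {q n r : ℕ} {S : Sylow p H} {E : Fin r → Subgroup H}

namespace Member

variable {i : Fin r} {L : Subgroup H} {F : Type} [Field F] [Fintype F] {X : Subgroup G}
  (mb : Member T m E i L F X)
include mb

theorem res_le_comp : Cfsg.pResidualOf p X ≤ comp m E i :=
  res_le_of fun _ hy ho => mem_res (mem_lift_proj.2 (mb.part_le (mb.res_le _ hy ho))) ho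

end Member

namespace Data

variable (d : Data T M m q n r S E)
include d

variable (hone : IsOne T)
include hone

theorem comp_inf_pCore (i : Fin r) : comp m E i ⊓ Cfsg.pCore p G = wPart m E i := by
  rcases d.nat i with ⟨hq, -, -⟩ | ⟨hq, -, -⟩
  · exact d.comp_inf_pCore_lin hone hq i
  · subst hq; exact d.comp_inf_pCore_sym hone i

omit hone in
theorem wPart_isPGroup (i : Fin r) : IsPGroup p ↥(wPart m E i) :=
  T.2.to_le ((sub_le_vQ _).trans (Glue.Setting.omega_le_pCore.trans pCore_le_T))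

theorem comp_le_normalizer_wPart (i : Fin r) : comp m E i ≤ normalizer (wPart m E i : Set G) := fun _ hy =>
  mem_normalizer_wPart (d.parts_conj i (le_iSup E i (mem_lift_proj.1 (res_le _ hy))))

theorem pCoreOf_comp (i : Fin r) : Cfsg.pCoreOf p (comp m E i) = wPart m E i :=
  le_antisymm ((d.comp_inf_pCore hone i).le.trans' (le_inf (CfsgLib.JComp.pCoreOf_le p _) (d.pCoreOf_comp_le i)))
    (CfsgLib.JComp.le_pCoreOf (d.wPart_le_comp hone i) (d.wPart_isPGroup i) (d.comp_le_normalizer_wPart hone i))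

theorem pCore_comp (i : Fin r) : Cfsg.pCore p ↥(comp m E i) = (compHom m E i).ker := by
  ext x
  rw [MonoidHom.mem_ker, Subtype.ext_iff, compHom_coe]
  show _ ↔ proj m (x : G) = 1
  rw [d.proj_eq_one' hone]
  constructor
  · exact fun hx => d.pCoreOf_comp_le i (mem_map_of_mem _ hx)
  · intro hx
    have h := (d.pCoreOf_comp hone i).ge ((d.comp_inf_pCore hone i).le ⟨x.2, hx⟩)
    obtain ⟨y, hy, hye⟩ := h
    exact (Subtype.ext hye : y = x) ▸ hy

theorem omega_wPart (i : Fin r) : Cfsg.omegaOneCenter p (wPart m E i) = wPart m E i := by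
  refine le_antisymm ((CfsgLib.BaumannBlock.omegaOneCenter_le p _).trans inf_le_left) fun x hx => ?_
  have hxV : x ∈ vQ p G := sub_le_vQ _ hx
  refine subset_closure ⟨⟨hx, mem_centralizer_iff.2 fun y hy => ?_⟩, ?_⟩
  · exact (commutatorElement_eq_one_iff_mul_comm.1 (d.vQ_comm hxV
      (Glue.Setting.omega_le_pCore (sub_le_vQ _ hy)))).symm
  · obtain ⟨u, rfl⟩ := m.exists_val x hxV
    have h := map_nsmul (AddMonoidHom.mk' (fun u => Additive.ofMul (m.val u))
      fun a b => congrArg Additive.ofMul (m.val_add a b)) p u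
    rw [d.ctx.vp u, map_zero] at h
    exact (congrArg Additive.toMul h).symm

/-- `[W, E] = W`. -/
theorem comm_wPart (i : Fin r) : ⁅wPart m E i, comp m E i⁆ = wPart m E i := by
  haveI := Glue.Setting.omega_normal (G := G) (p := p)
  set D := ⁅wPart m E i, comp m E i⁆
  refine le_antisymm (CfsgLib.BaumannBlock.commutator_le_of_normalizes (d.comp_le_normalizer_wPart hone i)) ?_
  conv_lhs => rw [← d.vQ_comp hone i]
  have hEN : comp m E i ≤ normalizer (D : Set G) := normalizer_commutator_ge_right _ _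
  have hDW : D ≤ wPart m E i :=
    CfsgLib.BaumannBlock.commutator_le_of_normalizes (d.comp_le_normalizer_wPart hone i)
  let K : Subgroup G :=
    { carrier := {y | y ∈ comp m E i ∧ ∀ v ∈ vQ p G, ⁅y, v⁆ ∈ D}
      one_mem' := ⟨one_mem _, fun v _ => by rw [commutatorElement_one_left]; exact one_mem _⟩
      mul_mem' := fun {a b} ha hb => ⟨mul_mem ha.1 hb.1, fun v hv => by
        rw [show ⁅a * b, v⁆ = a * ⁅b, v⁆ * a⁻¹ * ⁅a, v⁆ by simp only [commutatorElement_def]; group]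
        exact mul_mem ((mem_normalizer_iff.1 (hEN ha.1) _).1 (hb.2 v hv)) (ha.2 v hv)⟩
      inv_mem' := fun {a} ha => ⟨inv_mem ha.1, fun v hv => by
        rw [show ⁅a⁻¹, v⁆ = a⁻¹ * ⁅a, v⁆⁻¹ * a⁻¹⁻¹ by simp only [commutatorElement_def]; group]
        exact (mem_normalizer_iff.1 (inv_mem (hEN ha.1)) _).1 (inv_mem (ha.2 v hv))⟩ }
  have hle : comp m E i ≤ K := by
    refine (res_res _).ge.trans (res_le_of fun x hx ho => ⟨hx, fun v hv => ?_⟩)
    have h1 : ⁅x, v⁆ ∈ wPart m E i := d.comp_comm hone i hx (Glue.Setting.omega_le_pCore hv)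
    refine comm_mem_of_coprime (d.wPart_isPGroup i) (hEN hx) ?_ ho h1 ?_
    · refine (centralizer_le_normalizer _) (mem_centralizer_iff.2 fun y hy => ?_)
      exact commutatorElement_eq_one_iff_mul_comm.1
        (d.vQ_comm (sub_le_vQ _ (hDW hy)) (Glue.Setting.omega_le_pCore hv))
    · rw [← commutatorElement_inv]
      exact inv_mem (commutator_mem_commutator h1 hx)
  exact commutator_le.2 fun v hv x hx => by
    rw [← commutatorElement_inv]
    exact inv_mem ((hle hx).2 v hv)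

/-- `[E, Ω₁ Z T] ≠ 1`. -/
theorem comp_moved (i : Fin r) : ⁅comp m E i, Cfsg.omegaOneCenter p (T : Subgroup G)⁆ ≠ ⊥ := by
  intro h
  obtain ⟨A, L, R, g, F, _, _, X, -, -, mb⟩ := d.exists_member_at i
  refine d.hyp.moved ⟨fun z hz x => ?_⟩
  have htop : (⊤ : Subgroup G) ≤ centralizer (Cfsg.omegaOneCenter p (T : Subgroup G) : Set G) := by
    rw [← mb.res_sup_sylow]
    refine sup_le (mb.res_le_comp.trans (commutator_eq_bot_iff_le_centralizer.1 h)) ?_
    exact (le_centralizer_iff.1 ((CfsgLib.BaumannBlock.omegaOneCenter_le p _).trans inf_le_right))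
  rw [← mem_centralizer_iff.1 (htop (mem_top x)) z hz, mul_inv_cancel_right]
  exact hz

/-- `[E, B] = E`. -/
theorem comp_comm_bT (i : Fin r) : ⁅comp m E i, bT T⁆ = comp m E i := by
  classical
  have hBN : bT T ≤ normalizer (comp m E i : Set G) := fun b hb =>
    d.mem_normalizer_comp (d.bT_le ((img_eq_map m _).ge (mem_map_of_mem _ hb)))
  have hle : ⁅comp m E i, bT T⁆ ≤ comp m E i := CfsgLib.BaumannBlock.commutator_le_of_normalizes hBN
  refine le_antisymm hle ?_
  obtain ⟨A, L, R, g, F, _, _, X, -, hF, mb⟩ := d.exists_member_at i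
  have hXK : Cfsg.pResidualOf p X ≤ ⁅comp m E i, bT T⁆ :=
    mb.res_comm_bT.ge.trans (commutator_mono mb.res_le_comp le_rfl)
  rcases d.nat i with ⟨hq, hqn, hE⟩ | ⟨-, hp2, θ, ψ, -⟩
  · refine le_trans (le_of_eq ?_) hXK
    refine d.comp_eq_res hone mb ?_
    obtain ⟨F₁, _, _, hF₁, ρ₁, -⟩ := hE
    obtain ⟨F₂, _, _, hF₂, ρ₂, -⟩ := mb.nat
    refine Subgroup.eq_of_le_of_card_ge mb.part_le (le_of_eq ?_)
    rw [Nat.card_congr ρ₁.toEquiv, Nat.card_congr ρ₂.toEquiv, CfsgLib.Classical.card_sl2,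
      CfsgLib.Classical.card_sl2, hF₁, hF₂, hF]
  set K := ⁅comp m E i, bT T⁆
  haveI : IsSimpleGroup ↥(alternatingGroup (Fin (2 ^ n + 1))) := by
    rcases Nat.lt_or_ge n 2 with hn | hn
    · obtain rfl : n = 1 := by have := d.one_le; omega
      haveI : Fact (Nat.Prime 3) := ⟨Nat.prime_three⟩
      refine isSimpleGroup_of_prime_card (p := 3) ?_
      rw [nat_card_alternatingGroup]; simp [Nat.factorial]
    · refine alternatingGroup.isSimpleGroup ?_
      have : 2 ^ 2 ≤ 2 ^ n := Nat.pow_le_pow_right (by omega) hn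
      simp
      omega
  obtain ⟨f, hf⟩ : ∃ f, f = (θ.toMonoidHom.comp (compHom m E i)).codRestrict
      (alternatingGroup (Fin (2 ^ n + 1))) fun x => by
        rw [← compPerm_range (m := m) hp2 i θ]; exact ⟨x, rfl⟩ := ⟨_, rfl⟩
  have hfs : Function.Surjective f := fun a => by
    obtain ⟨x, hx⟩ := (compPerm_range (m := m) hp2 i θ).ge a.2
    exact ⟨x, by rw [hf]; exact Subtype.ext hx⟩
  have hfk : ∀ x : ↥(comp m E i), f x = 1 ↔ (x : G) ∈ wPart m E i := fun x => by
    rw [hf, Subtype.ext_iff]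
    show θ (compHom m E i x) = 1 ↔ _
    rw [map_eq_one_iff _ θ.injective, ← MonoidHom.mem_ker, ← d.pCore_comp hone, ← d.pCoreOf_comp hone i]
    exact ⟨fun h => mem_map_of_mem _ h, fun ⟨y, hy, hye⟩ => (Subtype.ext hye : y = x) ▸ hy⟩
  haveI hKn : (K.subgroupOf (comp m E i)).Normal :=
    (normal_subgroupOf_iff_le_normalizer hle).2 (normalizer_commutator_ge_left _ _)
  have htop : (K.subgroupOf (comp m E i)).map f = ⊤ := by
    refine ((Subgroup.Normal.map hKn f hfs).eq_bot_or_eq_top).resolve_left fun hb => ?_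
    refine mb.res_not_le_cent fun x hx => ?_
    rw [d.cent_eq hone]
    refine ((sub_le_vQ _).trans Glue.Setting.omega_le_pCore) ((hfk ⟨x, mb.res_le_comp hx⟩).1 ?_)
    exact mem_bot.1 (hb.le (mem_map_of_mem f (show (⟨x, _⟩ : ↥(comp m E i)) ∈ K.subgroupOf _ from hXK hx)))
  refine (res_res _).ge.trans (res_le_of fun x hx ho => ?_)
  refine CfsgLib.BaumannNormal.coprime_mem_sup (Q := wPart m E i) (d.wPart_isPGroup i)
    ((d.wPart_le_comp hone i).trans (normalizer_commutator_ge_left _ _)) ?_ ho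
  obtain ⟨k, hk, hke⟩ := htop.ge (mem_top (f ⟨x, hx⟩))
  have h1 : (k : G)⁻¹ * x ∈ wPart m E i := (hfk (k⁻¹ * ⟨x, hx⟩)).1 (by
    rw [map_mul, map_inv, hke, inv_mul_cancel])
  rw [← mul_inv_cancel_left (k : G) x]
  exact mul_mem (mem_sup_left hk) (mem_sup_right h1)

omit hone in
/-- An element of `[V, E i]` centralized by the residual is fixed by the residual of `E i`. -/
theorem val_cent_comp (i : Fin r) (u : U) :
    m.val u ∈ centralizer (comp m E i : Set G) ↔ ∀ e ∈ Cfsg.pResidual p ↥(E i), (e : H) • u = u := by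
  rw [mem_centralizer_iff, ← compHom_range (m := m) i]
  constructor
  · rintro h _ ⟨x, rfl⟩
    refine m.val_inj ?_
    rw [compHom_coe, val_proj, h _ x.2, mul_inv_cancel_right]
  · intro h x hx
    have h1 := h _ ⟨⟨x, hx⟩, rfl⟩
    rw [compHom_coe] at h1
    have h2 := val_proj m x u
    rw [h1] at h2
    exact eq_mul_inv_iff_mul_eq.1 h2 |>.symm

/-- The residual of a linear component is a linear block. -/
theorem lin_clause (hq : 2 < q) (i : Fin r) :
    ∃ (F : Type) (_ : Field F) (_ : Fintype F) (n : ℕ), Fintype.card F = p ^ n ∧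
      Nonempty (↥(comp m E i) ⧸ Cfsg.pCore p ↥(comp m E i) ≃* ↥(_root_.commutator SL(2, F))) ∧
      Cfsg.ActsAsSL2OnSection F (_root_.commutator SL(2, F)) (comp m E i) (wPart m E i)
        (wPart m E i ⊓ centralizer (comp m E i : Set G)) := by
  obtain ⟨hqn, hE⟩ : q = p ^ n ∧ IsNat2 U q (E i) := by
    rcases d.nat i with ⟨-, h, h'⟩ | ⟨h, -, -⟩
    · exact ⟨h, h'⟩
    · omega
  obtain ⟨F, iF, iFf, hF, ρ₁, ψ, hψs, hψk, hψe⟩ := hE
  have hres := res_sl2 (F := F) (hF.trans hqn) (hF ▸ hq)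
  obtain ⟨ρ, hρ⟩ : ∃ ρ, ρ = ρ₁.toMonoidHom.comp (compHom m E i) := ⟨_, rfl⟩
  have hrange : ρ.range = _root_.commutator SL(2, F) := by
    rw [hρ, MonoidHom.range_comp, compHom_range, map_res_equiv, hres]
  have hker : ρ.ker = Cfsg.pCore p ↥(comp m E i) := by
    rw [d.pCore_comp hone]
    ext x
    rw [hρ, MonoidHom.mem_ker, MonoidHom.mem_ker, MonoidHom.comp_apply]
    exact map_eq_one_iff _ ρ₁.injective
  refine ⟨F, iF, iFf, n, hF.trans hqn, ⟨((QuotientGroup.quotientMulEquivOfEq hker.symm).trans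
    (QuotientGroup.quotientKerEquivRange ρ)).trans (MulEquiv.subgroupCongr hrange)⟩,
    d.comp_le_normalizer_wPart hone i, inf_le_left, ρ,
    (AddMonoidHom.toMultiplicative ψ).comp ((valInv m).comp (Subgroup.inclusion (sub_le_vQ _))),
    hrange, fun w => ?_, ?_, ?_⟩
  · obtain ⟨u, hu⟩ := hψs (Multiplicative.toAdd w)
    obtain ⟨c, hc, f, hf, rfl⟩ := AddSubgroup.mem_sup.1 ((d.span_one i).ge (AddSubgroup.mem_top u))
    refine ⟨⟨m.val c, m.val_mem_sub.2 hc⟩, Multiplicative.toAdd.injective ?_⟩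
    show ψ (Multiplicative.toAdd (valInv m ⟨m.val c, _⟩)) = _
    rw [valInv_val, ← hu, map_add, (hψk f).2 hf, add_zero]
  · rintro ⟨_, hw⟩
    obtain ⟨u, hu, rfl⟩ := m.mem_sub.1 hw
    show Multiplicative.ofAdd (ψ (Multiplicative.toAdd (valInv m ⟨m.val u, _⟩))) = 1 ↔ m.val u ∈ _
    rw [valInv_val, ofAdd_eq_one, mem_inf, d.val_cent_comp i]
    refine ⟨fun h => ⟨hw, fun e _ => mem_fixS.1 ((hψk u).1 h) _ e.2⟩, fun h => sl2_fixed (hF ▸ hq) ?_⟩
    intro g hg
    obtain ⟨e, he, rfl⟩ := ((map_res_equiv ρ₁).trans hres).ge hg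
    show ((ρ₁ e : SL(2, F)) : Matrix (Fin 2) (Fin 2) F).mulVec (ψ u) = _
    rw [← hψe e u, h.2 e he]
  · rintro e ⟨_, hw⟩
    obtain ⟨u, hu, rfl⟩ := m.mem_sub.1 hw
    refine ⟨⟨m.val (proj m (e : G) • u), m.val_mem_sub.2
      (smul_mem_commS (d.parts_conj i (le_iSup E i (mem_lift_proj.1 (res_le _ e.2)))) hu)⟩, val_proj m _ u, ?_⟩
    show ψ (Multiplicative.toAdd (valInv m ⟨m.val _, _⟩)) =
      ((ρ e : SL(2, F)) : Matrix (Fin 2) (Fin 2) F).mulVec (ψ (Multiplicative.toAdd (valInv m ⟨m.val u, _⟩)))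
    rw [valInv_val, valInv_val, hρ, MonoidHom.comp_apply, ← compHom_coe (m := m) i e]
    exact hψe _ u

/-- The residual of a symmetric component is a symmetric block. -/
theorem sym_clause (hq : q = 2) (i : Fin r) :
    p = 2 ∧ ∃ k : ℕ, Nonempty (↥(comp m E i) ⧸ Cfsg.pCore p ↥(comp m E i) ≃*
        ↥(alternatingGroup (Fin (2 * k + 1)))) ∧
      Cfsg.ActsAsOddPermModuleOnSection (2 * k + 1) (alternatingGroup (Fin (2 * k + 1))) (comp m E i)
        (wPart m E i) (wPart m E i ⊓ centralizer (comp m E i : Set G)) := by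
  obtain ⟨hp2, θ, ψ, hψsum, hψs, hψk, hψe⟩ : p = 2 ∧ IsPermNat U n (E i) := by
    rcases d.nat i with ⟨h, -, -⟩ | ⟨-, h, h'⟩
    · omega
    · exact ⟨h, h'⟩
  subst hp2
  obtain ⟨k, hk⟩ : ∃ k, 2 ^ n + 1 = 2 * k + 1 := ⟨2 ^ (n - 1), by
    rw [← pow_succ', show n - 1 + 1 = n by have := d.one_le; omega]⟩
  refine ⟨rfl, k, ?_⟩
  rw [← hk]
  have h3 : 3 ≤ 2 ^ n + 1 := by have := Nat.pow_le_pow_right (n := 2) (by omega) d.one_le; omega
  obtain ⟨ρ, hρ⟩ : ∃ ρ, ρ = θ.toMonoidHom.comp (compHom m E i) := ⟨_, rfl⟩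
  have hrange : ρ.range = alternatingGroup (Fin (2 ^ n + 1)) := by
    rw [hρ, MonoidHom.range_comp, compHom_range, map_res_equiv, res_perm]
  have hker : ρ.ker = Cfsg.pCore 2 ↥(comp m E i) := by
    rw [d.pCore_comp hone]
    ext x
    rw [hρ, MonoidHom.mem_ker, MonoidHom.mem_ker, MonoidHom.comp_apply]
    exact map_eq_one_iff _ θ.injective
  refine ⟨⟨((QuotientGroup.quotientMulEquivOfEq hker.symm).trans
    (QuotientGroup.quotientKerEquivRange ρ)).trans (MulEquiv.subgroupCongr hrange)⟩,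
    d.comp_le_normalizer_wPart hone i, inf_le_left, ρ,
    (AddMonoidHom.toMultiplicative ψ).comp ((valInv m).comp (Subgroup.inclusion (sub_le_vQ _))),
    hrange, fun w => hψsum _, fun w hw => ?_, ?_, ?_⟩
  · obtain ⟨u, hu⟩ := hψs w hw
    obtain ⟨c, hc, f, hf, rfl⟩ := AddSubgroup.mem_sup.1 ((d.span_one i).ge (AddSubgroup.mem_top u))
    refine ⟨⟨m.val c, m.val_mem_sub.2 hc⟩, ?_⟩
    show ψ (Multiplicative.toAdd (valInv m ⟨m.val c, _⟩)) = _
    rw [valInv_val, ← hu, map_add, (hψk f).2 hf, add_zero]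
  · rintro ⟨_, hw⟩
    obtain ⟨u, hu, rfl⟩ := m.mem_sub.1 hw
    show Multiplicative.ofAdd (ψ (Multiplicative.toAdd (valInv m ⟨m.val u, _⟩))) = 1 ↔ m.val u ∈ _
    rw [valInv_val, ofAdd_eq_one, mem_inf, d.val_cent_comp i]
    refine ⟨fun h => ⟨hw, fun e _ => mem_fixS.1 ((hψk u).1 h) _ e.2⟩,
      fun h => perm_fixed h3 ⟨2 ^ (n - 1), by rw [← pow_succ', show n - 1 + 1 = n by have := d.one_le; omega]⟩
        (hψsum u) ?_⟩
    intro g hg a
    obtain ⟨e, he, rfl⟩ := ((map_res_equiv θ).trans (res_perm _)).ge hg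
    show ψ u ((θ e)⁻¹ a) = _
    rw [← hψe e u a, h.2 e he]
  · rintro e ⟨_, hw⟩
    obtain ⟨u, hu, rfl⟩ := m.mem_sub.1 hw
    refine ⟨⟨m.val (proj m (e : G) • u), m.val_mem_sub.2
      (smul_mem_commS (d.parts_conj i (le_iSup E i (mem_lift_proj.1 (res_le _ e.2)))) hu)⟩, val_proj m _ u, ?_⟩
    intro a
    show ψ (Multiplicative.toAdd (valInv m ⟨m.val _, _⟩)) a =
      ψ (Multiplicative.toAdd (valInv m ⟨m.val u, _⟩)) ((ρ e)⁻¹ a)
    rw [valInv_val, valInv_val, hρ, MonoidHom.comp_apply, ← compHom_coe (m := m) i e]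
    exact hψe _ u a

/-- With one natural step the residuals of the components are blocks. -/
theorem blocks_of_one : Blocks T m E where
  cent := d.cent_eq hone
  com i j hij := d.comp_com hone hij
  block i := by
    refine ⟨res_res _, d.comp_comm_bT hone i, ?_, d.comp_moved hone i, ?_⟩
    · rw [d.pCoreOf_comp hone]; exact d.comm_wPart hone i
    rw [d.pCoreOf_comp hone, d.omega_wPart hone]
    rcases d.nat i with ⟨hq, -, -⟩ | ⟨hq, -, -⟩
    · obtain ⟨F, iF, iFf, k, h1, h2, h3⟩ := d.lin_clause hone hq i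
      exact Or.inl ⟨F, iF, iFf, k, h1, h2, h3, Or.inl rfl⟩
    · obtain ⟨hp2, k, h1, h2⟩ := d.sym_clause hone hq i
      exact Or.inr ⟨hp2, k, h1, h2, rfl⟩

end Data

end CfsgLib.CFun.MinParab.Push
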