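import Cfsg.Agent.Lib.CFun.MinParab.Push.Member
import Cfsg.Agent.Lib.Char.ThompsonWielandt
import Cfsg.Agent.Lib.Char.BlockCent.Basic

/-!
# Pushing up: facts about the members and the components that do not depend on the shape
-/

set_option autoImplicit false
set_option linter.unusedSectionVars false
set_option linter.style.haveILetI false

open Subgroup
open CfsgLib.Char.NatSL (fixS mem_fixS fixS_mono)
open CfsgLib.Fusion (conjBy mem_conjBy conj_mem_conjBy conjBy_le_iff conjBy_eq_iff conjBy_conjBy conjBy_mono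
  conjBy_eq_of_le)
open scoped commutatorElement MatrixGroups

namespace CfsgLib.CFun.MinParab.Push

open Rec Off

universe u v w

section General

variable {G : Type u} [Group G] {p : ℕ}

theorem res_le (K : Subgroup G) : Cfsg.pResidualOf p K ≤ K := map_subtype_le _

theorem mem_res {K : Subgroup G} {x : G} (hx : x ∈ K) (ho : (orderOf x).Coprime p) :
    x ∈ Cfsg.pResidualOf p K := by
  rw [CfsgLib.Char.TW.pResidualOf_eq_closure]
  exact subset_closure ⟨hx, ho⟩

theorem res_le_of {K N : Subgroup G} (h : ∀ x ∈ K, (orderOf x).Coprime p → x ∈ N) :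
    Cfsg.pResidualOf p K ≤ N := by
  rw [CfsgLib.Char.TW.pResidualOf_eq_closure]
  exact (closure_le _).2 fun x hx => h x hx.1 hx.2

theorem res_mono {K K' : Subgroup G} (h : K ≤ K') : Cfsg.pResidualOf p K ≤ Cfsg.pResidualOf p K' :=
  res_le_of fun _ hx ho => mem_res (h hx) ho

theorem res_res (K : Subgroup G) : Cfsg.pResidualOf p (Cfsg.pResidualOf p K) = Cfsg.pResidualOf p K :=
  le_antisymm (res_le _) (res_le_of fun _ hx ho => mem_res (mem_res hx ho) ho)

/-- The elements that move a normal subgroup `Q` only inside `N`. -/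
def centMod (Q N : Subgroup G) [N.Normal] : Subgroup G :=
  (centralizer ((Q.map (QuotientGroup.mk' N) : Subgroup (G ⧸ N)) : Set (G ⧸ N))).comap (QuotientGroup.mk' N)

theorem mem_centMod {Q N : Subgroup G} [N.Normal] {g : G} : g ∈ centMod Q N ↔ ∀ z ∈ Q, ⁅g, z⁆ ∈ N := by
  rw [centMod, mem_comap, mem_centralizer_iff]
  constructor
  · intro h z hz
    rw [← QuotientGroup.eq_one_iff, ← QuotientGroup.mk'_apply, map_commutatorElement,
      commutatorElement_eq_one_iff_mul_comm]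
    exact (h _ (mem_map_of_mem _ hz)).symm
  · rintro h _ ⟨z, hz, rfl⟩
    have h1 := h z hz
    rw [← QuotientGroup.eq_one_iff, ← QuotientGroup.mk'_apply, map_commutatorElement,
      commutatorElement_eq_one_iff_mul_comm] at h1
    exact h1.symm

theorem centMod_normal (Q N : Subgroup G) [Q.Normal] [N.Normal] : (centMod Q N).Normal := by
  haveI : (Q.map (QuotientGroup.mk' N)).Normal :=
    Subgroup.Normal.map inferInstance _ (QuotientGroup.mk'_surjective N)
  unfold centMod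
  infer_instance

variable [Finite G] [hp : Fact p.Prime]

/-- A `p'`-element centralizing `[x, z]` modulo `N` has `[x, z]` in `N`. -/
theorem comm_mem_of_coprime {N P : Subgroup G} (hP : IsPGroup p P) {x z : G} (hxN : x ∈ normalizer (N : Set G))
    (hzN : z ∈ normalizer (N : Set G)) (ho : (orderOf x).Coprime p) (hxz : ⁅x, z⁆ ∈ P)
    (ha : ⁅x, ⁅x, z⁆⁆ ∈ N) : ⁅x, z⁆ ∈ N := by
  haveI hn : (N.subgroupOf (normalizer (N : Set G))).Normal := inferInstance
  obtain ⟨f, hf⟩ : ∃ f, f = QuotientGroup.mk' (N.subgroupOf (normalizer (N : Set G))) := ⟨_, rfl⟩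
  set xn : ↥(normalizer (N : Set G)) := ⟨x, hxN⟩
  set zn : ↥(normalizer (N : Set G)) := ⟨z, hzN⟩
  have key : ∀ w : ↥(normalizer (N : Set G)), f w = 1 ↔ (w : G) ∈ N := fun w => by
    rw [hf]; exact QuotientGroup.eq_one_iff w
  have h1 : f ⁅xn, ⁅xn, zn⁆⁆ = 1 := (key _).2 ha
  rw [map_commutatorElement, commutatorElement_eq_one_iff_mul_comm] at h1
  refine (key ⁅xn, zn⁆).1 (CfsgLib.Coprime.eq_one_of_conj_eq_mul (a := f xn) (x := f zn) ?_
    (mul_inv_eq_iff_eq_mul.2 h1) ?_)
  · rw [map_commutatorElement, commutatorElement_def]; group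
  · obtain ⟨j, hj⟩ := hP ⟨⁅x, z⁆, hxz⟩
    refine ((Nat.Coprime.pow_right j ho).coprime_dvd_left
      ((orderOf_map_dvd f xn).trans (orderOf_mk x hxN).dvd)).coprime_dvd_right (orderOf_dvd_of_pow_eq_one ?_)
    rw [← map_pow, show ⁅xn, zn⁆ ^ p ^ j = 1 from Subtype.ext (congrArg Subtype.val hj :), map_one]

theorem isPGroup_of_res_eq_bot {K : Subgroup G} (h : Cfsg.pResidualOf p K = ⊥) : IsPGroup p K :=
  CfsgLib.BlockCent.isPGroup_of_coprime fun _ hx ho => mem_bot.1 (h.le (mem_res hx ho))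

theorem res_sup_sylow (X : Subgroup G) (P : Sylow p ↥X) :
    Cfsg.pResidualOf p X ⊔ (P : Subgroup ↥X).map X.subtype = X := by
  rw [Cfsg.pResidualOf, ← Subgroup.map_sup, CfsgLib.Fusion.pResidual_sup_sylow, ← MonoidHom.range_eq_map,
    Subgroup.range_subtype]

end General

variable {G : Type u} [Group G] [Finite G] {p : ℕ} [hp : Fact p.Prime] {T : Sylow p G} {M : Subgroup G}
  {H : Type v} [Group H] [Finite H] {U : Type w} [AddCommGroup U] [Finite U] [DistribMulAction H U]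
  {m : Glue.Mdl (vQ p G) ⊤ H U} {q n r : ℕ} {S : Sylow p H} {E : Fin r → Subgroup H}

/-- `[V, E i]`. -/
abbrev wPart (m : Glue.Mdl (vQ p G) ⊤ H U) {r : ℕ} (E : Fin r → Subgroup H) (i : Fin r) : Subgroup G :=
  m.sub (CFun.MinParab.commS U (E i))

/-- `[V, E]` for the product `E` of all components. -/
abbrev wAll (m : Glue.Mdl (vQ p G) ⊤ H U) {r : ℕ} (E : Fin r → Subgroup H) : Subgroup G :=
  m.sub (CFun.MinParab.commS U (⨆ i, E i))

theorem mem_lift_proj {K : Subgroup H} {x : G} : x ∈ m.lift K ↔ proj m x ∈ K :=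
  m.mem_lift.trans ⟨fun ⟨_, h⟩ => h, fun h => ⟨mem_top x, h⟩⟩

theorem sub_le_vQ (A : AddSubgroup U) : m.sub A ≤ vQ p G := fun a ha => by
  obtain ⟨u, -, rfl⟩ := m.mem_sub.1 ha
  exact m.val_mem u

theorem sub_mono {A B : AddSubgroup U} (h : A ≤ B) : m.sub A ≤ m.sub B := Subgroup.map_mono h

theorem val_smul_sub (x : G) (u : U) : m.val (proj m x • u - u) = ⁅x, m.val u⁆ := by
  rw [m.val_sub, val_proj, commutatorElement_def]

/-- An element acting inside `K` moves `V` inside `[V, K]`. -/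
theorem comm_mem_sub {K : Subgroup H} {x v : G} (hx : proj m x ∈ K) (hv : v ∈ vQ p G) :
    ⁅x, v⁆ ∈ m.sub (CFun.MinParab.commS U K) := by
  obtain ⟨u, rfl⟩ := m.exists_val v hv
  rw [← val_smul_sub]
  exact m.val_mem_sub.2 (sub_mem_commS hx u)

theorem comm_sub_eq_one {A : AddSubgroup U} {K : Subgroup H} (h : A ≤ fixS U K) {x a : G} (hx : proj m x ∈ K)
    (ha : a ∈ m.sub A) : ⁅x, a⁆ = 1 := by
  obtain ⟨u, hu, rfl⟩ := m.mem_sub.1 ha
  rw [← val_smul_sub, mem_fixS.1 (h hu) _ hx, sub_self, m.val_zero]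

theorem mem_normalizer_sub {A : AddSubgroup U} {x : G} (h : ∀ u ∈ A, proj m x • u ∈ A) :
    x ∈ normalizer (m.sub A : Set G) := by
  refine conjBy_eq_iff.1 (conjBy_eq_of_le ?_)
  rintro _ ⟨a, ha, rfl⟩
  obtain ⟨u, hu, rfl⟩ := m.mem_sub.1 ha
  show x * m.val u * x⁻¹ ∈ _
  rw [← val_proj]
  exact m.val_mem_sub.2 (h u hu)

theorem smul_mem_commS {K : Subgroup H} {h : H} (hn : conjBy h K = K) {u : U}
    (hu : u ∈ CFun.MinParab.commS U K) : h • u ∈ CFun.MinParab.commS U K := by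
  have h2 : h • u ∈ CFun.MinParab.commS U (conjBy h K) := by
    rw [commS_conjBy]; exact Char.NatSL.smul_mem_tr hu
  rwa [hn] at h2

theorem mem_normalizer_wPart {i : Fin r} {x : G} (hn : conjBy (proj m x) (E i) = E i) :
    x ∈ normalizer (wPart m E i : Set G) :=
  mem_normalizer_sub fun _ hu => smul_mem_commS hn hu

namespace Member

variable {i : Fin r} {L : Subgroup H} {F : Type} [Field F] [Fintype F] {X : Subgroup G}
  (mb : Member T m E i L F X)
include mb

theorem proj_res_mem {x : G} (hx : x ∈ Cfsg.pResidualOf p X) : proj m x ∈ L := by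
  have h : Cfsg.pResidualOf p X ≤ m.lift L := res_le_of fun y hy ho => mem_lift_proj.2 (mb.res_le y hy ho)
  exact mem_lift_proj.1 (h hx)

/-- A normal subgroup containing `B` contains the member. -/
theorem le_of_normal {N : Subgroup G} [N.Normal] (hB : bT T ≤ N) : X ≤ N := by
  rcases mb.sit.sup_or (N.subgroupOf X) with h | h
  · exact absurd ((le_inf le_rfl (fun x hx => hB hx)).trans h) (PushAmalgam.Sit.not_le_pCore mb.sit)
  · rw [sup_eq_left.2 (fun x hx => hB hx)] at h
    exact subgroupOf_eq_top.1 h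

theorem res_sup_bT : Cfsg.pResidualOf p X ⊔ bT T = X := by
  obtain ⟨P, hP⟩ := mb.sit.sylow
  have h := res_sup_sylow X P
  rwa [hP, Subgroup.subgroupOf, Subgroup.map_comap_eq, Subgroup.range_subtype, inf_eq_right.2 mb.le] at h

theorem res_sup_sylow : Cfsg.pResidualOf p X ⊔ (T : Subgroup G) = ⊤ := by
  refine top_le_iff.1 (mb.gen.ge.trans (sup_le ?_ le_sup_right))
  conv_lhs => rw [← mb.res_sup_bT]
  exact sup_le_sup_left inf_le_left _

theorem res_not_le_cent : ¬ Cfsg.pResidualOf p X ≤ centralizer (vQ p G : Set G) := by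
  intro h
  refine PushAmalgam.Sit.not_le_pCore mb.sit ?_
  have h1 : Cfsg.pResidualOf p X ≤ q0 T := mb.inf_cent ▸ le_inf (Push.res_le X) h
  have hXB : X ≤ bT T := mb.res_sup_bT.ge.trans (sup_le (h1.trans inf_le_left) le_rfl)
  haveI : ((bT T).subgroupOf X).Normal := by
    rw [subgroupOf_eq_top.2 hXB]; infer_instance
  exact CfsgLib.PGroup.le_pCore inferInstance
    ((T.2.to_le inf_le_left : IsPGroup p ↥(bT T)).comap_of_injective X.subtype X.subtype_injective)

/-- `[O^p(X), B] = O^p(X)`. -/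
theorem res_comm_bT : ⁅Cfsg.pResidualOf p X, bT T⁆ = Cfsg.pResidualOf p X := by
  set Ex := Cfsg.pResidualOf p X
  have hN : X ≤ normalizer (Ex : Set G) :=
    le_normalizer.trans (CfsgLib.Char.TW.normalizer_le_pResidualOf p X)
  have hle : ⁅Ex, bT T⁆ ≤ Ex :=
    CfsgLib.BaumannBlock.commutator_le_of_normalizes (mb.le.trans hN)
  refine le_antisymm hle ?_
  set K := ⁅Ex, bT T⁆
  have hKN : X ≤ normalizer (K : Set G) := by
    conv_lhs => rw [← mb.res_sup_bT]
    exact sup_le (normalizer_commutator_ge_left Ex (bT T))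
      (normalizer_commutator_ge_right Ex (bT T))
  haveI hKn : (K.subgroupOf X).Normal :=
    (Subgroup.normal_subgroupOf_iff_le_normalizer (hle.trans (Push.res_le X))).2 hKN
  obtain ⟨f, hf⟩ : ∃ f, f = QuotientGroup.mk' (K.subgroupOf X) := ⟨_, rfl⟩
  have hker : ∀ w : ↥X, f w = 1 ↔ (w : G) ∈ K := fun w => by
    rw [hf]; exact QuotientGroup.eq_one_iff w
  haveI hn : ((((bT T).subgroupOf X).map f).comap f).Normal := by
    refine Subgroup.Normal.comap ⟨?_⟩ f
    rintro _ ⟨b, hb, rfl⟩ g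
    obtain ⟨w, rfl⟩ : ∃ w, f w = g := hf ▸ QuotientGroup.mk'_surjective _ g
    have hw : (w : G) ∈ Ex ⊔ bT T := mb.res_sup_bT.ge w.2
    obtain ⟨e, he, b', hb', hwe⟩ := CfsgLib.Coprime.mem_sup_exists (mb.le.trans hN) hw
    refine ⟨⟨b' * b * b'⁻¹, X.mul_mem (X.mul_mem (mb.le hb') b.2) (X.inv_mem (mb.le hb'))⟩,
      (bT T).mul_mem ((bT T).mul_mem hb' hb) ((bT T).inv_mem hb'), ?_⟩
    have hbb : b' * b * b'⁻¹ ∈ bT T := (bT T).mul_mem ((bT T).mul_mem hb' hb) ((bT T).inv_mem hb')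
    rw [← map_inv, ← map_mul, ← map_mul, ← inv_mul_eq_one, ← map_inv, ← map_mul, hker]
    have h1 := K.inv_mem (commutator_mem_commutator he ((bT T).inv_mem hbb))
    simp only [Subgroup.coe_mul, Subgroup.coe_inv, commutatorElement_def, hwe] at h1 ⊢
    convert h1 using 1
    rw [← hwe]; group
  have hNtop : ((((bT T).subgroupOf X).map f).comap f) = ⊤ := by
    have hle' : (bT T).subgroupOf X ≤ (((bT T).subgroupOf X).map f).comap f := Subgroup.le_comap_map _ _
    rcases mb.sit.sup_or ((((bT T).subgroupOf X).map f).comap f) with h | h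
    · exact absurd ((le_inf le_rfl hle').trans h) (PushAmalgam.Sit.not_le_pCore mb.sit)
    · rwa [sup_eq_left.2 hle'] at h
  refine res_le_of fun x hx ho => ?_
  obtain ⟨b, hb, hbe⟩ := mem_comap.1 (hNtop.ge (mem_top (⟨x, hx⟩ : ↥X)))
  refine (hker ⟨x, hx⟩).1 ?_
  obtain ⟨j, hj⟩ := (T.2.to_le inf_le_left : IsPGroup p ↥(bT T)) ⟨b, hb⟩
  have h1 : f ⟨x, hx⟩ ^ p ^ j = 1 := by
    rw [← hbe, ← map_pow, show b ^ p ^ j = 1 from Subtype.ext (congrArg Subtype.val hj :), map_one]
  exact orderOf_eq_one_iff.1 (Nat.eq_one_of_dvd_coprimes (Nat.Coprime.pow_right j ho)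
    ((orderOf_map_dvd f _).trans (orderOf_mk x hx).dvd) (orderOf_dvd_of_pow_eq_one h1))

end Member

namespace Data

variable (d : Data T M m q n r S E)
include d

theorem parts_conj (i : Fin r) {h : H} (hh : h ∈ ⨆ j, E j) : conjBy h (E i) = E i := by
  refine conjBy_eq_iff.2 ((?_ : (⨆ j, E j) ≤ normalizer (E i : Set H)) hh)
  refine iSup_le fun j => ?_
  by_cases hj : j = i
  · subst hj; exact le_normalizer
  · intro y hy
    exact centralizer_le_normalizer _ (mem_centralizer_iff.2 fun z hz => (d.frame.parts.com j i hj y hy z hz).symm)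

theorem exists_root_in (i : Fin r) : ∃ A, Root U p q A ∧ A ≤ (S : Subgroup H) ∧ A ≤ E i := by
  obtain ⟨A, hA⟩ := d.frame.exists_root
  obtain ⟨R, hR⟩ := hA.el.pgroup.exists_le_sylow
  obtain ⟨g, hg⟩ := MulAction.exists_smul_eq H R S
  have hgS : conjBy g A ≤ (S : Subgroup H) := by rw [← hg]; exact Subgroup.map_mono hR
  obtain ⟨k, hk⟩ := d.frame.covered _ (hA.conj g)
  obtain ⟨t, ht, htk⟩ := d.frame.parts.trans k i
  exact ⟨_, (hA.conj g).conj t, conjBy_le_iff.2 fun a ha => mul_mem (mul_mem ht (hgS ha)) (inv_mem ht),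
    htk ▸ conjBy_mono hk⟩

/-- Every component has a member. -/
theorem exists_member_at (i : Fin r) :
    ∃ (A L R : Subgroup H) (g : H) (F : Type) (_ : Field F) (_ : Fintype F) (X : Subgroup G),
      Pair U p q (S : Subgroup H) (E i) A L R g ∧ Fintype.card F = q ∧ Member T m E i L F X := by
  obtain ⟨A, hA, hAS, hAi⟩ := d.exists_root_in i
  exact ⟨A, d.exists_member hA hAS hAi⟩

/-- `O^p(G)` lies in a normal subgroup containing the residual of a member. -/
theorem res_top_le {i : Fin r} {L : Subgroup H} {F : Type} [Field F] [Fintype F] {X : Subgroup G}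
    (mb : Member T m E i L F X) {N : Subgroup G} [N.Normal] (h : Cfsg.pResidualOf p X ≤ N) :
    Cfsg.pResidualOf p (⊤ : Subgroup G) ≤ N := by
  refine res_le_of fun x _ ho => ?_
  have hNT : N ⊔ (T : Subgroup G) = ⊤ :=
    top_le_iff.1 (mb.res_sup_sylow.ge.trans (sup_le_sup_right h _))
  obtain ⟨y, hy, t, ht, rfl⟩ := mem_sup_of_normal_left.1 (hNT.ge (mem_top x))
  obtain ⟨j, hj⟩ := T.2 ⟨t, ht⟩
  have h1 : ((y * t : G) : G ⧸ N) ^ p ^ j = 1 := by
    rw [QuotientGroup.mk_mul, (QuotientGroup.eq_one_iff y).2 hy, one_mul, ← QuotientGroup.mk_pow,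
      show t ^ p ^ j = 1 from congrArg Subtype.val hj, QuotientGroup.mk_one]
  exact (QuotientGroup.eq_one_iff (y * t)).1 (orderOf_eq_one_iff.1 (Nat.eq_one_of_dvd_coprimes
    (Nat.Coprime.pow_right j ho) (orderOf_map_dvd (QuotientGroup.mk' N) _) (orderOf_dvd_of_pow_eq_one h1)))

theorem wPart_le_wAll (i : Fin r) : wPart m E i ≤ wAll m E := sub_mono (commS_mono (le_iSup E i))

theorem wAll_normal : (wAll m E).Normal := by
  refine normalizer_eq_top_iff.1 (top_le_iff.1 fun x _ => mem_normalizer_sub fun u hu => smul_mem_commS ?_ hu)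
  refine conjBy_eq_of_le ?_
  rw [conjBy_iSup]
  refine iSup_le fun j => ?_
  obtain ⟨k, hk⟩ := d.frame.parts.perm (proj m x) j
  exact hk.le.trans (le_iSup E k)

theorem wAll_le_q0 : wAll m E ≤ q0 T := (sub_le_vQ _).trans d.vQ_le

theorem q0_pgroup : IsPGroup p ↥(q0 T) := T.2.to_le (inf_le_left.trans inf_le_left)

/-- `[O_p(G), O^p(G)] ≤ B`. -/
theorem pCore_comm_res {x z : G} (hx : x ∈ Cfsg.pResidualOf p (⊤ : Subgroup G))
    (hz : z ∈ Cfsg.pCore p G) : ⁅x, z⁆ ∈ q0 T := by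
  haveI := d.q0_normal
  haveI := CfsgLib.Coprime.pCore_normal' (G := G) p
  haveI := centMod_normal (Cfsg.pCore p G) (q0 T)
  obtain ⟨i⟩ : Nonempty (Fin r) := ⟨⟨0, d.frame.parts.pos⟩⟩
  obtain ⟨A, L, R, g, F, _, _, X, -, -, mb⟩ := d.exists_member_at i
  have hB : bT T ≤ centMod (Cfsg.pCore p G) (q0 T) := fun b hb => mem_centMod.2 fun z hz => by
    rw [← commutatorElement_inv z b]
    exact inv_mem (d.pCore_comm (commutator_mem_commutator hz hb))
  exact mem_centMod.1 (d.res_top_le mb ((res_le X).trans (mb.le_of_normal hB)) hx) z hz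

theorem vQ_comm {x : G} (hx : x ∈ vQ p G) {z : G} (hz : z ∈ Cfsg.pCore p G) : ⁅x, z⁆ = 1 :=
  commutatorElement_eq_one_iff_mul_comm.2
    (mem_centralizer_iff.1 (Glue.Setting.omega_le_centralizer hx) z hz).symm

end Data

end CfsgLib.CFun.MinParab.Push
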