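import Cfsg.Agent.Lib.CFun.MinParab.Push.One

/-!
# Pushing up with one natural step: small elements of the Baumann subgroup over the roots

The elements of `B` of order `p` with at most `q` conjugates in `B` generate a characteristic subgroup. It
contains `[V, E]`, so it is not inside `O_p(G)`; hence every root of the image of `T` is met by an element of
`B` which moves `B` only inside `[V, E i]`.
-/

set_option autoImplicit false
set_option linter.unusedSectionVars false
set_option linter.style.haveILetI false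

open Subgroup
open CfsgLib.Char.NatSL (fixS mem_fixS fixS_mono)
open CfsgLib.Fusion (conjBy mem_conjBy conj_mem_conjBy conjBy_le_iff conjBy_eq_iff conjBy_conjBy conjBy_mono
  conjBy_eq_of_le)
open scoped commutatorElement MatrixGroups

namespace CfsgLib.CFun.MinParab.Push

open Rec Off

universe u v w

variable {G : Type u} [Group G] [Finite G] {p : ℕ} [hp : Fact p.Prime] {T : Sylow p G} {M : Subgroup G}
  {H : Type v} [Group H] [Finite H] {U : Type w} [AddCommGroup U] [Finite U] [DistribMulAction H U]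
  {m : Glue.Mdl (vQ p G) ⊤ H U} {q n r : ℕ} {S : Sylow p H} {E : Fin r → Subgroup H}

/-- The subgroup generated by the elements of order `p` of `D` with at most `q` conjugates. -/
def smallGen (p q : ℕ) (D : Subgroup G) : Subgroup G :=
  closure {b : G | b ∈ D ∧ b ^ p = 1 ∧ (centralizer ({b} : Set G)).relIndex D ≤ q}

theorem smallGen_le (D : Subgroup G) : smallGen p q D ≤ D := (closure_le _).2 fun _ h => h.1

theorem smallGen_char (D : Subgroup G) : ((smallGen p q D).subgroupOf D).Characteristic := by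
  have e : (smallGen p q D).subgroupOf D =
      closure {b : ↥D | b ^ p = 1 ∧ (centralizer ({b} : Set ↥D)).index ≤ q} := by
    refine map_injective D.subtype_injective ?_
    rw [map_subgroupOf_eq_of_le (smallGen_le D), MonoidHom.map_closure, smallGen]
    congr 1
    have hc : ∀ b : ↥D, (centralizer ({(b : G)} : Set G)).subgroupOf D = centralizer ({b} : Set ↥D) := fun b => by
      ext y
      rw [mem_subgroupOf, mem_centralizer_singleton_iff, mem_centralizer_singleton_iff, Subtype.ext_iff]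
      rfl
    ext g
    constructor
    · rintro ⟨hg, hp', hi⟩
      refine ⟨⟨g, hg⟩, ⟨Subtype.ext hp', ?_⟩, rfl⟩
      rw [← hc]
      exact hi
    · rintro ⟨b, ⟨hp', hi⟩, rfl⟩
      refine ⟨b.2, congrArg Subtype.val hp', ?_⟩
      rw [← hc] at hi
      exact hi
  rw [e, characteristic_iff_map_le]
  intro φ
  rw [MonoidHom.map_closure]
  refine (closure_le _).2 ?_
  rintro _ ⟨b, ⟨hp', hi⟩, rfl⟩
  refine subset_closure ⟨by rw [← map_pow, hp', map_one], ?_⟩
  have hcm : centralizer ({φ.toMonoidHom b} : Set ↥D) = (centralizer ({b} : Set ↥D)).map φ.toMonoidHom := by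
    ext y
    constructor
    · intro hy
      refine ⟨φ.symm y, mem_centralizer_singleton_iff.2 (φ.injective ?_), φ.apply_symm_apply y⟩
      rw [map_mul, map_mul, φ.apply_symm_apply]
      exact mem_centralizer_singleton_iff.1 hy
    · rintro ⟨z, hz, rfl⟩
      refine mem_centralizer_singleton_iff.2 ?_
      rw [← map_mul, ← map_mul, mem_centralizer_singleton_iff.1 hz]
  rw [hcm]
  exact (index_map_equiv _ φ).trans_le hi

namespace Data

variable (d : Data T M m q n r S E)
include d

theorem mem_fixS_all {β : H} (hβ : β ∈ ⨆ j, E j) (h : ∀ j, ∀ v ∈ CFun.MinParab.commS U (E j), β • v = v) :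
    β = 1 := by
  refine d.ctx.faith β fun v => ?_
  have hle : fixS U (⨆ j, E j) ⊔ (⨆ j, CFun.MinParab.commS U (E j)) ≤
      AddMonoidHom.eqLocus (DistribMulAction.toAddMonoidHom U β) (AddMonoidHom.id U) :=
    sup_le (fun w hw => mem_fixS.1 hw β hβ) (iSup_le fun j w hw => h j w hw)
  exact hle (d.frame.parts.span.ge (AddSubgroup.mem_top v))

/-- The components of an element of order `p` of the product. -/
theorem exists_component {β : H} (hβ : β ∈ ⨆ j, E j) (hp' : β ^ p = 1) (j : Fin r) :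
    ∃ e ∈ E j, e ^ p = 1 ∧ (∀ v ∈ CFun.MinParab.commS U (E j), β • v = e • v) ∧
      ∀ u : U, β • u = u → e • u = u := by
  obtain ⟨hconj, e, he, hev⟩ := d.frame.iSup_le_inner j hβ
  have hstab : ∀ v ∈ CFun.MinParab.commS U (E j), β • v ∈ CFun.MinParab.commS U (E j) := fun v hv =>
    Push.smul_mem_commS hconj hv
  have hpow : ∀ k : ℕ, ∀ v ∈ CFun.MinParab.commS U (E j), β ^ k • v = e ^ k • v := by
    intro k
    induction k with
    | zero => simp
    | succ k ih =>
      intro v hv
      rw [pow_succ, mul_smul, ih _ (hstab v hv), hev v hv, ← mul_smul, ← pow_succ]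
  have hep : e ^ p = 1 := d.frame.eq_one d.ctx (pow_mem he p) fun v hv => by
    rw [← hpow p v hv, hp', one_smul]
  refine ⟨e, he, hep, hev, fun u hu => ?_⟩
  obtain ⟨w, hw, f, hf, rfl⟩ := AddSubgroup.mem_sup.1
    (d.frame.full j ▸ AddSubgroup.mem_top u : u ∈ CFun.MinParab.commS U (E j) ⊔ fixS U (E j))
  have h1 : e • w - w = f - β • f := by
    rw [smul_add, hev w hw] at hu
    linear_combination (norm := abel) hu
  have h2 : e • w - w ∈ fixS U (E j) := by
    rw [h1]
    refine AddSubgroup.sub_mem _ hf fun g hg => ?_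
    have hg' : β⁻¹ * g * β ∈ E j := mem_conjBy.1 (hconj.ge hg)
    calc g • β • f = β • (β⁻¹ * g * β) • f := by rw [← mul_smul, ← mul_smul]; congr 1; group
      _ = β • f := by rw [mem_fixS.1 hf _ hg']
  rw [smul_add, d.frame.nofix j e he hep w h2, mem_fixS.1 hf e he]

/-- An element of order `p` of a component moves a subgroup of index at least `q`. -/
theorem card_fix_le {j : Fin r} {e : H} (he : e ∈ E j) (hep : e ^ p = 1) (he1 : e ≠ 1) :
    q * Nat.card ↥(fixS U (zpowers e)) ≤ Nat.card U := by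
  rcases d.frame.least.two_le.eq_or_lt with hq | hq
  · subst hq
    have hne : fixS U (zpowers e) ≠ ⊤ := fun h => he1 (d.ctx.faith e fun v =>
      mem_fixS.1 (h.ge (AddSubgroup.mem_top v)) e (mem_zpowers e))
    have h1 := AddSubgroup.card_mul_index (fixS U (zpowers e))
    have h2 : 2 ≤ (fixS U (zpowers e)).index := by
      have := AddSubgroup.index_ne_zero_of_finite (H := fixS U (zpowers e))
      have := mt AddSubgroup.index_eq_one.1 hne
      omega
    calc 2 * Nat.card ↥(fixS U (zpowers e)) ≤ (fixS U (zpowers e)).index * _ := Nat.mul_le_mul_right _ h2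
      _ = _ := by rw [mul_comm, h1]
  · rcases d.nat j with ⟨-, hqn, hE⟩ | ⟨h, -, -⟩
    swap
    · omega
    obtain ⟨A, hA, -, hAj⟩ := d.exists_root_in j
    have hz : IsPGroup p ↥(zpowers e) := fun a => ⟨1, Subtype.ext (by
      obtain ⟨k, hk⟩ := mem_zpowers_iff.1 a.2
      rw [pow_one, Subgroup.coe_pow, ← hk, ← zpow_natCast, ← zpow_mul, mul_comm, zpow_mul, zpow_natCast, hep,
        one_zpow, Subgroup.coe_one])⟩
    obtain ⟨x, -, hx⟩ := exists_conj_le hE hqn d.one_le hA hAj hz (zpowers_le.2 he)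
    have hA' : Root U p q (conjBy x⁻¹ A) := hA.conj x⁻¹
    have heA : e ∈ conjBy x⁻¹ A := by
      rw [mem_conjBy, inv_inv]
      exact hx (conj_mem_conjBy (mem_zpowers e))
    have hle : fixS U (zpowers e) ≤ fixS U (conjBy x⁻¹ A) := fun u hu =>
      d.sys.sep hA' heA he1 (mem_fixS.1 hu e (mem_zpowers e))
    rw [hA'.card_V d.ctx]
    exact Nat.mul_le_mul_left _ (AddSubgroup.card_le_of_le hle)

/-- An element of order `p` of the product moving a subgroup of index at most `q` lies in one component. -/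
theorem mem_one_component {β : H} (hβ : β ∈ ⨆ j, E j) (hp' : β ^ p = 1) (hne : β ≠ 1)
    (hle : Nat.card U ≤ q * Nat.card ↥(fixS U (zpowers β))) : ∃ i, β ∈ E i := by
  choose e he hep hev hefix using fun j => d.exists_component hβ hp' j
  obtain ⟨i, hi⟩ : ∃ i, e i ≠ 1 := by
    by_contra! h
    exact hne (d.mem_fixS_all hβ fun j v hv => by rw [hev j v hv, h j, one_smul])
  refine ⟨i, ?_⟩
  have hothers : ∀ k, k ≠ i → e k = 1 := by
    intro k hki
    by_contra hk
    have hsup : fixS U (zpowers (e i)) ⊔ fixS U (zpowers (e k)) = ⊤ := by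
      refine top_le_iff.1 (d.frame.parts.span.ge.trans (sup_le ?_ (iSup_le fun j => ?_)))
      · refine le_sup_of_le_left (fixS_mono (zpowers_le.2 ?_))
        exact le_iSup E i (he i)
      · by_cases hj : j = i
        · subst hj
          exact le_sup_of_le_right ((d.frame.parts.cross j k (Ne.symm hki)).trans (fixS_mono (zpowers_le.2 (he k))))
        · exact le_sup_of_le_left ((d.frame.parts.cross j i hj).trans (fixS_mono (zpowers_le.2 (he i))))
    have hinf : fixS U (zpowers β) ≤ fixS U (zpowers (e i)) ⊓ fixS U (zpowers (e k)) := fun u hu => by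
      have hu' := mem_fixS.1 hu β (mem_zpowers β)
      have key : ∀ j, u ∈ fixS U (zpowers (e j)) := fun j g hg =>
        MulAction.mem_stabilizer_iff.1 ((zpowers_le.2
          (show e j ∈ MulAction.stabilizer H u from hefix j u hu')) hg)
      exact ⟨key i, key k⟩
    have h1 := Char.NatSL.card_sup_mul_card_inf (fixS U (zpowers (e i))) (fixS U (zpowers (e k)))
    rw [hsup, AddSubgroup.card_top] at h1
    have h2 := Nat.mul_le_mul_left q (AddSubgroup.card_le_of_le hinf)
    have h3 := d.card_fix_le (he i) (hep i) hi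
    have h4 := d.card_fix_le (he k) (hep k) hk
    have hU : 0 < Nat.card U := Nat.card_pos
    have h5 : q * q * (Nat.card U * Nat.card U) ≤ q * (Nat.card U * Nat.card U) := by
      calc q * q * (Nat.card U * Nat.card U)
          ≤ q * q * (Nat.card U * (q * Nat.card ↥(fixS U (zpowers (e i)) ⊓ fixS U (zpowers (e k))))) :=
            Nat.mul_le_mul_left _ (Nat.mul_le_mul_left _ (hle.trans h2))
        _ = q * (q * Nat.card ↥(fixS U (zpowers (e i))) * (q * Nat.card ↥(fixS U (zpowers (e k))))) := by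
            rw [show Nat.card U * (q * Nat.card ↥(fixS U (zpowers (e i)) ⊓ fixS U (zpowers (e k)))) =
              q * (Nat.card U * Nat.card ↥(fixS U (zpowers (e i)) ⊓ fixS U (zpowers (e k)))) by ring, h1]
            ring
        _ ≤ _ := Nat.mul_le_mul_left _ (Nat.mul_le_mul h3 h4)
    have h6 : q * q ≤ q := Nat.le_of_mul_le_mul_right h5 (Nat.mul_pos hU hU)
    have h7 := d.frame.least.two_le
    nlinarith
  have heq : β * (e i)⁻¹ = 1 := by
    refine d.mem_fixS_all (mul_mem hβ (inv_mem (le_iSup E i (he i)))) fun j v hv => ?_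
    rw [mul_smul]
    by_cases hj : j = i
    · subst hj
      rw [hev j _ (CFun.MinParab.smul_mem_commS_of_mem (inv_mem (he j)) hv), smul_inv_smul]
    · rw [mem_fixS.1 (d.frame.parts.cross j i hj hv) _ (inv_mem (he i)), hev j v hv, hothers j hj, one_smul]
  rw [mul_inv_eq_one.1 heq]
  exact he i

variable (hone : IsOne T)
include hone

/-- `[V, E]` is generated by elements with few conjugates in `B`. -/
theorem wAll_le_small : wAll m E ≤ smallGen p q (bT T) := by
  classical
  have hTN : (T : Subgroup G) ≤ normalizer (smallGen p q (bT T) : Set G) :=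
    sylow_le_normalizer_char (smallGen_le _) (smallGen_char _)
  set N := smallGen p q (bT T)
  let U₀ : AddSubgroup U :=
    { carrier := {u | m.val u ∈ N}
      zero_mem' := by show m.val 0 ∈ N; rw [m.val_zero]; exact one_mem _
      add_mem' := fun {a b} ha hb => by show m.val (a + b) ∈ N; rw [m.val_add]; exact mul_mem ha hb
      neg_mem' := fun {a} ha => by show m.val (-a) ∈ N; rw [m.val_neg]; exact inv_mem ha }
  suffices h : ∀ i, CFun.MinParab.commS U (E i) ≤ U₀ by
    intro a ha
    obtain ⟨u, hu, rfl⟩ := m.mem_sub.1 ha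
    have hle : CFun.MinParab.commS U (⨆ i, E i) ≤ U₀ := CFun.MinParab.commS_le_iff.2
      (iSup_le fun i => CFun.MinParab.commS_le_iff.1 (h i))
    exact hle hu
  intro i
  obtain ⟨A, L, R, g, F, _, _, X, hP, -, -⟩ := d.exists_member_at i
  have hs := d.sys
  have hgA : Root U p q (conjBy g A) := hP.root.conj g
  have hgAL : conjBy g A ≤ L := le_sup_right.trans hP.gen.le
  have hAL : A ≤ L := le_sup_left.trans hP.gen.le
  have hBimg : img m (bT T) = A ⊔ R := d.bT_roots.trans hP.split.symm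
  -- few conjugates
  have hsmall : ∀ u : U, (∀ x ∈ R, x • u = u) → u ∈ U₀ := by
    intro u hu
    refine subset_closure ⟨d.vQ_le.trans inf_le_left (m.val_mem u), vQ_ea.2 _ (m.val_mem u), ?_⟩
    have e : centralizer ({m.val u} : Set G) = (MulAction.stabilizer H u).comap (proj m) := by
      ext y
      rw [mem_comap, MulAction.mem_stabilizer_iff, ← m.val_inj.eq_iff, val_proj, mem_centralizer_singleton_iff,
        mul_inv_eq_iff_eq_mul]
    rw [e, relIndex_comap, ← img_eq_map, hBimg]
    set P := MulAction.stabilizer H u ⊓ (A ⊔ R)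
    have hle : A ⊔ R ≤ A ⊔ P := sup_le le_sup_left (le_sup_of_le_right (le_inf (fun x hx => hu x hx) le_sup_right))
    have hel : El p (A ⊔ R) := hBimg ▸ d.bT_el
    have h1 := Subgroup.relIndex_mul_relIndex ⊥ P (A ⊔ R) bot_le inf_le_right
    rw [relIndex_bot_left, relIndex_bot_left, inf_relIndex_right] at h1
    have h2 : Nat.card ↥(A ⊔ R) ≤ Nat.card ↥A * Nat.card ↥P :=
      (Subgroup.card_le_of_le hle).trans
        (card_sup_le fun a ha b hb => hel.comm a (mem_sup_left ha) b hb.2)
    rw [hP.root.card] at h2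
    refine Nat.le_of_mul_le_mul_left ?_ (Nat.card_pos : 0 < Nat.card ↥P)
    rw [mul_comm _ q]
    exact h1.trans_le h2
  have hA0 : CFun.MinParab.commS U A ≤ U₀ := fun u hu => hsmall u fun x hx => by
    have hle : R ≤ MulAction.stabilizer H u := hP.R_gen _ fun B hB hBR y hy =>
      hs.le_of_com hP.root hB (hP.com.mono hAL hBR) hu y hy
    exact hle hx
  have hg0 : CFun.MinParab.commS U (conjBy g A) ≤ U₀ := fun u hu => hsmall u fun x hx => by
    have hle : R ≤ MulAction.stabilizer H u := hP.R_gen _ fun B hB hBR y hy =>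
      hs.le_of_com hgA hB (hP.com.mono hgAL hBR) hu y hy
    exact hle hx
  have hL0 : CFun.MinParab.commS U L ≤ U₀ := by
    rw [← hP.gen, CFun.MinParab.commS_sup]
    exact sup_le hA0 hg0
  let K : Subgroup H :=
    { carrier := {h | ∀ u, u ∈ U₀ ↔ h • u ∈ U₀}
      one_mem' := fun u => by rw [one_smul]
      mul_mem' := fun {a b} ha hb u => by rw [mul_smul]; exact (hb u).trans (ha _)
      inv_mem' := fun {a} ha u => by rw [ha (a⁻¹ • u), smul_inv_smul] }
  have hLK : L ≤ K := fun l hl u => ⟨fun h => by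
      have := U₀.add_mem (hL0 (sub_mem_commS hl u)) h; rwa [sub_add_cancel] at this,
    fun h => by
      have := U₀.sub_mem h (hL0 (sub_mem_commS hl u)); rwa [sub_sub_cancel] at this⟩
  have hSK : (S : Subgroup H) ≤ K := by
    rw [d.sylow]
    intro h hh
    obtain ⟨t, ht, rfl⟩ := (img_eq_map m _).le hh
    intro u
    show m.val u ∈ N ↔ m.val (proj m t • u) ∈ N
    rw [val_proj]
    exact mem_normalizer_iff.1 (hTN ht) _
  have hEK : E i ≤ K := hP.gen_S.trans (sup_le hLK hSK)
  rw [CFun.MinParab.commS_le_iff]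
  refine d.frame.gen i A hP.root (hAL.trans hP.part_le) _ fun x hx => ?_
  refine conjBy_le_iff.2 fun a ha v => ?_
  have h1 : a • (x⁻¹ • v) - x⁻¹ • v ∈ U₀ := hA0 (sub_mem_commS ha _)
  rw [show (x * a * x⁻¹) • v - v = x • (a • (x⁻¹ • v) - x⁻¹ • v) by
    rw [smul_sub, smul_inv_smul, mul_smul, mul_smul]]
  exact (hEK hx _).1 h1

/-- An element of order `p` of `B` outside `O_p(G)` with few conjugates. -/
theorem exists_small : ∃ b ∈ bT T, b ∉ q0 T ∧ b ^ p = 1 ∧ (centralizer ({b} : Set G)).relIndex (bT T) ≤ q := by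
  classical
  by_contra! hall
  haveI := Glue.Setting.omega_normal (G := G) (p := p)
  haveI := d.wAll_normal
  obtain ⟨N, hN⟩ : ∃ N, N = smallGen p q (bT T) := ⟨_, rfl⟩
  have hNq : N ≤ q0 T := hN ▸ (closure_le _).2 fun b hb =>
    by_contra fun h => absurd hb.2.2 (not_le.2 (hall b hb.1 h hb.2.1))
  have hWN : wAll m E ≤ N := hN ▸ d.wAll_le_small hone
  obtain ⟨i⟩ : Nonempty (Fin r) := ⟨⟨0, d.frame.parts.pos⟩⟩
  obtain ⟨A, L, R, g, F, _, _, X, -, -, mb⟩ := d.exists_member_at i
  refine d.hyp.noChar N (hN ▸ smallGen_le _) (fun h => ?_) (hN ▸ smallGen_char _)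
    (normalizer_eq_top_iff.1 (top_le_iff.1 (mb.res_sup_sylow.ge.trans
      (sup_le ?_ (hN ▸ sylow_le_normalizer_char (smallGen_le _) (smallGen_char _))))))
  · refine mb.res_not_le_cent ?_
    intro x hx
    have h1 : ⁅vQ p G, Cfsg.pResidualOf p X⁆ = ⊥ := by
      rw [← (d.member_step hone mb).1]
      exact le_bot_iff.1 (((sub_mono (commS_mono (mb.part_le.trans (le_iSup E i)))).trans hWN).trans h.le)
    exact le_centralizer_iff.1 (commutator_eq_bot_iff_le_centralizer.1 h1) hx
  · intro x hx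
    refine conjBy_eq_iff.1 (conjBy_eq_of_le ?_)
    rintro _ ⟨a, ha, rfl⟩
    show x * a * x⁻¹ ∈ N
    have h1 := hWN (d.res_comm_wAll hone (res_mono le_top hx) (hNq ha).2)
    have := mul_mem h1 ha
    rwa [commutatorElement_def, inv_mul_cancel_right] at this

/-- Some root is met by an element moving `B` only inside `[V, E i]`. -/
theorem exists_lift_one : ∃ i A, Root U p q A ∧ A ≤ (S : Subgroup H) ∧ A ≤ E i ∧ ∃ b ∈ bT T,
    b ^ p = 1 ∧ proj m b ∈ A ∧ proj m b ≠ 1 ∧ ∀ y ∈ bT T, ⁅b, y⁆ ∈ wPart m E i := by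
  classical
  haveI := Glue.Setting.omega_normal (G := G) (p := p)
  obtain ⟨b, hb, hbq, hbp, hidx⟩ := d.exists_small hone
  obtain ⟨β, hβ⟩ : ∃ β, β = proj m b := ⟨_, rfl⟩
  have hβimg : β ∈ img m (bT T) := hβ ▸ (img_eq_map m _).ge (mem_map_of_mem _ hb)
  have hβ1 : β ≠ 1 := fun h => hbq (d.bT_inf_cent.le ⟨hb, (proj_eq_one m).1 (hβ ▸ h)⟩)
  have hβp : β ^ p = 1 := d.bT_el.pow β hβimg
  set C := centralizer ({b} : Set G) ⊓ bT T
  set P := centralizer ({b} : Set G) ⊓ vQ p G
  have hVB : vQ p G ≤ bT T := d.vQ_le.trans inf_le_left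
  have hB := Subgroup.relIndex_mul_relIndex ⊥ C (bT T) bot_le inf_le_right
  rw [relIndex_bot_left, relIndex_bot_left, inf_relIndex_right] at hB
  have hcardV : Nat.card U = Nat.card ↥(vQ p G) := Nat.card_congr (Equiv.ofBijective
    (fun u => (⟨m.val u, m.val_mem u⟩ : ↥(vQ p G)))
    ⟨fun a b h => m.val_inj (congrArg Subtype.val h), fun v => (m.exists_val v v.2).imp fun u hu => Subtype.ext hu⟩)
  have hsub : P = m.sub (fixS U (zpowers β)) := by
    ext v
    constructor
    · rintro ⟨hc, hv⟩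
      obtain ⟨u, rfl⟩ := m.exists_val v hv
      refine m.val_mem_sub.2 fun g hg => MulAction.mem_stabilizer_iff.1 ((zpowers_le.2 ?_) hg)
      show β • u = u
      refine m.val_inj ?_
      rw [hβ, val_proj, mul_inv_eq_iff_eq_mul]
      exact (mem_centralizer_singleton_iff.1 hc).symm
    · intro hv
      obtain ⟨u, hu, rfl⟩ := m.mem_sub.1 hv
      refine ⟨mem_centralizer_singleton_iff.2 ?_, m.val_mem u⟩
      have h1 := congrArg m.val (mem_fixS.1 hu β (mem_zpowers β))
      rw [hβ, val_proj, mul_inv_eq_iff_eq_mul] at h1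
      exact h1.symm
  have hcardP : Nat.card ↥P = Nat.card ↥(fixS U (zpowers β)) := by
    rw [hsub]
    exact (Nat.card_congr (Equiv.ofBijective
      (fun u : ↥(fixS U (zpowers β)) => (⟨m.val u, m.val_mem_sub.2 u.2⟩ : ↥(m.sub (fixS U (zpowers β)))))
      ⟨fun a b h => Subtype.ext (m.val_inj (congrArg Subtype.val h)), fun w => by
        obtain ⟨u, hu, he⟩ := m.mem_sub.1 w.2
        exact ⟨⟨u, hu⟩, Subtype.ext he⟩⟩)).symm
  have hCV := CfsgLib.Fusion.card_sup_mul_card_inf C (vQ p G)
  have hinf : C ⊓ vQ p G = P :=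
    le_antisymm (le_inf (inf_le_left.trans inf_le_left) inf_le_right)
      (le_inf (le_inf inf_le_left (inf_le_right.trans hVB)) inf_le_right)
  rw [hinf, hcardP, ← hcardV] at hCV
  have hsupB : C ⊔ vQ p G ≤ bT T := sup_le inf_le_right hVB
  -- the index in `U`
  obtain ⟨i, hi⟩ : ∃ i, β ∈ E i ∧ ∃ A, Root U p q A ∧ A ≤ (S : Subgroup H) ∧ A ≤ E i ∧ β ∈ A := by
    have hle : Nat.card U ≤ q * Nat.card ↥(fixS U (zpowers β)) := by
      refine Nat.le_of_mul_le_mul_left ?_ (Nat.card_pos : 0 < Nat.card ↥C)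
      rw [← hCV]
      calc Nat.card ↥(C ⊔ vQ p G) * Nat.card ↥(fixS U (zpowers β))
          ≤ (Nat.card ↥C * q) * Nat.card ↥(fixS U (zpowers β)) :=
            Nat.mul_le_mul_right _ (((Subgroup.card_le_of_le hsupB).trans hB.ge).trans (Nat.mul_le_mul_left _ hidx))
        _ = _ := by ring
    obtain ⟨i, hi⟩ := d.mem_one_component (d.bT_le hβimg) hβp hβ1 hle
    refine ⟨i, hi, ?_⟩
    rcases d.frame.least.two_le.eq_or_lt with hq | hq
    · have hp2 : p = 2 := by
        rcases d.nat i with ⟨h, -, -⟩ | ⟨-, h, -⟩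
        · omega
        · exact h
      have hord : orderOf β = 2 := by
        have h1 : orderOf β ∣ 2 := hp2 ▸ orderOf_dvd_of_pow_eq_one hβp
        rcases (Nat.dvd_prime Nat.prime_two).1 h1 with h | h
        · exact absurd (orderOf_eq_one_iff.1 h) hβ1
        · exact h
      have hel : El p (zpowers β) := d.bT_el.mono (zpowers_le.2 hβimg)
      refine ⟨zpowers β, ⟨hel, by rw [Nat.card_zpowers, hord, hq], hle⟩, ?_, zpowers_le.2 hi, mem_zpowers β⟩
      exact zpowers_le.2 ((rootsIn_le _) (d.bT_roots ▸ hβimg))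
    · exact ⟨_, (d.bT_linear hq i).2, inf_le_left.trans (d.bT_roots.le.trans (rootsIn_le _)), inf_le_right,
        ⟨hβimg, hi⟩⟩
  obtain ⟨hβi, A, hA, hAS, hAi, hβA⟩ := hi
  have hfix : Nat.card U ≤ q * Nat.card ↥(fixS U (zpowers β)) :=
    hA.off.trans (Nat.mul_le_mul_left _ (AddSubgroup.card_le_of_le (fixS_mono (zpowers_le.2 hβA))))
  have hU : q * Nat.card ↥(fixS U (zpowers β)) ≤ Nat.card U := d.card_fix_le hβi hβp hβ1
  -- `B = C_B(b) V`
  have hBeq : C ⊔ vQ p G = bT T := by
    refine eq_of_le_of_card_ge hsupB ?_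
    refine Nat.le_of_mul_le_mul_right ?_ (Nat.card_pos : 0 < Nat.card ↥(fixS U (zpowers β)))
    rw [hCV, ← hB, mul_assoc]
    exact Nat.mul_le_mul_left _ ((Nat.mul_le_mul_right _ hidx).trans hU)
  refine ⟨i, A, hA, hAS, hAi, b, hb, hbp, hβ ▸ hβA, hβ ▸ hβ1, fun y hy => ?_⟩
  obtain ⟨c, hc, v, hv, rfl⟩ := mem_sup_of_normal_right.1 (hBeq.ge hy)
  have hbc : Commute b c := (mem_centralizer_singleton_iff.1 hc.1).symm
  have hnC : c ∈ normalizer (wPart m E i : Set G) :=
    mem_normalizer_wPart (d.parts_conj i (d.bT_le ((img_eq_map m _).ge (mem_map_of_mem _ hc.2))))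
  rw [show ⁅b, c * v⁆ = ⁅b, c⁆ * (c * ⁅b, v⁆ * c⁻¹) by simp only [commutatorElement_def]; group,
    commutatorElement_eq_one_iff_mul_comm.2 hbc.eq, one_mul]
  exact (mem_normalizer_iff.1 hnC _).1 (comm_mem_sub (hβ ▸ hβi) hv)

/-- Every root of the image of `T` is met by an element moving `B` only inside the component. -/
theorem exists_lift {i : Fin r} {A : Subgroup H} (hA : Root U p q A) (hAS : A ≤ (S : Subgroup H))
    (hAi : A ≤ E i) :
    ∃ b ∈ bT T, b ^ p = 1 ∧ proj m b ∈ A ∧ proj m b ≠ 1 ∧ ∀ y ∈ bT T, ⁅b, y⁆ ∈ wPart m E i := by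
  obtain ⟨i₀, A₀, hA₀, hA₀S, hA₀i, b, hb, hbp, hbA, hb1, hby⟩ := d.exists_lift_one hone
  obtain ⟨s, hs, rfl⟩ := d.dec.conj_roots hA₀ hA hA₀S hAS
  obtain ⟨t, ht, rfl⟩ := (img_eq_map m _).le (d.sylow.le hs)
  obtain ⟨k, hk⟩ := d.frame.parts.perm (proj m t) i₀
  obtain rfl : k = i := d.frame.index_unique hA (hk ▸ conjBy_mono hA₀i) hAi
  have htN : t ∈ normalizer (bT T : Set G) := CfsgLib.BaumannNormal.le_normalizer_baumann T T.2 inf_le_left ht
  refine ⟨t * b * t⁻¹, (mem_normalizer_iff.1 htN b).1 hb, ?_, ?_, ?_, fun y hy => ?_⟩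
  · rw [conj_pow, hbp, mul_one, mul_inv_cancel]
  · rw [map_mul, map_mul, map_inv]
    exact conj_mem_conjBy hbA
  · rw [map_mul, map_mul, map_inv]
    exact fun h => hb1 (conj_eq_one_iff.1 h)
  · have h1 := hby _ ((mem_normalizer_iff''.1 htN y).1 hy)
    obtain ⟨u, hu, he⟩ := m.mem_sub.1 h1
    have hu' : proj m t • u ∈ CFun.MinParab.commS U (E k) := by
      rw [← hk, commS_conjBy]
      exact Char.NatSL.smul_mem_tr hu
    have e : ⁅t * b * t⁻¹, y⁆ = t * ⁅b, t⁻¹ * y * t⁆ * t⁻¹ := by simp only [commutatorElement_def]; group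
    rw [e, ← he, ← val_proj]
    exact m.val_mem_sub.2 hu'

end Data

end CfsgLib.CFun.MinParab.Push
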