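import Cfsg.Agent.Lib.CFun.MinParab.Push.Roots
import Cfsg.Agent.Lib.LocalStructure.Kieler

/-!
# The roots of a Sylow subgroup are conjugate in it

A Sylow 2-subgroup of the symmetric group of degree `2 ^ n + 1` fixes one point and is transitive on the others,
so its transpositions are conjugate. In a linear component a `p`-group contains at most one root.
-/

set_option autoImplicit false
set_option linter.unusedSectionVars false
set_option linter.style.haveILetI false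

open CfsgLib.Fusion (conjBy mem_conjBy conj_mem_conjBy conjBy_le_iff conjBy_eq_iff conjBy_conjBy conjBy_mono
  card_conjBy conjBy_inv_conjBy conjBy_conjBy_inv)

namespace CfsgLib.CFun.MinParab.Push

open Rec Off

/-- A Sylow 2-subgroup of the symmetric group of degree `2 ^ n + 1` fixes a point and is transitive on the
others. -/
theorem perm_sylow_orbit {n : ℕ} (hn : 1 ≤ n) (R : Sylow 2 (Equiv.Perm (Fin (2 ^ n + 1)))) :
    ∃ c : Fin (2 ^ n + 1), (∀ σ ∈ (R : Subgroup (Equiv.Perm (Fin (2 ^ n + 1)))), σ c = c) ∧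
      ∀ a b, a ≠ c → b ≠ c → ∃ σ ∈ (R : Subgroup (Equiv.Perm (Fin (2 ^ n + 1)))), σ a = b := by
  classical
  set P : Subgroup (Equiv.Perm (Fin (2 ^ n + 1))) := (R : Subgroup (Equiv.Perm (Fin (2 ^ n + 1))))
  haveI : Fact (Nat.Prime 2) := ⟨Nat.prime_two⟩
  have hPp : IsPGroup 2 P := R.2
  -- a fixed point
  obtain ⟨c, hc⟩ : ∃ c : Fin (2 ^ n + 1), c ∈ MulAction.fixedPoints ↥P (Fin (2 ^ n + 1)) := by
    by_contra! hno
    have h1 := hPp.card_modEq_card_fixedPoints (Fin (2 ^ n + 1))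
    rw [Nat.card_fin, Set.eq_empty_iff_forall_notMem.2 hno, Nat.card_coe_set_eq, Set.ncard_empty,
      Nat.modEq_zero_iff_dvd] at h1
    have h2 : 2 ∣ 2 ^ n := dvd_pow_self 2 (by omega)
    omega
  have hcfix : ∀ σ ∈ P, σ c = c := fun σ hσ => hc ⟨σ, hσ⟩
  refine ⟨c, hcfix, fun a b ha hb => ?_⟩
  -- the orbit of `a` is everything else
  set O := MulAction.orbit ↥P a
  have hsub : O ⊆ {x | x ≠ c} := by
    rintro _ ⟨σ, rfl⟩ (hx : (σ : Equiv.Perm (Fin (2 ^ n + 1))) a = c)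
    exact ha ((σ : Equiv.Perm (Fin (2 ^ n + 1))).injective (hx.trans (hcfix _ σ.2).symm))
  have hstab : Nat.card ↥(MulAction.stabilizer ↥P a) ∣ (2 ^ n - 1).factorial := by
    set s : Set (Fin (2 ^ n + 1)) := {x | x ≠ c ∧ x ≠ a}
    have hmem : ∀ σ : ↥(MulAction.stabilizer ↥P a), ∀ x, x ∈ s ↔ ((σ : ↥P) : Equiv.Perm _) x ∈ s := by
      intro σ x
      have e1 : ((σ : ↥P) : Equiv.Perm (Fin (2 ^ n + 1))) c = c := hcfix _ (σ : ↥P).2
      have e2 : ((σ : ↥P) : Equiv.Perm (Fin (2 ^ n + 1))) a = a := σ.2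
      simp only [s, Set.mem_setOf_eq]
      constructor
      · rintro ⟨h1, h2⟩
        exact ⟨fun e => h1 (Equiv.injective _ (e.trans e1.symm)), fun e => h2 (Equiv.injective _ (e.trans e2.symm))⟩
      · rintro ⟨h1, h2⟩
        exact ⟨fun e => h1 (e ▸ e1), fun e => h2 (e ▸ e2)⟩
    let f : ↥(MulAction.stabilizer ↥P a) →* Equiv.Perm {x // x ∈ s} :=
      MonoidHom.mk' (fun σ => ((σ : ↥P) : Equiv.Perm (Fin (2 ^ n + 1))).subtypePerm fun x => (hmem σ x).symm)
        fun σ τ => Equiv.ext fun x => rfl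
    have hf : Function.Injective f := by
      intro σ τ h
      refine Subtype.ext (Subtype.ext (Equiv.ext fun x => ?_))
      by_cases hx : x ∈ s
      · exact congrArg Subtype.val (DFunLike.congr_fun h ⟨x, hx⟩)
      · simp only [s, Set.mem_setOf_eq, not_and_or, not_not] at hx
        rcases hx with rfl | rfl
        · rw [hcfix _ (σ : ↥P).2, hcfix _ (τ : ↥P).2]
        · exact (σ.2 : _ = _).trans (τ.2 : _ = _).symm
    have h1 := Subgroup.card_dvd_of_injective f hf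
    rw [Nat.card_perm] at h1
    convert h1 using 2
    have hs : s = ({c, a} : Set (Fin (2 ^ n + 1)))ᶜ := by
      ext x; simp [s]
    rw [Nat.card_coe_set_eq, hs, Set.ncard_compl, Set.ncard_pair (Ne.symm ha), Nat.card_fin]
    omega
  have hO : 2 ^ n ≤ Nat.card ↥O := by
    have horb : Nat.card ↥O * Nat.card ↥(MulAction.stabilizer ↥P a) = Nat.card ↥P := by
      rw [← Nat.card_prod]
      exact Nat.card_congr (MulAction.orbitProdStabilizerEquivGroup ↥P a)
    have hP2 : Nat.card ↥P = 2 ^ ((2 ^ n + 1).factorial).factorization 2 := by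
      rw [R.card_eq_multiplicity, Nat.card_perm, Nat.card_fin]
    have h2n : 1 ≤ 2 ^ n := Nat.one_le_two_pow
    have hfac : (2 ^ n + 1).factorial = (2 ^ n + 1) * (2 ^ n * (2 ^ n - 1).factorial) := by
      rw [Nat.factorial_succ, Nat.mul_factorial_pred (by omega)]
    have hodd : ¬ 2 ∣ 2 ^ n + 1 := by
      have : 2 ∣ 2 ^ n := dvd_pow_self 2 (by omega)
      omega
    have hv : ((2 ^ n + 1).factorial).factorization 2 = n + ((2 ^ n - 1).factorial).factorization 2 := by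
      have hne := Nat.factorial_ne_zero (2 ^ n - 1)
      rw [hfac, Nat.factorization_mul (by omega) (mul_ne_zero (by omega) hne),
        Nat.factorization_mul (by omega) hne, Finsupp.add_apply, Finsupp.add_apply,
        Nat.factorization_eq_zero_of_not_dvd hodd, Nat.prime_two.factorization_pow, Finsupp.single_eq_same,
        zero_add]
    obtain ⟨j, hj⟩ := (hPp.to_subgroup (MulAction.stabilizer ↥P a)).exists_card_eq
    have hjle : j ≤ ((2 ^ n - 1).factorial).factorization 2 := by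
      rw [hj] at hstab
      exact (Nat.prime_two.pow_dvd_iff_le_factorization (Nat.factorial_ne_zero _)).1 hstab
    rw [hP2, hv, hj] at horb
    by_contra hlt
    push Not at hlt
    have h1 : Nat.card ↥O * 2 ^ j < 2 ^ n * 2 ^ j := Nat.mul_lt_mul_of_pos_right hlt (pow_pos (by norm_num) j)
    rw [horb, ← pow_add] at h1
    have := (Nat.pow_lt_pow_iff_right (by norm_num : 1 < 2)).1 h1
    omega
  have heq : O = {x | x ≠ c} := by
    refine Set.eq_of_subset_of_ncard_le hsub ?_ (Set.toFinite _)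
    rw [← Nat.card_coe_set_eq (s := O)]
    refine le_trans (le_of_eq ?_) hO
    have : {x : Fin (2 ^ n + 1) | x ≠ c} = ({c} : Set (Fin (2 ^ n + 1)))ᶜ := by ext x; simp
    rw [this, Set.ncard_compl, Set.ncard_singleton, Nat.card_fin]
    omega
  obtain ⟨σ, hσ⟩ : b ∈ O := heq.ge hb
  exact ⟨σ, σ.2, hσ⟩

variable {H : Type*} [Group H] [Finite H] {V : Type*} [AddCommGroup V] [Finite V] [DistribMulAction H V]
  {p : ℕ} [hp : Fact p.Prime] {T : Sylow p H} {M : Subgroup H} {q n r : ℕ} {E : Fin r → Subgroup H}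

namespace Dec

/-- A root of a symmetric component is a transposition. -/
theorem exists_swap (d : Dec V p 2 n T M E) {i : Fin r} (θ : ↥(E i) ≃* Equiv.Perm (Fin (2 ^ n + 1)))
    (ψ : V →+ (Fin (2 ^ n + 1) → ZMod 2)) (hev : ∀ w, ∑ a, w a = 0 → ∃ v, ψ v = w)
    (he : ∀ (x : ↥(E i)) (v : V) a, ψ ((x : H) • v) a = ψ v ((θ x)⁻¹ a))
    {A : Subgroup H} (hA : Root V p 2 A) (hAi : A ≤ E i) :
    ∃ a b, a ≠ b ∧ ∃ t, ∃ ht : t ∈ A, A = Subgroup.zpowers t ∧ θ ⟨t, hAi ht⟩ = Equiv.swap a b := by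
  classical
  have hk : Odd (2 ^ n + 1) :=
    ⟨2 ^ (n - 1), by rw [← pow_succ', show n - 1 + 1 = n by have := d.one_le; omega]⟩
  obtain ⟨t, ht, ht1⟩ := hA.exists_ne_one d.frame.least
  have htv : t ∈ Tv V p := by show Root V p 2 (Subgroup.zpowers t); rw [hA.eq_zpowers ht ht1]; exact hA
  set σ := θ ⟨t, hAi ht⟩ with hσ
  have hsq : σ * σ = 1 := by
    rw [hσ, ← map_mul, ← map_one θ]
    exact congrArg θ (Subtype.ext (Tv.sq htv))
  have hti : σ⁻¹ = σ := inv_eq_of_mul_eq_one_right hsq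
  obtain ⟨a, b, hab, h⟩ : ∃ a b, a ≠ b ∧ σ = Equiv.swap a b := by
    refine exists_eq_swap hk hsq (fun h => ht1 ?_) fun w w' hw hw' hwne hw'ne j => ?_
    · exact congrArg Subtype.val (θ.injective (h.trans (map_one θ).symm))
    obtain ⟨v, rfl⟩ := hev w hw
    obtain ⟨v', rfl⟩ := hev w' hw'
    have key : ∀ u : V, (fun l => ψ u (σ l)) ≠ ψ u → ψ (t • u) j + ψ u j = ψ (xc V t) j := by
      intro u hu
      rcases d.sys.step htv u with h | h
      · refine absurd (funext fun l => ?_) hu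
        have h1 := he ⟨t, hAi ht⟩ u l
        rw [h, hti] at h1
        exact h1.symm
      · rw [h, map_add, Pi.add_apply, add_comm (ψ u j), add_assoc, CharTwo.add_self_eq_zero, add_zero]
    have e1 := key v hwne
    have e2 := key v' hw'ne
    rw [he ⟨t, hAi ht⟩, hti] at e1 e2
    rw [e1, e2]
  exact ⟨a, b, hab, t, ht, (hA.eq_zpowers ht ht1).symm, h⟩

/-- The roots of a Sylow subgroup in one symmetric component: a point is fixed, they are the transpositions
of the Sylow subgroup, disjoint, and they are conjugate. -/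
theorem sym_sylow (d : Dec V p 2 n T M E) (i : Fin r) (θ : ↥(E i) ≃* Equiv.Perm (Fin (2 ^ n + 1))) :
    ∃ c : Fin (2 ^ n + 1), (∀ x (hx : x ∈ (T : Subgroup H) ⊓ E i), θ ⟨x, hx.2⟩ c = c) ∧
      ∀ a b, a ≠ c → b ≠ c → ∃ x, ∃ hx : x ∈ (T : Subgroup H) ⊓ E i, θ ⟨x, hx.2⟩ a = b := by
  obtain ⟨A, hA⟩ := d.frame.exists_root
  have hp2 : p = 2 := d.sys.p_eq_two hA
  haveI : (⨆ j, E j).Normal := d.frame.normal
  have hsub : (E i).IsSubnormal := by
    have h1 : ((E i).subgroupOf (⨆ j, E j)).Normal :=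
      (Subgroup.normal_subgroupOf_iff_le_normalizer (le_iSup E i)).2 (d.frame.iSup_le_normalizer i)
    exact Subgroup.IsSubnormal.step _ _ (le_iSup E i) (Subgroup.Normal.isSubnormal inferInstance) h1
  obtain ⟨R, hR⟩ := CfsgLib.LS.sylow_inf_subnormal T hsub
  subst hp2
  obtain ⟨c, hc, htr⟩ := perm_sylow_orbit d.one_le (R.mapSurjective (f := θ.toMonoidHom) θ.surjective)
  refine ⟨c, fun x hx => hc _ ?_, fun a b ha hb => ?_⟩
  · obtain ⟨y, hy, hyx⟩ := hR.ge hx
    exact ⟨y, hy, congrArg θ (Subtype.ext hyx)⟩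
  · obtain ⟨σ, ⟨y, hy, rfl⟩, he⟩ := htr a b ha hb
    exact ⟨(y : H), hR.le ⟨y, hy, rfl⟩, he⟩

/-- The roots of a Sylow subgroup are conjugate in it. -/
theorem conj_roots (d : Dec V p q n T M E) {A B : Subgroup H} (hA : Root V p q A) (hB : Root V p q B)
    (hAT : A ≤ (T : Subgroup H)) (hBT : B ≤ (T : Subgroup H)) :
    ∃ s ∈ (T : Subgroup H), conjBy s A = B := by
  classical
  obtain ⟨i, hi⟩ := d.frame.covered A hA
  obtain ⟨j, hj⟩ := d.frame.covered B hB
  obtain ⟨t, ht, htij⟩ := d.frame.parts.trans i j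
  have hA' : Root V p q (conjBy t A) := hA.conj t
  have hA'T : conjBy t A ≤ (T : Subgroup H) := conjBy_le_iff.2 fun a ha =>
    mul_mem (mul_mem ht (hAT ha)) (inv_mem ht)
  have hA'j : conjBy t A ≤ E j := htij ▸ conjBy_mono hi
  suffices h : ∃ s ∈ (T : Subgroup H), conjBy s (conjBy t A) = B by
    obtain ⟨s, hs, he⟩ := h
    exact ⟨s * t, mul_mem hs ht, by rw [← conjBy_conjBy]; exact he⟩
  rcases d.frame.least.two_le.eq_or_lt with rfl | hq
  swap
  · refine ⟨1, one_mem _, ?_⟩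
    rw [CfsgLib.Fusion.conjBy_one]
    have hX : IsPGroup p (conjBy t A ⊔ B : Subgroup H) := T.2.to_le (sup_le hA'T hBT)
    have h := d.eq_root_of_pgroup hq hA' le_sup_left hX (sup_le hA'j hj)
    exact (Subgroup.eq_of_le_of_card_ge (h ▸ le_sup_right : B ≤ conjBy t A) (by rw [hA'.card, hB.card])).symm
  obtain ⟨θ, ψ, hsum, hev, hker, he⟩ : IsPermNat V n (E j) := by
    rcases d.nat j with ⟨h, -, -⟩ | ⟨-, -, h⟩
    · omega
    · exact h
  obtain ⟨a, b, hab, u, hu, hA'u, hθu⟩ := d.exists_swap θ ψ hev he hA' hA'j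
  obtain ⟨a', b', hab', v, hv, hBv, hθv⟩ := d.exists_swap θ ψ hev he hB hj
  obtain ⟨c, hc, htr⟩ := d.sym_sylow j θ
  have hfix : ∀ {x y : Fin (2 ^ n + 1)} {w : H} (hw : w ∈ (T : Subgroup H) ⊓ E j),
      θ ⟨w, hw.2⟩ = Equiv.swap x y → x ≠ y → x ≠ c := by
    rintro x y w hw h hxy rfl
    have h1 := hc w hw
    rw [h, Equiv.swap_apply_left] at h1
    exact hxy h1.symm
  have ha : a ≠ c := hfix ⟨hA'T hu, hA'j hu⟩ hθu hab
  have ha' : a' ≠ c := hfix ⟨hBT hv, hj hv⟩ hθv hab'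
  obtain ⟨s, hs, hsa⟩ := htr a a' ha ha'
  refine ⟨s, hs.1, ?_⟩
  have hC : Root V p 2 (conjBy s (conjBy t A)) := hA'.conj s
  have hCT : conjBy s (conjBy t A) ≤ (T : Subgroup H) := conjBy_le_iff.2 fun z hz =>
    mul_mem (mul_mem hs.1 (hA'T hz)) (inv_mem hs.1)
  set w := s * u * s⁻¹
  have hw : w ∈ conjBy s (conjBy t A) := conj_mem_conjBy hu
  have hwE : w ∈ E j := mul_mem (mul_mem hs.2 (hA'j hu)) (inv_mem hs.2)
  have hcom : w * v = v * w := d.sys.com_in T.2 hC hB hCT hBT w hw v hv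
  have hθw : θ ⟨w, hwE⟩ = Equiv.swap a' (θ ⟨s, hs.2⟩ b) := by
    rw [show (⟨w, hwE⟩ : ↥(E j)) = ⟨s, hs.2⟩ * ⟨u, hA'j hu⟩ * ⟨s, hs.2⟩⁻¹ from Subtype.ext rfl, map_mul,
      map_mul, map_inv, hθu, ← Equiv.swap_apply_apply, hsa]
  have hd : θ ⟨s, hs.2⟩ b = b' := by
    set d' := θ ⟨s, hs.2⟩ b
    have hne : a' ≠ d' := fun e => hab ((θ ⟨s, hs.2⟩).injective (hsa.trans e))
    have h1 : θ ⟨w, hwE⟩ * θ ⟨v, hj hv⟩ = θ ⟨v, hj hv⟩ * θ ⟨w, hwE⟩ := by
      rw [← map_mul, ← map_mul]; exact congrArg θ (Subtype.ext hcom)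
    rw [hθw, hθv] at h1
    by_contra hd
    have h2 := DFunLike.congr_fun h1 a'
    simp only [Equiv.Perm.mul_apply, Equiv.swap_apply_left] at h2
    rw [Equiv.swap_apply_of_ne_of_ne hab'.symm (Ne.symm hd),
      Equiv.swap_apply_of_ne_of_ne hne.symm hd] at h2
    exact hd h2.symm
  have hwv : w = v := congrArg Subtype.val (θ.injective (by rw [hθw, hθv, hd]) :
    (⟨w, hwE⟩ : ↥(E j)) = ⟨v, hj hv⟩)
  refine (Subgroup.eq_of_le_of_card_ge ?_ (by rw [hC.card, hB.card])).symm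
  rw [hBv, Subgroup.zpowers_le, ← hwv]
  exact hw

end Dec

end CfsgLib.CFun.MinParab.Push
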