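import Cfsg.Agent.Lib.CFun.MinParab.Push.Image
import Cfsg.Agent.Lib.CFun.MinParab.Push.Trans
import Cfsg.Agent.Lib.CFun.MinParab.Baumann.Block

/-!
# Pushing up: the subgroup `C*(G, T)` and the components

An element of a component residual lies in `C*(G, T)` if and only if it normalizes the root in `S` (linear case),
resp. fixes the point fixed by `S` (symmetric case); so `C*(G, T)` meets the product of the residuals in the
product of its intersections with them.
-/

set_option autoImplicit false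
set_option linter.unusedSectionVars false
set_option linter.style.haveILetI false

open Subgroup
open CfsgLib.Char.NatSL (fixS mem_fixS fixS_mono)
open CfsgLib.Fusion (conjBy mem_conjBy conj_mem_conjBy conjBy_le_iff conjBy_eq_iff conjBy_conjBy conjBy_mono
  conjBy_eq_of_le)
open scoped commutatorElement MatrixGroups

namespace CfsgLib.CFun.MinParab.Push

open Rec Off

universe u v w

variable {G : Type u} [Group G] [Finite G] {p : ℕ} [hp : Fact p.Prime] {T : Sylow p G} {M : Subgroup G}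
  {H : Type v} [Group H] [Finite H] {U : Type w} [AddCommGroup U] [Finite U] [DistribMulAction H U]
  {m : Glue.Mdl (vQ p G) ⊤ H U} {q n r : ℕ} {S : Sylow p H} {E : Fin r → Subgroup H}

namespace Data

variable (d : Data T M m q n r S E)
include d

theorem cStar_le : Cfsg.cStarOf p (T : Subgroup G) ≤ M := by
  refine sup_le d.setting.centralizer_le.2 (iSup_le fun C => ?_)
  refine d.setting.only.2.2 _ (sylow_le_normalizer_char C.2.1 C.2.2.2) fun h => ?_
  exact d.hyp.noChar _ C.2.1 C.2.2.1 C.2.2.2 (normalizer_eq_top_iff.1 h)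

theorem sylow_le_cStar : (T : Subgroup G) ≤ Cfsg.cStarOf p (T : Subgroup G) :=
  le_sup_of_le_left (le_centralizer_iff.1 ((CfsgLib.LS.omegaOne_le_self _).trans inf_le_right))

theorem bT_ne_bot : bT T ≠ ⊥ := by
  intro h
  refine d.hyp.moved ?_
  have h1 : Cfsg.thompsonSubgroupOf p (T : Subgroup G) = ⊥ :=
    le_bot_iff.1 ((CfsgLib.BaumannNormal.thompson_le_baumann _).trans h.le)
  have h2 : vQ p G = ⊥ := le_bot_iff.1 ((vQ_le_J d.setting m).trans h1.le)
  have h3 : Cfsg.omegaOneCenter p (T : Subgroup G) = ⊥ := le_bot_iff.1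
    ((CfsgLib.BaumannBlock.omegaOneCenter_le_omegaOneCenter_pCore d.hyp.char T).trans h2.le)
  rw [h3]
  infer_instance

omit d in
theorem mem_img_of_mem {x : G} (hx : x ∈ M) : proj m x ∈ img m M := (img_eq_map m _).ge (mem_map_of_mem _ hx)

/-- No component lies in the image of `M`. -/
theorem not_le_img (i : Fin r) : ¬ E i ≤ img m M := by
  intro h
  refine d.ctx.ne_top (top_le_iff.1 ?_)
  rw [← d.frame.parts.gen]
  refine sup_le (iSup_le fun j => ?_) d.ctx.le_M
  obtain ⟨t, ht, htj⟩ := d.frame.parts.trans i j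
  rw [← htj]
  exact conjBy_le_iff.2 fun y hy => mul_mem (mul_mem (d.ctx.le_M ht) (h hy)) (inv_mem (d.ctx.le_M ht))

variable (hb : Blocks T m E)
include hb

omit d in
theorem proj_one {x : G} : proj m x = 1 ↔ x ∈ Cfsg.pCore p G := by
  rw [← hb.cent]; exact proj_eq_one m

/-- What normalizes the image of `B` lies in `C*`. -/
theorem mem_cStar_of_normalizes {x : G} (hx : conjBy (proj m x) (img m (bT T)) = img m (bT T)) :
    x ∈ Cfsg.cStarOf p (T : Subgroup G) := by
  have hle : bT T ⊔ Cfsg.pCore p G ≤ (T : Subgroup G) := sup_le inf_le_left pCore_le_T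
  have hker : (proj m).ker = Cfsg.pCore p G := Subgroup.ext fun y => MonoidHom.mem_ker.trans (proj_one hb)
  have hP : (img m (bT T)).comap (proj m) = bT T ⊔ Cfsg.pCore p G := by
    rw [img_eq_map, comap_map_eq, hker]
  have hBN : bT T ⊔ Cfsg.pCore p G ≤ normalizer (bT T : Set G) :=
    CfsgLib.BaumannNormal.le_normalizer_baumann T (T.2.to_le hle) le_sup_left
  refine mem_sup_right ((le_iSup (fun C : {C : Subgroup G // C ≤ bT T ∧ C ≠ ⊥ ∧ (C.subgroupOf (bT T)).Characteristic} =>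
    normalizer ((C : Subgroup G) : Set G)) ⟨bT T, le_rfl, d.bT_ne_bot, ?_⟩) ?_)
  · rw [subgroupOf_self]; infer_instance
  show x ∈ normalizer (bT T : Set G)
  obtain ⟨g, hg, hJ, -⟩ := CfsgLib.BaumannNormal.thompson_eq_and_normalizer T (T.2.to_le hle)
    ((CfsgLib.BaumannNormal.thompson_le_baumann _).trans le_sup_left)
  have hxP : x ∈ normalizer ((bT T ⊔ Cfsg.pCore p G : Subgroup G) : Set G) := by
    rw [← hP]
    refine conjBy_eq_iff.1 (conjBy_eq_of_le ?_)
    rintro _ ⟨y, hy, rfl⟩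
    show proj m (x * y * x⁻¹) ∈ img m (bT T)
    rw [map_mul, map_mul, map_inv]
    exact hx.le (conj_mem_conjBy hy)
  have hxJ := CfsgLib.Fusion.normalizer_le_normalizer_thompsonSubgroupOf (p := p) _ hxP
  rw [hJ] at hxJ
  have hxZ := CfsgLib.BaumannNormal.omegaOne_centerThompson_normalizer (p := p) (T : Subgroup G) hxJ
  -- `B` is the centralizer of `W₀` in `B ⊔ Q`
  have hBeq : bT T = (bT T ⊔ Cfsg.pCore p G) ⊓ centralizer (w0 T : Set G) :=
    le_antisymm (le_inf le_sup_left inf_le_right) (le_inf (inf_le_left.trans hle) inf_le_right)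
  rw [hBeq]
  refine CfsgLib.Coprime.inf_le_normalizer ?_ ?_ (show x ∈ normalizer ((bT T ⊔ Cfsg.pCore p G : Subgroup G) : Set G) ⊓
    normalizer (w0 T : Set G) from ⟨hxP, hxZ⟩)
  · exact inf_le_left
  · intro y hy
    refine conjBy_eq_iff.1 (conjBy_eq_of_le ?_)
    rintro _ ⟨c, hc, rfl⟩
    refine mem_centralizer_iff.2 fun z hz => ?_
    have hz' : y⁻¹ * z * y ∈ w0 T := (mem_normalizer_iff''.1 hy.2 z).1 hz
    calc z * (y * c * y⁻¹) = y * ((y⁻¹ * z * y) * c) * y⁻¹ := by group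
      _ = y * (c * (y⁻¹ * z * y)) * y⁻¹ := by rw [mem_centralizer_iff.1 hc _ hz']
      _ = y * c * y⁻¹ * z := by group

omit hb in
/-- What fixes the fixed vectors of `S` lies in `C*`. -/
theorem mem_cStar_of_fix {x : G} (hx : ∀ u ∈ fixS U (S : Subgroup H), proj m x • u = u) :
    x ∈ Cfsg.cStarOf p (T : Subgroup G) := by
  refine mem_sup_left (mem_centralizer_iff.2 fun z hz => ?_)
  obtain ⟨u, rfl⟩ := m.exists_val z
    (CfsgLib.BaumannBlock.omegaOneCenter_le_omegaOneCenter_pCore d.hyp.char T hz)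
  have hu : u ∈ fixS U (S : Subgroup H) := mem_fixS.2 fun s hs => by
    obtain ⟨t, ht, rfl⟩ := (img_eq_map m _).le (d.sylow.le hs)
    refine m.val_inj ?_
    rw [val_proj, mem_centralizer_iff.1 (mem_inf.1 (CfsgLib.BaumannBlock.omegaOneCenter_le p _ hz)).2 t ht,
      mul_inv_cancel_right]
  have h := val_proj m x u
  rw [hx u hu] at h
  exact eq_mul_inv_iff_mul_eq.1 h

omit hb in
/-- An element outside one component acts trivially on it. -/
theorem proj_com_other {i : Fin r} {y : G} (hy : y ∈ ⨆ j ∈ {j | j ≠ i}, comp m E j) {e : H} (he : e ∈ E i) :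
    proj m y * e = e * proj m y := by
  have h : (⨆ j ∈ {j | j ≠ i}, comp m E j) ≤ (centralizer (E i : Set H)).comap (proj m) :=
    iSup₂_le fun j hj z hz => mem_centralizer_iff.2 fun a ha =>
      (d.frame.parts.com j i hj _ (mem_lift_proj.1 (res_le _ hz)) a ha).symm
  exact (mem_centralizer_iff.1 (h hy) e he).symm

omit hb in
/-- In a linear component an element of `M` normalizes the root. -/
theorem lin_norm_of_mem (hq : 2 < q) {i : Fin r} {a y : G} (ha : proj m a ∈ E i)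
    (hy : ∀ e ∈ E i, proj m y * e = e * proj m y) (h : a * y ∈ M) :
    conjBy (proj m a) (img m (bT T) ⊓ E i) = img m (bT T) ⊓ E i := by
  obtain ⟨-, hA⟩ := d.bT_linear hq i
  have hE : IsNat2 U q (E i) := by
    rcases d.nat i with ⟨-, -, h⟩ | ⟨h, -, -⟩
    · exact h
    · omega
  have hAM : img m (bT T) ⊓ E i ≤ img m M :=
    inf_le_left.trans ((d.bT_roots.le.trans (rootsIn_le _)).trans d.ctx.le_M)
  refine (Baumann.linear_dichotomy d.ctx d.frame hq hE hA inf_le_right ha).resolve_right fun he => ?_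
  refine d.not_le_img i (he.ge.trans (sup_le hAM ?_))
  refine conjBy_le_iff.2 fun z hz => ?_
  have h1 : proj m (a * y) * z * (proj m (a * y))⁻¹ ∈ img m M :=
    mul_mem (mul_mem (mem_img_of_mem h) (hAM hz)) (inv_mem (mem_img_of_mem h))
  rwa [map_mul, mul_inv_rev, mul_assoc (proj m a), hy z hz.2,
    show proj m a * (z * proj m y) * ((proj m y)⁻¹ * (proj m a)⁻¹) = proj m a * z * (proj m a)⁻¹ by group] at h1

/-- In a linear component the normalizer of the root lies in `C*`. -/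
theorem lin_mem_of_norm {i : Fin r} {a : G} (ha : proj m a ∈ E i)
    (h : conjBy (proj m a) (img m (bT T) ⊓ E i) = img m (bT T) ⊓ E i) :
    a ∈ Cfsg.cStarOf p (T : Subgroup G) := by
  refine d.mem_cStar_of_normalizes hb (conjBy_eq_of_le ?_)
  conv_lhs => rw [← d.bT_split]
  rw [conjBy_iSup]
  refine iSup_le fun j => ?_
  by_cases hj : j = i
  · subst hj; exact h.le.trans inf_le_left
  · refine conjBy_le_iff.2 fun z hz => ?_
    rw [d.frame.parts.com i j (Ne.symm hj) _ ha z hz.2, mul_inv_cancel_right]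
    exact hz.1

end Data

section Sym

variable {d₀ : Data T M m 2 n r S E}

namespace Data

variable (d : Data T M m 2 n r S E)
include d

variable {i : Fin r} {θ : ↥(E i) ≃* Equiv.Perm (Fin (2 ^ n + 1))}
  {ψ : U →+ (Fin (2 ^ n + 1) → ZMod 2)}
  (hev : ∀ w, ∑ a, w a = 0 → ∃ v, ψ v = w) (hk : ∀ v, ψ v = 0 ↔ v ∈ fixS U (E i))
  (he : ∀ (x : ↥(E i)) (v : U) a, ψ ((x : H) • v) a = ψ v ((θ x)⁻¹ a))
  {cc : Fin (2 ^ n + 1)} (hcc : ∀ x (hx : x ∈ (S : Subgroup H) ⊓ E i), θ ⟨x, hx.2⟩ cc = cc)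
  (htr : ∀ a b, a ≠ cc → b ≠ cc → ∃ x, ∃ hx : x ∈ (S : Subgroup H) ⊓ E i, θ ⟨x, hx.2⟩ a = b)
include hev hk he hcc htr

/-- The stabilizer of the point fixed by `S` fixes the fixed vectors of `S`. -/
theorem sym_fix {u : U} (hu : u ∈ fixS U (S : Subgroup H)) {e : ↥(E i)} (hec : θ e cc = cc) :
    (e : H) • u = u := by
  classical
  have hψ : ∀ a b, a ≠ cc → b ≠ cc → ψ u a = ψ u b := by
    intro a b ha hb
    obtain ⟨x, hx, hxa⟩ := htr a b ha hb
    have h := he ⟨x, hx.2⟩ u b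
    rw [mem_fixS.1 hu x hx.1] at h
    rw [h, ← hxa]
    exact congrArg (ψ u) ((θ ⟨x, hx.2⟩).symm_apply_apply a).symm
  -- moving `u` gives a fixed vector
  have hd : ∀ g : ↥(E i), θ g cc = cc → (g : H) • u - u ∈ fixS U (E i) := by
    intro g hg
    refine (hk _).1 (funext fun a => ?_)
    rw [map_sub, Pi.sub_apply, he, Pi.zero_apply, sub_eq_zero]
    by_cases ha : a = cc
    · rw [ha]
      exact congrArg (ψ u) (Equiv.Perm.inv_eq_iff_eq.2 hg.symm)
    · refine hψ _ _ (fun h => ha ?_) ha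
      exact (Equiv.Perm.inv_eq_iff_eq.1 h).trans hg
  obtain ⟨A, hA, hAS, hAi⟩ := d.exists_root_in i
  obtain ⟨a₀, b₀, hab, t, ht, hAt, hθ⟩ := d.dec.exists_swap θ ψ hev he hA hAi
  have ha₀ : a₀ ≠ cc ∧ b₀ ≠ cc := by
    have h1 := hcc t ⟨hAS ht, hAi ht⟩
    rw [hθ] at h1
    constructor <;> intro h2 <;> subst h2
    · rw [Equiv.swap_apply_left] at h1; exact hab h1.symm
    · rw [Equiv.swap_apply_right] at h1; exact hab h1
  -- every transposition away from `cc`
  have hsw : ∀ a b, a ≠ b → a ≠ cc → b ≠ cc → (θ.symm (Equiv.swap a b) : H) • u = u := by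
    intro a b hne ha hb
    obtain ⟨σ, hσa, hσb, hσc⟩ : ∃ σ : Equiv.Perm (Fin (2 ^ n + 1)), σ a₀ = a ∧ σ b₀ = b ∧ σ cc = cc := by
      obtain ⟨b₁, hb₁⟩ : ∃ b₁, b₁ = Equiv.swap a₀ a b₀ := ⟨_, rfl⟩
      have hb₁a : b₁ ≠ a := fun h => hab ((Equiv.swap a₀ a).injective
        ((Equiv.swap_apply_left a₀ a).trans (h.symm.trans hb₁)))
      have hb₁c : b₁ ≠ cc := fun h => ha₀.2 ((Equiv.swap a₀ a).injective
        (by rw [Equiv.swap_apply_of_ne_of_ne (x := cc) ha₀.1.symm ha.symm, ← h, hb₁]))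
      refine ⟨Equiv.swap b₁ b * Equiv.swap a₀ a, ?_, ?_, ?_⟩
      · rw [Equiv.Perm.mul_apply, Equiv.swap_apply_left, Equiv.swap_apply_of_ne_of_ne hb₁a.symm hne]
      · rw [Equiv.Perm.mul_apply, ← hb₁, Equiv.swap_apply_left]
      · rw [Equiv.Perm.mul_apply, Equiv.swap_apply_of_ne_of_ne (x := cc) ha₀.1.symm ha.symm,
          Equiv.swap_apply_of_ne_of_ne hb₁c.symm hb.symm]
    set g := θ.symm σ with hg
    have hgc : θ g cc = cc := by rw [hg, θ.apply_symm_apply]; exact hσc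
    have e1 : (θ.symm (Equiv.swap a b) : H) = (g : H) * t * (g : H)⁻¹ := by
      have h1 : θ.symm (Equiv.swap a b) = g * ⟨t, hAi ht⟩ * g⁻¹ := by
        refine θ.injective ?_
        rw [θ.apply_symm_apply, map_mul, map_mul, map_inv, hθ, hg, θ.apply_symm_apply,
          ← Equiv.swap_apply_apply, hσa, hσb]
      rw [h1]
      rfl
    obtain ⟨w, hw⟩ : ∃ w, w = (g : H)⁻¹ • u - u := ⟨_, rfl⟩
    have hwf : w ∈ fixS U (E i) := by
      have h1 := hd g⁻¹ (by rw [map_inv, Equiv.Perm.inv_eq_iff_eq, hgc])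
      rwa [Subgroup.coe_inv, ← hw] at h1
    have hgi : (g : H)⁻¹ • u = u + w := by rw [hw]; abel
    rw [e1, mul_smul, mul_smul, hgi, smul_add, mem_fixS.1 hu t (hAS ht), mem_fixS.1 hwf t (hAi ht), ← hgi,
      smul_inv_smul]
  -- transpositions generate the stabilizer
  have key : ∀ τ : Equiv.Perm {a : Fin (2 ^ n + 1) // a ≠ cc},
      (θ.symm (Equiv.Perm.ofSubtype τ) : H) • u = u := by
    intro τ
    induction τ using Equiv.Perm.swap_induction_on with
    | one => rw [map_one, map_one, OneMemClass.coe_one, one_smul]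
    | swap_mul τ x y hxy ih =>
      rw [map_mul, map_mul, Subgroup.coe_mul, mul_smul, ih, Equiv.Perm.ofSubtype_swap_eq]
      exact hsw _ _ (fun h => hxy (Subtype.ext h)) x.2 y.2
  have hmem : ∀ a, θ e a ≠ cc ↔ a ≠ cc := fun a => by
    conv_lhs => rw [← hec]
    exact (θ e).injective.ne_iff
  have h := key ((θ e).subtypePerm hmem)
  have h2 : Equiv.Perm.ofSubtype ((θ e).subtypePerm hmem) = θ e := Equiv.ext fun a => by
    by_cases ha : a = cc
    · rw [Equiv.Perm.ofSubtype_subtypePerm_of_not_mem (p := fun a => a ≠ cc) hmem (not_not.2 ha), ha, hec]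
    · exact Equiv.Perm.ofSubtype_subtypePerm_of_mem (p := fun a => a ≠ cc) hmem ha
  rwa [h2, θ.symm_apply_apply] at h

omit hk in
/-- An element of `M` fixes the point fixed by `S`. -/
theorem sym_point_of_mem (hk' : ∀ v, ψ v = 0 ↔ v ∈ fixS U (E i)) {a y : G} (ha : proj m a ∈ E i)
    (hy : ∀ e ∈ E i, proj m y * e = e * proj m y) (h : a * y ∈ M) :
    θ ⟨proj m a, ha⟩ cc = cc := by
  classical
  by_contra hne
  refine d.not_le_img i ?_
  have hK : ∀ σ : Equiv.Perm (Fin (2 ^ n + 1)), σ cc = cc → (θ.symm σ : H) ∈ img m M := by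
    intro σ hσ
    obtain ⟨g, hg⟩ := proj_surj m ((θ.symm σ : ↥(E i)) : H)
    rw [← hg]
    refine mem_img_of_mem (d.cStar_le (d.mem_cStar_of_fix fun u hu => ?_))
    rw [hg]
    exact d.sym_fix hev hk' he hcc htr hu (by rw [θ.apply_symm_apply]; exact hσ)
  let N : Subgroup (Equiv.Perm (Fin (2 ^ n + 1))) := ((img m M).subgroupOf (E i)).map θ.toMonoidHom
  have hN : ∀ σ, σ ∈ N ↔ (θ.symm σ : H) ∈ img m M := fun σ =>
    ⟨fun ⟨x, hx, hxe⟩ => by rw [← hxe]; show (θ.symm (θ x) : H) ∈ _; rw [θ.symm_apply_apply]; exact hx,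
      fun hσ => ⟨θ.symm σ, hσ, θ.apply_symm_apply σ⟩⟩
  set σ₀ := θ ⟨proj m a, ha⟩
  have hconj : ∀ τ ∈ N, σ₀ * τ * σ₀⁻¹ ∈ N := by
    intro τ hτ
    rw [hN] at hτ ⊢
    have h1 : proj m (a * y) * (θ.symm τ : H) * (proj m (a * y))⁻¹ ∈ img m M :=
      mul_mem (mul_mem (mem_img_of_mem h) hτ) (inv_mem (mem_img_of_mem h))
    rw [map_mul, mul_inv_rev, mul_assoc (proj m a), hy _ (θ.symm τ).2,
      show proj m a * ((θ.symm τ : H) * proj m y) * ((proj m y)⁻¹ * (proj m a)⁻¹) =
        proj m a * (θ.symm τ : H) * (proj m a)⁻¹ by group] at h1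
    rw [map_mul, map_mul, map_inv, θ.symm_apply_apply]
    exact h1
  -- a transposition at `cc`
  set a₁ := σ₀⁻¹ cc
  have ha₁ : a₁ ≠ cc := fun e => hne (by
    conv_lhs => rw [← e]
    exact σ₀.apply_symm_apply cc)
  obtain ⟨b₁, -, hb₁⟩ := Finset.exists_mem_notMem_of_card_lt_card
    (show ({a₁, cc} : Finset (Fin (2 ^ n + 1))).card < Finset.univ.card by
      rw [Finset.card_univ, Fintype.card_fin]
      have := Nat.pow_le_pow_right (n := 2) (by omega) d.one_le
      exact Finset.card_le_two.trans_lt (by omega))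
  have hb : b₁ ≠ a₁ ∧ b₁ ≠ cc := by simpa using hb₁
  have hd₁ : Equiv.swap cc (σ₀ b₁) ∈ N := by
    have h1 := hconj (Equiv.swap a₁ b₁)
      ((hN _).2 (hK _ (Equiv.swap_apply_of_ne_of_ne ha₁.symm hb.2.symm)))
    rwa [← Equiv.swap_apply_apply, show σ₀ a₁ = cc from σ₀.apply_symm_apply cc] at h1
  have hdne : σ₀ b₁ ≠ cc := fun e => hb.1 (σ₀.injective (e.trans (σ₀.apply_symm_apply cc).symm))
  have hall : ∀ x y, x ≠ y → Equiv.swap x y ∈ N := by
    have hc : ∀ x, x ≠ cc → Equiv.swap cc x ∈ N := by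
      intro x hx
      have hs : Equiv.swap (σ₀ b₁) x ∈ N :=
        (hN _).2 (hK _ (Equiv.swap_apply_of_ne_of_ne hdne.symm hx.symm))
      have h1 := mul_mem (mul_mem hs hd₁) (inv_mem hs)
      rwa [← Equiv.swap_apply_apply, Equiv.swap_apply_left,
        Equiv.swap_apply_of_ne_of_ne hdne.symm hx.symm] at h1
    intro x y hxy
    by_cases hx : x = cc
    · subst hx; exact hc y hxy.symm
    by_cases hy' : y = cc
    · subst hy'; rw [Equiv.swap_comm]; exact hc x hx
    exact (hN _).2 (hK _ (Equiv.swap_apply_of_ne_of_ne (Ne.symm hx) (Ne.symm hy')))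
  intro e he'
  have htop : θ ⟨e, he'⟩ ∈ N := by
    generalize θ ⟨e, he'⟩ = σ
    induction σ using Equiv.Perm.swap_induction_on with
    | one => exact one_mem _
    | swap_mul τ x y hxy ih => exact mul_mem (hall x y hxy) ih
  have := (hN _).1 htop
  rwa [θ.symm_apply_apply] at this

end Data

end Sym

end CfsgLib.CFun.MinParab.Push
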