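import Cfsg.Agent.Lib.CFun.MinParab.Push.Roots
import Cfsg.Agent.Lib.PushAmalgam.Transfer

/-!
# Pushing up for minimal parabolic groups: the data shared by the two shapes

`Hyp` are the hypotheses of the pushing-up theorem. `Data` collects what is proved before the two shapes of
the rank-one subgroups are told apart, `Member` is a rank-one subgroup over the Baumann subgroup belonging
to one component, and `Blocks` is what each shape has to deliver.
-/

set_option autoImplicit false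
set_option linter.unusedSectionVars false

open Subgroup
open CfsgLib.Char.NatSL (fixS)
open scoped commutatorElement

namespace CfsgLib.CFun.MinParab.Push

open Rec

universe u v w

variable {G : Type u} [Group G]

/-- The hypotheses of the pushing-up theorem. -/
structure Hyp (p : ℕ) [Fact p.Prime] (T : Sylow p G) : Prop where
  min : Cfsg.IsPMinimal p G
  char : centralizer (Cfsg.pCore p G : Set G) ≤ Cfsg.pCore p G
  noChar : ∀ C : Subgroup G, C ≤ Cfsg.baumannSubgroupOf p (T : Subgroup G) → C ≠ ⊥ →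
    (C.subgroupOf (Cfsg.baumannSubgroupOf p (T : Subgroup G))).Characteristic → ¬ C.Normal
  moved : ¬ (Cfsg.omegaOneCenter p (T : Subgroup G)).Normal

variable {p : ℕ} [hp : Fact p.Prime]

/-- The Baumann subgroup. -/
abbrev bT (T : Sylow p G) : Subgroup G := Cfsg.baumannSubgroupOf p (T : Subgroup G)

/-- `Ω₁ Z(J(T))`. -/
abbrev w0 (T : Sylow p G) : Subgroup G := Cfsg.omegaOne p (Cfsg.centerThompsonOf p (T : Subgroup G))

/-- `Ω₁ Z(O_p(G))`. -/
abbrev vQ (p : ℕ) (G : Type u) [Group G] : Subgroup G := Cfsg.omegaOneCenter p (Cfsg.pCore p G)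

/-- `B ∩ O_p(G)`. -/
abbrev q0 (T : Sylow p G) : Subgroup G := bT T ⊓ Cfsg.pCore p G

variable {H : Type v} [Group H] {U : Type w} [AddCommGroup U] [DistribMulAction H U]

/-- The image of a subgroup of `G`. -/
abbrev img (m : Glue.Mdl (vQ p G) ⊤ H U) (X : Subgroup G) : Subgroup H := (X.subgroupOf ⊤).map m.π

variable [Finite G] [Finite H] [Finite U]

/-- What is proved before the shapes are told apart. -/
structure Data (T : Sylow p G) (M : Subgroup G) (m : Glue.Mdl (vQ p G) ⊤ H U) (q n r : ℕ) (S : Sylow p H)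
    (E : Fin r → Subgroup H) : Prop where
  hyp : Hyp p T
  setting : Glue.Setting G p T M
  ctx : Ctx U p S (img m M)
  frame : Off.Frame U p q S r E
  one_le : 1 ≤ n
  nat : ∀ i, Glue.PartNat U p q n (E i)
  sylow : (S : Subgroup H) = img m (T : Subgroup G)
  lift_sup : m.lift (⨆ i, E i) = Cfsg.thompsonSubgroup p G ⊔ centralizer (vQ p G : Set G)
  inf_cent : (T : Subgroup G) ⊓ centralizer (vQ p G : Set G) = Cfsg.pCore p G
  w0_le : w0 T ≤ q0 T
  vQ_le : vQ p G ≤ q0 T
  y1_normal : (w0 T ⊔ vQ p G).Normal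
  /-- `[W₀ V, J(G)] ≤ V`. -/
  y1_comm : ⁅w0 T ⊔ vQ p G, Cfsg.thompsonSubgroup p G⁆ ≤ vQ p G
  q0_eq : q0 T = Cfsg.pCore p G ⊓ centralizer ((w0 T ⊔ vQ p G : Subgroup G) : Set G)
  q0_normal : (q0 T).Normal
  q0_self_cent : centralizer (q0 T : Set G) ≤ q0 T
  pCore_comm : ⁅Cfsg.pCore p G, bT T⁆ ≤ q0 T
  bT_thompson : img m (bT T) = img m (Cfsg.thompsonSubgroupOf p (T : Subgroup G))
  bT_roots : img m (bT T) = rootsIn U p q (S : Subgroup H)
  bT_el : El p (img m (bT T))
  bT_le : img m (bT T) ≤ ⨆ i, E i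
  bT_split : (⨆ i, img m (bT T) ⊓ E i) = img m (bT T)
  bT_linear : 2 < q → ∀ i, Nat.card ↥(img m (bT T) ⊓ E i : Subgroup H) = q ∧
    Root U p q (img m (bT T) ⊓ E i)

/-- A rank-one subgroup over the Baumann subgroup belonging to the component `i`, with the part `L` of it. -/
structure Member (T : Sylow p G) (m : Glue.Mdl (vQ p G) ⊤ H U) {r : ℕ} (E : Fin r → Subgroup H) (i : Fin r)
    (L : Subgroup H) (F : Type) [Field F] [Fintype F] (X : Subgroup G) : Prop where
  le : bT T ≤ X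
  sit : CfsgLib.PushUp.Sit p ((bT T).subgroupOf X)
  gen : X ⊔ (T : Subgroup G) = ⊤
  noChar : ∀ Y : Subgroup ↥(bT T), Y ≠ ⊥ → Y.Characteristic → ¬ (Y.map (Subgroup.inclusion le)).Normal
  part_le : L ≤ E i
  nat : IsNat2 U (Fintype.card F) L
  inf_bT : Nat.card ↥(img m (bT T) ⊓ L : Subgroup H) = Fintype.card F
  image : img m X = L ⊔ img m (bT T)
  inf_cent : X ⊓ centralizer (vQ p G : Set G) = q0 T
  /-- The elements of order prime to `p` act as elements of `L`. -/
  res_le : ∀ x ∈ X, (orderOf x).Coprime p → m.π ⟨x, mem_top _⟩ ∈ L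
  span : CFun.MinParab.commS U L ⊔ fixS U L = ⊤
  core : ∀ x : ↥X, x ∈ Cfsg.pCore p ↥X ↔ (x : G) ∈ bT T ∧
    m.π ⟨(x : G), mem_top _⟩ ∈ centralizer (L : Set H)
  exceptional : PushAmalgam.Exceptional p ↥(bT T)
  shape : (PushAmalgam.ShapeOne F p ↥X ∧ ⁅frattini ↥(bT T), (⊤ : Subgroup ↥(bT T))⁆ = ⊥ ∧
      (p ≠ 2 → ∀ s : ↥(bT T), s ^ p = 1)) ∨
    (p = 3 ∧ PushAmalgam.ShapeTwo F p ↥X ∧ ∃ a b : ↥(bT T), ¬ Commute a ⁅a, b⁆)

/-- `O^p` of the preimage of a component. -/
abbrev comp (m : Glue.Mdl (vQ p G) ⊤ H U) {r : ℕ} (E : Fin r → Subgroup H) (i : Fin r) : Subgroup G :=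
  Cfsg.pResidualOf p (m.lift (E i))

/-- What each shape delivers. -/
structure Blocks (T : Sylow p G) (m : Glue.Mdl (vQ p G) ⊤ H U) {r : ℕ} (E : Fin r → Subgroup H) : Prop where
  cent : centralizer (vQ p G : Set G) = Cfsg.pCore p G
  block : ∀ i, Cfsg.IsBaumannBlock p (T : Subgroup G) (comp m E i)
  com : ∀ i j, i ≠ j → ⁅comp m E i, comp m E j⁆ = ⊥

end CfsgLib.CFun.MinParab.Push
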