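import Cfsg.Agent.Lib.CFun.MinParab.Push.Image
import Cfsg.Agent.Lib.AltModFixed.Reduce

/-!
# Pushing up: facts about the quotients of the blocks

The stabilizer of a point in an alternating group, the elements of order eight dividing subgroup of `SL(2, 3)`,
and when a commutator subgroup of `SL(2, q)` is an alternating group of odd degree.
-/

set_option autoImplicit false
set_option linter.unusedSectionVars false
set_option linter.style.haveILetI false

open Subgroup
open scoped MatrixGroups

namespace CfsgLib.CFun.MinParab.Push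

/-- The stabilizer of a point in an alternating group is the alternating group of one degree less. -/
theorem alt_point_equiv {k : ℕ} (cc : Fin (k + 1)) :
    Nonempty (↥(alternatingGroup (Fin (k + 1)) ⊓ MulAction.stabilizer (Equiv.Perm (Fin (k + 1))) cc) ≃*
      ↥(alternatingGroup (Fin k))) := by
  classical
  set e := finSuccAboveEquiv cc
  set f := Equiv.Perm.extendDomainHom e
  have hmap : (alternatingGroup (Fin k)).map f =
      alternatingGroup (Fin (k + 1)) ⊓ MulAction.stabilizer (Equiv.Perm (Fin (k + 1))) cc := by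
    ext σ
    constructor
    · rintro ⟨τ, hτ, rfl⟩
      refine mem_inf.2 ⟨Equiv.Perm.mem_alternatingGroup.2 ?_, ?_⟩
      · show Equiv.Perm.sign (τ.extendDomain e) = 1
        rw [Equiv.Perm.sign_extendDomain]
        exact Equiv.Perm.mem_alternatingGroup.1 hτ
      · exact Equiv.Perm.extendDomain_apply_not_subtype τ e (not_not.2 rfl)
    · intro hσ
      obtain ⟨h1, h2⟩ := mem_inf.1 hσ
      have hfix : σ cc = cc := h2
      have hmem : ∀ a, σ a ≠ cc ↔ a ≠ cc := fun a => by
        conv_lhs => rw [← hfix]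
        exact σ.injective.ne_iff
      refine ⟨Equiv.permCongr e.symm (σ.subtypePerm hmem), Equiv.Perm.mem_alternatingGroup.2 ?_, ?_⟩
      · rw [Equiv.Perm.sign_permCongr]
        exact (Equiv.Perm.sign_subtypePerm (p := fun a => a ≠ cc) σ hmem
          (fun a ha h => ha (by rw [h, hfix]))).trans (Equiv.Perm.mem_alternatingGroup.1 h1)
      · refine Equiv.ext fun a => ?_
        show (Equiv.permCongr e.symm (σ.subtypePerm hmem)).extendDomain e a = σ a
        by_cases ha : a = cc
        · rw [ha, hfix]
          exact Equiv.Perm.extendDomain_apply_not_subtype _ e (b := cc) fun h => h rfl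
        · rw [Equiv.Perm.extendDomain_apply_subtype _ e (b := a) ha]
          simp
  exact ⟨((equivMapOfInjective _ f (Equiv.Perm.extendDomainHom_injective e)).trans
    (MulEquiv.subgroupCongr hmap)).symm⟩

/-- In `SL(2, 3)` an element of order dividing eight moving an element of order three into a commuting one is
central. -/
theorem three_norm : ∀ g a : SL(2, ZMod 3), g ^ 8 = 1 → a ^ 3 = 1 → a ≠ 1 →
    g * a * g⁻¹ * a = a * (g * a * g⁻¹) → g = 1 ∨ g = -1 := by decide +kernel

/-- The centre of the elements of order dividing eight in `SL(2, 3)`. -/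
theorem three_center : ∀ g : SL(2, ZMod 3), g ^ 8 = 1 →
    (∀ h : SL(2, ZMod 3), h ^ 8 = 1 → g * h = h * g) → g = 1 ∨ g = -1 := by decide +kernel

theorem pow_eight_of_mem {g : SL(2, ZMod 3)} (hg : g ∈ _root_.commutator SL(2, ZMod 3)) : g ^ 8 = 1 := by
  have h : (⟨g, hg⟩ : ↥(_root_.commutator SL(2, ZMod 3))) ^ Nat.card ↥(_root_.commutator SL(2, ZMod 3)) = 1 :=
    pow_card_eq_one'
  rw [CfsgLib.SubBlock.derived_card_sl_two_three] at h
  exact congrArg Subtype.val h

theorem mem_of_pow_eight {g : SL(2, ZMod 3)} (hg : g ^ 8 = 1) : g ∈ _root_.commutator SL(2, ZMod 3) := by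
  rw [← res_sl2 (F := ZMod 3) (p := 3) (n := 1) (hp := ⟨Nat.prime_three⟩) rfl (by decide)]
  exact subset_closure (Nat.Coprime.coprime_dvd_left (orderOf_dvd_of_pow_eq_one hg) (by decide))

/-- In characteristic two an element of order dividing four of `SL(2, F)` is an involution. -/
theorem sl2_sq_eq_one {F : Type*} [Field F] (h2 : (2 : F) = 0) {g : SL(2, F)} (hg : g ^ 4 = 1) : g ^ 2 = 1 := by
  set A : Matrix (Fin 2) (Fin 2) F := (g : Matrix (Fin 2) (Fin 2) F) with hA
  have hdet : A 0 0 * A 1 1 - A 0 1 * A 1 0 = 1 := by rw [← Matrix.det_fin_two]; exact g.2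
  obtain ⟨t, ht⟩ : ∃ t, t = A 0 0 + A 1 1 := ⟨_, rfl⟩
  have hsq : A * A = t • A + 1 := by
    ext i j
    fin_cases i <;> fin_cases j <;> simp [Matrix.mul_apply, Fin.sum_univ_two, ht]
    · linear_combination (-1) * hdet + (-1) * h2
    · ring
    · ring
    · linear_combination (-1) * hdet + (-1) * h2
  have h4 : A * A * (A * A) = 1 := by
    have := congrArg Subtype.val hg
    simp only [Matrix.SpecialLinearGroup.coe_pow, Matrix.SpecialLinearGroup.coe_one, ← hA] at this
    rw [← this, show (4 : ℕ) = 2 + 2 from rfl, pow_add, pow_two]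
  have h5 : (t * t) • (A * A) = 0 := by
    have e : A * A * (A * A) = (t * t) • (A * A) + (2 * t) • A + 1 := by
      conv_lhs => rw [hsq]
      simp only [add_mul, mul_add, smul_mul_assoc, mul_smul_comm, one_mul, mul_one]
      module
    rw [h4, h2, zero_mul, zero_smul, add_zero] at e
    exact add_eq_right.1 e.symm
  have ht0 : t = 0 := by
    have h6 : (t * t) • (1 : Matrix (Fin 2) (Fin 2) F) = 0 := by
      rw [← h4, ← smul_mul_assoc, h5, zero_mul]
    have h7 := congrFun (congrFun h6 0) 0
    simpa using h7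
  refine Subtype.ext ?_
  rw [Matrix.SpecialLinearGroup.coe_pow, Matrix.SpecialLinearGroup.coe_one, ← hA, pow_two, hsq, ht0, zero_smul,
    zero_add]

theorem alt_seven : ∃ σ : Equiv.Perm (Fin 7),
    Equiv.Perm.sign σ = 1 ∧ σ ^ 4 = 1 ∧ σ ^ 2 ≠ 1 :=
  ⟨Equiv.swap 0 1 * Equiv.swap 1 2 * Equiv.swap 2 3 * Equiv.swap 4 5, by decide +kernel, by decide +kernel,
    by decide +kernel⟩

/-- A commutator subgroup of `SL(2, q)`, `q > 2`, isomorphic to an alternating group of odd degree `k` has
`k = 3` or `k = 5`. -/
theorem degree_of_sl2 {F : Type*} [Field F] [Fintype F] (h3 : 2 < Fintype.card F) {mm : ℕ}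
    (φ : ↥(_root_.commutator SL(2, F)) ≃* ↥(alternatingGroup (Fin (2 * mm + 1)))) :
    ∃ n : ℕ, 2 * mm + 1 = 2 ^ n + 1 := by
  classical
  have hne : Nat.card ↥(_root_.commutator SL(2, F)) ≠ 1 := fun h => by
    have h0 := fun g hg => Subsingleton.elim
      (h := (Nat.card_eq_one_iff_unique.1 h).1) (⟨g, hg⟩ : ↥(_root_.commutator SL(2, F))) 1
    have h1 : ((fun _ => 1 : Fin 2 → F)) = 0 := sl2_fixed h3 fun g hg => by
      rw [show g = 1 from congrArg Subtype.val (h0 g hg)]
      exact Matrix.one_mulVec _
    exact one_ne_zero (congrFun h1 0)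
  rw [Nat.card_congr φ.toEquiv] at hne
  match mm, hne, φ with
  | 0, hne, _ =>
    exfalso
    haveI : Subsingleton (Fin (2 * 0 + 1)) := Fin.subsingleton_one
    exact hne (Nat.card_eq_one_iff_unique.2 ⟨⟨fun a b => Subtype.ext (Subsingleton.elim _ _)⟩, ⟨1⟩⟩)
  | 1, _, _ => exact ⟨1, rfl⟩
  | 2, _, _ => exact ⟨2, rfl⟩
  | j + 3, _, φ =>
    exfalso
    obtain ⟨i, hi⟩ : ∃ i, 2 * (j + 3) + 1 = i + 5 := ⟨2 * j + 2, by omega⟩
    have hcenter : center ↥(alternatingGroup (Fin (2 * (j + 3) + 1))) = ⊥ := by
      rw [hi]; exact CfsgLib.AltModFixed.Reduce.center_alt i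
    by_cases h4 : 3 < Fintype.card F
    · have htop := CfsgLib.Lie.SLUniv.sl2_commutator (F := F) h4
      -- the central involution
      have hneg : (-1 : SL(2, F)) = 1 := by
        have h1 : φ ⟨-1, htop ▸ mem_top _⟩ ∈ center _ := mem_center_iff.2 fun a => by
          obtain ⟨b, rfl⟩ := φ.surjective a
          rw [← map_mul, ← map_mul]
          refine congrArg φ (Subtype.ext ?_)
          show (b : SL(2, F)) * -1 = -1 * (b : SL(2, F))
          simp
        rw [hcenter, mem_bot, map_eq_one_iff _ φ.injective] at h1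
        exact congrArg Subtype.val h1
      have h2 : (2 : F) = 0 := by
        have := congrArg (fun g : SL(2, F) => (g : Matrix (Fin 2) (Fin 2) F) 0 0) hneg
        simp at this
        linear_combination (-1) * this
      obtain ⟨σ, hσ1, hσ4, hσ2⟩ := alt_seven
      have hle : 7 ≤ 2 * (j + 3) + 1 := by omega
      set f := Equiv.Perm.extendDomainHom ((Fin.castLEEmb hle).toEquivRange)
      have hmem : f σ ∈ alternatingGroup (Fin (2 * (j + 3) + 1)) := by
        refine Equiv.Perm.mem_alternatingGroup.2 ?_
        show Equiv.Perm.sign (σ.extendDomain _) = 1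
        rw [Equiv.Perm.sign_extendDomain, hσ1]
      set y := φ.symm ⟨f σ, hmem⟩
      have hy4 : y ^ 4 = 1 := by
        refine φ.injective ?_
        rw [map_pow, φ.apply_symm_apply, map_one]
        exact Subtype.ext (by show f σ ^ 4 = 1; rw [← map_pow, hσ4, map_one])
      have hy2 : y ^ 2 = 1 := Subtype.ext (sl2_sq_eq_one h2 (congrArg Subtype.val hy4))
      apply hσ2
      refine Equiv.Perm.extendDomainHom_injective ((Fin.castLEEmb hle).toEquivRange) ?_
      show f (σ ^ 2) = f 1
      have h6 := congrArg φ hy2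
      rw [map_pow, φ.apply_symm_apply, map_one] at h6
      rw [map_pow, map_one]
      exact congrArg Subtype.val h6
    · have h8 := CfsgLib.SubBlock.card_comm_three (F := F) (by omega)
      rw [Nat.card_congr φ.toEquiv] at h8
      haveI : Nontrivial (Fin (2 * (j + 3) + 1)) := Fin.nontrivial_iff_two_le.2 (by omega)
      have h9 := two_mul_nat_card_alternatingGroup (α := Fin (2 * (j + 3) + 1))
      rw [h8, Nat.card_perm, Nat.card_eq_fintype_card, Fintype.card_fin] at h9
      have : 5040 ≤ Nat.factorial (2 * (j + 3) + 1) :=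
        (by decide : 5040 ≤ Nat.factorial 7).trans (Nat.factorial_le (by omega))
      omega

end CfsgLib.CFun.MinParab.Push
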