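import Cfsg.Agent.Lib.CFun.MinParab.Push.Cstar
import Cfsg.Agent.Lib.CFun.MinParab.Push.Quot
import Cfsg.Agent.Lib.Char.SubBlock.Subnormal

/-!
# Pushing up: the block structure

Given the blocks, the residuals of the components form a block structure for `C*(G, T)`.
-/

set_option autoImplicit false
set_option linter.unusedSectionVars false
set_option linter.style.haveILetI false

open Subgroup
open CfsgLib.Char.NatSL (fixS mem_fixS fixS_mono)
open CfsgLib.Fusion (conjBy mem_conjBy conj_mem_conjBy conjBy_le_iff conjBy_eq_iff conjBy_conjBy conjBy_mono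
  conjBy_eq_of_le)
open scoped commutatorElement MatrixGroups

namespace CfsgLib.CFun.MinParab.Push

open Rec Off

universe u v w

variable {G : Type u} [Group G] [Finite G] {p : ℕ} [hp : Fact p.Prime] {T : Sylow p G} {M : Subgroup G}
  {H : Type v} [Group H] [Finite H] {U : Type w} [AddCommGroup U] [Finite U] [DistribMulAction H U]
  {m : Glue.Mdl (vQ p G) ⊤ H U} {q n r : ℕ} {S : Sylow p H} {E : Fin r → Subgroup H}

namespace Data

variable (d : Data T M m q n r S E)
include d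

/-- The conjugates of a component residual are component residuals. -/
theorem comp_conj (g : G) (i : Fin r) : ∃ j, (comp m E i).map (MulAut.conj g).toMonoidHom = comp m E j := by
  obtain ⟨j, hj⟩ := d.frame.parts.perm (proj m g) i
  refine ⟨j, ?_⟩
  rw [comp, comp, ← CfsgLib.Char.TW.pResidualOf_map]
  congr 1
  ext x
  rw [mem_map, mem_lift_proj, ← hj]
  constructor
  · rintro ⟨y, hy, rfl⟩
    show proj m (g * y * g⁻¹) ∈ _
    rw [map_mul, map_mul, map_inv]
    exact conj_mem_conjBy (mem_lift_proj.1 hy)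
  · rintro ⟨e, he, hee⟩
    refine ⟨g⁻¹ * x * g, mem_lift_proj.2 ?_, by show g * (g⁻¹ * x * g) * g⁻¹ = x; group⟩
    rw [map_mul, map_mul, map_inv, ← hee]
    show (proj m g)⁻¹ * (proj m g * e * (proj m g)⁻¹) * proj m g ∈ E i
    simpa [mul_assoc] using he

theorem prod_normal : (⨆ i, comp m E i).Normal := by
  refine normalizer_eq_top_iff.1 (top_le_iff.1 fun g _ => conjBy_eq_iff.1 (conjBy_eq_of_le ?_))
  rw [conjBy_iSup]
  refine iSup_le fun i => ?_
  obtain ⟨j, hj⟩ := d.comp_conj g i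
  exact hj.le.trans (le_iSup (comp m E) j)

theorem res_le_prod : Cfsg.pResidualOf p (⊤ : Subgroup G) ≤ ⨆ i, comp m E i := by
  haveI := d.prod_normal
  obtain ⟨i⟩ : Nonempty (Fin r) := ⟨⟨0, d.frame.parts.pos⟩⟩
  obtain ⟨A, L, R, g, F, _, _, X, -, -, mb⟩ := d.exists_member_at i
  exact d.res_top_le mb ((res_le_of fun _ hy ho =>
    mem_res (mem_lift_proj.2 (mb.part_le (mb.res_le _ hy ho))) ho).trans (le_iSup (comp m E) i))

theorem prod_sup_sylow : (T : Subgroup G) ⊔ (⨆ i, comp m E i) = ⊤ := by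
  obtain ⟨i⟩ : Nonempty (Fin r) := ⟨⟨0, d.frame.parts.pos⟩⟩
  obtain ⟨A, L, R, g, F, _, _, X, -, -, mb⟩ := d.exists_member_at i
  rw [sup_comm]
  exact top_le_iff.1 (mb.res_sup_sylow.ge.trans (sup_le_sup_right
    ((res_mono le_top).trans d.res_le_prod) _))

theorem comp_subnormal (i : Fin r) : (comp m E i).IsSubnormal := by
  haveI := d.lift_normal
  have hle : comp m E i ≤ m.lift (⨆ j, E j) := (res_le _).trans (m.lift_mono (le_iSup E i))
  exact Subgroup.IsSubnormal.step _ _ hle (Subgroup.Normal.isSubnormal inferInstance)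
    ((normal_subgroupOf_iff_le_normalizer hle).2 fun x hx => d.mem_normalizer_comp (mem_lift_proj.1 hx))

variable (hb : Blocks T m E)
include hb

theorem pCore_comp_ker (i : Fin r) : Cfsg.pCore p ↥(comp m E i) = (compHom m E i).ker := by
  refine le_antisymm (fun x hx => ?_) ?_
  · rw [MonoidHom.mem_ker, Subtype.ext_iff, compHom_coe]
    exact (proj_one hb).2 (d.pCoreOf_comp_le i (mem_map_of_mem _ hx))
  · refine CfsgLib.PGroup.le_pCore inferInstance ?_
    have h : (compHom m E i).ker = (Cfsg.pCore p G).subgroupOf (comp m E i) := by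
      ext x
      rw [MonoidHom.mem_ker, Subtype.ext_iff, compHom_coe, mem_subgroupOf]
      exact proj_one hb
    rw [h]
    exact (CfsgLib.Coprime.pCore_isPGroup p).comap_of_injective (comp m E i).subtype
      (comp m E i).subtype_injective

/-- Every block lies in a component residual. -/
theorem block_le (F : Subgroup G) (hF : Cfsg.IsBaumannBlock p (T : Subgroup G) F) :
    ∃ E' ∈ Set.range (comp m E), F ≤ E' := by
  by_contra! hcon
  have hall : ∀ i, ⁅F, comp m E i⁆ = ⊥ := fun i =>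
    (((CfsgLib.SubBlock.subnormal_block d.hyp.char T (hb.block i) (d.comp_subnormal i)).2.2.2 F ⟨T, hF⟩).resolve_left
      (hcon _ ⟨i, rfl⟩))
  have hFc : (⨆ i, comp m E i) ≤ centralizer (F : Set G) :=
    iSup_le fun i => le_centralizer_iff.1 (commutator_eq_bot_iff_le_centralizer.1 (hall i))
  have hFP : F ≤ ⨆ i, comp m E i := hF.1.ge.trans ((res_mono le_top).trans d.res_le_prod)
  have hab : F ≤ centralizer (F : Set G) := hFP.trans hFc
  have hb' := CfsgLib.BaumannBlock.blockFacts hF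
  have hQ : Cfsg.pCoreOf p F = ⊥ := by
    rw [← hb'.commQ, commutator_eq_bot_iff_le_centralizer]
    exact (CfsgLib.JComp.pCoreOf_le p F).trans hab
  have hker := hb'.ker
  rw [hQ] at hker
  refine CfsgLib.BaumannBlock.ne_bot_of_block hF (le_bot_iff.1 (le_trans (le_inf le_rfl ?_) hker))
  have hW : CfsgLib.BaumannBlock.bW p F = ⊥ :=
    le_bot_iff.1 (((CfsgLib.BaumannBlock.omegaOneCenter_le p _).trans inf_le_left).trans hQ.le)
  intro x _
  rw [hW]
  exact mem_centralizer_iff.2 fun y hy => by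
    rw [show y = 1 from mem_bot.1 hy, one_mul, mul_one]

/-- A component of an element of `M` lies in `C*`. -/
theorem component_mem {i : Fin r} {a y : G} (ha : a ∈ comp m E i)
    (hy : ∀ e ∈ E i, proj m y * e = e * proj m y) (h : a * y ∈ M) :
    a ∈ Cfsg.cStarOf p (T : Subgroup G) := by
  have haE : proj m a ∈ E i := mem_lift_proj.1 (res_le _ ha)
  rcases d.nat i with ⟨hq, -, -⟩ | ⟨rfl, -, θ, ψ, -, hev, hk, he⟩
  · exact d.lin_mem_of_norm hb haE (d.lin_norm_of_mem hq haE hy h)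
  · obtain ⟨cc, hcc, htr⟩ := d.dec.sym_sylow i θ
    refine d.mem_cStar_of_fix fun u hu => ?_
    exact d.sym_fix hev hk he hcc htr hu (e := ⟨proj m a, haE⟩) (d.sym_point_of_mem hev he hcc htr hk haE hy h)

theorem inter_le : M ⊓ (⨆ i, comp m E i) ≤ ⨆ i, Cfsg.cStarOf p (T : Subgroup G) ⊓ comp m E i := by
  classical
  set K := ⨆ i, Cfsg.cStarOf p (T : Subgroup G) ⊓ comp m E i
  suffices h : ∀ s : Finset (Fin r), M ⊓ s.sup (comp m E) ≤ K by
    have h2 := h Finset.univ
    rwa [Finset.sup_univ_eq_iSup] at h2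
  intro s
  induction s using Finset.induction_on with
  | empty => rw [Finset.sup_empty, inf_bot_eq]; exact bot_le
  | insert i s his ih =>
    intro x hx
    rw [Finset.sup_insert] at hx
    have hle : s.sup (comp m E) ≤ ⨆ j ∈ {j | j ≠ i}, comp m E j := Finset.sup_le fun j hj =>
      le_iSup₂_of_le j (fun e => his (e ▸ hj)) le_rfl
    have hN : s.sup (comp m E) ≤ normalizer (comp m E i : Set G) := Finset.sup_le fun j hj =>
      le_trans (commutator_eq_bot_iff_le_centralizer.1 (hb.com j i fun e => his (e ▸ hj)))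
        (centralizer_le_normalizer _)
    obtain ⟨a, ha, y, hy, rfl⟩ := CfsgLib.Coprime.mem_sup_exists hN hx.2
    have haC := d.component_mem hb ha (fun e he => d.proj_com_other (hle hy) he) hx.1
    refine mul_mem (mem_iSup_of_mem i ⟨haC, ha⟩) (ih ⟨?_, hy⟩)
    have := M.mul_mem (M.inv_mem (d.cStar_le haC)) hx.1
    rwa [inv_mul_cancel_left] at this

/-- The quotient of a component residual and the image of `C*`, for a linear component over more than three
scalars. -/
theorem lin_structure (hq : 3 < q) (i : Fin r) :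
    ∃ (F : Type) (_ : Field F) (_ : Fintype F) (k : ℕ), 3 < p ^ k ∧ Fintype.card F = p ^ k ∧
      Nonempty (↥(comp m E i) ⧸ Cfsg.pCore p ↥(comp m E i) ≃* SL(2, F)) ∧
      Cfsg.cStarOf p (T : Subgroup G) ⊓ comp m E i =
        comp m E i ⊓ normalizer (((T : Subgroup G) ⊓ comp m E i : Subgroup G) : Set G) := by
  obtain ⟨hqn, F, iF, iFf, hF, ρ₁, -⟩ : q = p ^ n ∧ IsNat2 U q (E i) := by
    rcases d.nat i with ⟨-, h, h'⟩ | ⟨h, -, -⟩
    · exact ⟨h, h'⟩
    · omega
  have htop : Cfsg.pResidual p SL(2, F) = ⊤ :=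
    (res_sl2 (hF.trans hqn) (by omega)).trans (CfsgLib.Lie.SLUniv.sl2_commutator (by omega))
  have hres : (compHom m E i).range = ⊤ := by
    rw [compHom_range]
    refine map_injective (f := ρ₁.toMonoidHom) ρ₁.injective ?_
    rw [map_res_equiv, htop, map_top_of_surjective _ ρ₁.surjective]
  have hsurj : Function.Surjective (compHom m E i) := MonoidHom.range_eq_top.1 hres
  obtain ⟨hAc, hA⟩ := d.bT_linear (by omega) i
  set A := img m (bT T) ⊓ E i
  have hAS : A ≤ (S : Subgroup H) := inf_le_left.trans (d.bT_roots.le.trans (rootsIn_le _))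
  have hSE : (S : Subgroup H) ⊓ E i = A :=
    d.dec.eq_root_of_pgroup (by omega) hA (le_inf hAS inf_le_right) (S.2.to_le inf_le_left) inf_le_right
  have hTmem : ∀ y ∈ comp m E i, (y ∈ (T : Subgroup G) ↔ proj m y ∈ A) := by
    intro y hy
    refine ⟨fun hyT => hSE.le ⟨d.sylow.ge ((img_eq_map m _).ge (mem_map_of_mem _ hyT)),
      mem_lift_proj.1 (res_le _ hy)⟩, fun hyA => ?_⟩
    obtain ⟨t, ht, hte⟩ := (img_eq_map m _).le (d.sylow.le (hAS hyA))
    have h1 : t⁻¹ * y ∈ Cfsg.pCore p G := by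
      rw [← proj_one hb, map_mul, map_inv, hte, inv_mul_cancel]
    have := mul_mem ht (pCore_le_T (T := T) h1)
    rwa [mul_inv_cancel_left] at this
  refine ⟨F, iF, iFf, n, hqn ▸ hq, hF.trans hqn, ⟨((QuotientGroup.quotientMulEquivOfEq (d.pCore_comp_ker hb i)).trans
    (QuotientGroup.quotientKerEquivOfSurjective _ hsurj)).trans ρ₁⟩, ?_⟩
  ext x
  rw [mem_inf, mem_inf]
  constructor
  · rintro ⟨hxC, hx⟩
    refine ⟨hx, conjBy_eq_iff.1 (conjBy_eq_of_le ?_)⟩
    have hn := d.lin_norm_of_mem (by omega) (mem_lift_proj.1 (res_le _ hx)) (y := 1)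
      (fun e _ => by rw [map_one, one_mul, mul_one]) (by rw [mul_one]; exact d.cStar_le hxC)
    rintro _ ⟨y, hy, rfl⟩
    have hxy : x * y * x⁻¹ ∈ comp m E i := mul_mem (mul_mem hx hy.2) (inv_mem hx)
    refine ⟨(hTmem _ hxy).2 ?_, hxy⟩
    rw [map_mul, map_mul, map_inv]
    exact hn.le (conj_mem_conjBy ((hTmem y hy.2).1 hy.1))
  · rintro ⟨hx, hxN⟩
    refine ⟨d.lin_mem_of_norm hb (mem_lift_proj.1 (res_le _ hx)) (conjBy_eq_of_le ?_), hx⟩
    rintro _ ⟨a, ha, rfl⟩
    obtain ⟨y, hy⟩ := hsurj ⟨a, ha.2⟩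
    have hya : proj m (y : G) = a := congrArg Subtype.val hy
    have h2 := (mem_normalizer_iff.1 hxN (y : G)).1 ⟨(hTmem _ y.2).2 (hya.symm ▸ ha), y.2⟩
    have h3 := (hTmem _ h2.2).1 h2.1
    rwa [map_mul, map_mul, map_inv, hya] at h3

/-- The same over three scalars. -/
theorem three_structure (hq : q = 3) (i : Fin r) :
    p = 3 ∧ Nonempty (↥(comp m E i) ⧸ Cfsg.pCore p ↥(comp m E i) ≃*
        ↥(_root_.commutator SL(2, ZMod 3))) ∧
      ((Cfsg.cStarOf p (T : Subgroup G) ⊓ comp m E i).subgroupOf (comp m E i)).map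
          (QuotientGroup.mk' (Cfsg.pCore p ↥(comp m E i))) =
        center (↥(comp m E i) ⧸ Cfsg.pCore p ↥(comp m E i)) := by
  obtain ⟨hqn, F, iF, iFf, hF, ρ₁, -⟩ : q = p ^ n ∧ IsNat2 U q (E i) := by
    rcases d.nat i with ⟨-, h, h'⟩ | ⟨h, -, -⟩
    · exact ⟨h, h'⟩
    · omega
  have hdvd : p ∣ 3 := hq ▸ hqn ▸ dvd_pow_self p (by have := d.one_le; omega)
  have hp3 : p = 3 := (Nat.prime_dvd_prime_iff_eq hp.out Nat.prime_three).1 hdvd
  subst hp3
  obtain ⟨θ, hθ⟩ : ∃ θ : ↥(E i) ≃* SL(2, ZMod 3),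
      θ = ρ₁.trans (CfsgLib.SubBlock.slCongr (ZMod.ringEquivOfPrime F Nat.prime_three (hF.trans hq))).symm :=
    ⟨_, rfl⟩
  obtain ⟨ρ, hρ⟩ : ∃ ρ, ρ = θ.toMonoidHom.comp (compHom m E i) := ⟨_, rfl⟩
  have hrange : ρ.range = _root_.commutator SL(2, ZMod 3) := by
    rw [hρ, MonoidHom.range_comp, compHom_range, map_res_equiv,
      res_sl2 (F := ZMod 3) (p := 3) (n := 1) (by rw [pow_one, ZMod.card]) (by rw [ZMod.card]; omega)]
  have hker : ρ.ker = Cfsg.pCore 3 ↥(comp m E i) := by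
    rw [d.pCore_comp_ker hb]
    ext x
    rw [hρ, MonoidHom.mem_ker, MonoidHom.mem_ker, MonoidHom.comp_apply]
    exact map_eq_one_iff _ θ.injective
  obtain ⟨hAc, hA⟩ := d.bT_linear (by omega) i
  set A := img m (bT T) ⊓ E i
  obtain ⟨a, haA, ha1⟩ := hA.exists_ne_one d.frame.least
  have haE : a ∈ E i := haA.2
  have ha3 : θ ⟨a, haE⟩ ^ 3 = 1 := by
    rw [← map_pow, map_eq_one_iff _ θ.injective]
    exact Subtype.ext (hA.el.pow a haA)
  have hane : θ ⟨a, haE⟩ ≠ 1 := fun h => ha1 (congrArg Subtype.val ((map_eq_one_iff _ θ.injective).1 h))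
  have h8 : ∀ x, ρ x ^ 8 = 1 := fun x => pow_eight_of_mem (hrange ▸ ⟨x, rfl⟩)
  have hiff : ∀ x : ↥(comp m E i),
      (x : G) ∈ Cfsg.cStarOf 3 (T : Subgroup G) ↔ ρ x = 1 ∨ ρ x = -1 := by
    intro x
    have hxE : proj m (x : G) ∈ E i := mem_lift_proj.1 (res_le _ x.2)
    have hρx : ρ x = θ ⟨proj m (x : G), hxE⟩ := by rw [hρ]; rfl
    constructor
    · intro hxC
      have hn := d.lin_norm_of_mem (by omega) hxE (y := 1) (fun e _ => by rw [map_one, one_mul, mul_one])
        (by rw [mul_one]; exact d.cStar_le hxC)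
      refine three_norm _ _ (h8 x) ha3 hane ?_
      rw [hρx, ← map_inv, ← map_mul, ← map_mul, ← map_mul, ← map_mul]
      exact congrArg θ (Subtype.ext (hA.el.comm _ (hn.le (conj_mem_conjBy haA)) a haA))
    · intro h
      refine d.lin_mem_of_norm hb hxE (conjBy_eq_of_le ?_)
      rintro _ ⟨z, hz, rfl⟩
      have e : θ (⟨proj m (x : G), hxE⟩ * ⟨z, hz.2⟩) = θ (⟨z, hz.2⟩ * ⟨proj m (x : G), hxE⟩) := by
        rw [map_mul, map_mul, ← hρx]
        rcases h with h | h <;> simp [h]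
      have h2 : proj m (x : G) * z = z * proj m (x : G) := congrArg Subtype.val (θ.injective e)
      show proj m (x : G) * z * (proj m (x : G))⁻¹ ∈ A
      rw [h2, mul_inv_cancel_right]
      exact hz
  refine ⟨rfl, ⟨((QuotientGroup.quotientMulEquivOfEq hker.symm).trans
    (QuotientGroup.quotientKerEquivRange ρ)).trans (MulEquiv.subgroupCongr hrange)⟩, ?_⟩
  ext z
  obtain ⟨x, rfl⟩ := QuotientGroup.mk'_surjective _ z
  have hcen : QuotientGroup.mk' (Cfsg.pCore 3 ↥(comp m E i)) x ∈ center _ ↔ ρ x = 1 ∨ ρ x = -1 := by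
    have h1 : ∀ y, QuotientGroup.mk' (Cfsg.pCore 3 ↥(comp m E i)) y * QuotientGroup.mk' _ x =
        QuotientGroup.mk' _ x * QuotientGroup.mk' _ y ↔ ρ y * ρ x = ρ x * ρ y := fun y => by
      rw [← map_mul, ← map_mul, ← map_mul, ← map_mul]
      simp only [QuotientGroup.mk'_apply]
      rw [QuotientGroup.eq, ← hker, MonoidHom.mem_ker, map_mul, map_inv, inv_mul_eq_one]
    constructor
    · intro hz
      refine three_center _ (h8 x) fun g hg => ?_
      obtain ⟨y, rfl⟩ := hrange.ge (mem_of_pow_eight hg)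
      exact ((h1 y).1 (mem_center_iff.1 hz _)).symm
    · intro h
      refine mem_center_iff.2 fun w => ?_
      obtain ⟨y, rfl⟩ := QuotientGroup.mk'_surjective _ w
      exact (h1 y).2 (by rcases h with h | h <;> simp [h])
  rw [hcen, ← hiff]
  constructor
  · rintro ⟨x', hx', he⟩
    have h3 : x'⁻¹ * x ∈ Cfsg.pCore 3 ↥(comp m E i) := QuotientGroup.eq.1 he
    have h4 : ρ x = ρ x' := by
      rw [← hker, MonoidHom.mem_ker, map_mul, map_inv, inv_mul_eq_one] at h3
      exact h3.symm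
    rw [hiff, h4, ← hiff]
    exact hx'.1
  · exact fun h => mem_map_of_mem _ (show x ∈ (_ ⊓ comp m E i).subgroupOf _ from ⟨h, x.2⟩)

end Data

namespace Data

variable (d : Data T M m 2 n r S E) (hb : Blocks T m E)
include d hb

/-- The same for a symmetric component. -/
theorem sym_structure (i : Fin r) :
    p = 2 ∧ ∃ k : ℕ, 2 * k + 1 = 2 ^ n + 1 ∧
      Nonempty (↥(comp m E i) ⧸ Cfsg.pCore p ↥(comp m E i) ≃* ↥(alternatingGroup (Fin (2 * k + 1)))) ∧
      Nonempty (↥(((Cfsg.cStarOf p (T : Subgroup G) ⊓ comp m E i).subgroupOf (comp m E i)).map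
          (QuotientGroup.mk' (Cfsg.pCore p ↥(comp m E i)))) ≃* ↥(alternatingGroup (Fin (2 * k)))) := by
  classical
  obtain ⟨hp2, θ, ψ, -, hev, hk, he⟩ : p = 2 ∧ IsPermNat U n (E i) := by
    rcases d.nat i with ⟨h, -, -⟩ | ⟨-, h, h'⟩
    · omega
    · exact ⟨h, h'⟩
  obtain ⟨k, hkn⟩ : ∃ k, 2 ^ n = 2 * k := ⟨2 ^ (n - 1), by
    rw [← pow_succ', show n - 1 + 1 = n by have := d.one_le; omega]⟩
  refine ⟨hp2, k, by rw [hkn], ?_⟩
  rw [← hkn]
  obtain ⟨cc, hcc, htr⟩ := d.dec.sym_sylow i θ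
  obtain ⟨ρ, hρ⟩ : ∃ ρ, ρ = θ.toMonoidHom.comp (compHom m E i) := ⟨_, rfl⟩
  have hrange : ρ.range = alternatingGroup (Fin (2 ^ n + 1)) := by
    subst hp2
    rw [hρ, MonoidHom.range_comp, compHom_range, map_res_equiv, res_perm]
  have hker : ρ.ker = Cfsg.pCore p ↥(comp m E i) := by
    rw [d.pCore_comp_ker hb]
    ext x
    rw [hρ, MonoidHom.mem_ker, MonoidHom.mem_ker, MonoidHom.comp_apply]
    exact map_eq_one_iff _ θ.injective
  set φ := ((QuotientGroup.quotientMulEquivOfEq hker.symm).trans (QuotientGroup.quotientKerEquivRange ρ))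
  refine ⟨⟨φ.trans (MulEquiv.subgroupCongr hrange)⟩, ?_⟩
  set K := (Cfsg.cStarOf p (T : Subgroup G) ⊓ comp m E i).subgroupOf (comp m E i)
  have hK : K.map ρ = alternatingGroup (Fin (2 ^ n + 1)) ⊓ MulAction.stabilizer _ cc := by
    ext σ
    constructor
    · rintro ⟨x, hx, rfl⟩
      refine mem_inf.2 ⟨hrange.le ⟨x, rfl⟩, ?_⟩
      have hxE : proj m (x : G) ∈ E i := mem_lift_proj.1 (res_le _ x.2)
      show ρ x cc = cc
      rw [hρ]
      exact d.sym_point_of_mem hev he hcc htr hk hxE (y := 1) (fun e _ => by rw [map_one, one_mul, mul_one])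
        (by rw [mul_one]; exact d.cStar_le hx.1)
    · intro hσ
      obtain ⟨x, rfl⟩ := hrange.ge (mem_inf.1 hσ).1
      refine ⟨x, ⟨d.mem_cStar_of_fix fun u hu => ?_, x.2⟩, rfl⟩
      exact d.sym_fix hev hk he hcc htr hu (e := compHom m E i x) (by
        have h := (mem_inf.1 hσ).2
        rw [hρ] at h
        exact h)
  have hι : (ρ.range.subtype.comp φ.toMonoidHom).comp (QuotientGroup.mk' _) = ρ := MonoidHom.ext fun x => rfl
  have hιi : Function.Injective (ρ.range.subtype.comp φ.toMonoidHom) :=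
    ρ.range.subtype_injective.comp φ.injective
  obtain ⟨ψ'⟩ := alt_point_equiv cc
  refine ⟨((equivMapOfInjective _ _ hιi).trans (MulEquiv.subgroupCongr ?_)).trans ψ'⟩
  rw [map_map, hι, hK]

end Data

namespace Data

variable (d : Data T M m q n r S E) (hb : Blocks T m E)
include d hb

theorem degree_clause (i : Fin r) {k : ℕ}
    (φ : ↥(comp m E i) ⧸ Cfsg.pCore p ↥(comp m E i) ≃* ↥(alternatingGroup (Fin (2 * k + 1)))) :
    ∃ n' : ℕ, 2 * k + 1 = 2 ^ n' + 1 := by
  rcases d.nat i with ⟨hq, hqn, F, iF, iFf, hF, ρ₁, -⟩ | ⟨rfl, -, -⟩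
  · have hres := res_sl2 (F := F) (hF.trans hqn) (by omega)
    obtain ⟨ρ, hρ⟩ : ∃ ρ, ρ = ρ₁.toMonoidHom.comp (compHom m E i) := ⟨_, rfl⟩
    have hrange : ρ.range = _root_.commutator SL(2, F) := by
      rw [hρ, MonoidHom.range_comp, compHom_range, map_res_equiv, hres]
    have hker : ρ.ker = Cfsg.pCore p ↥(comp m E i) := by
      rw [d.pCore_comp_ker hb]
      ext x
      rw [hρ, MonoidHom.mem_ker, MonoidHom.mem_ker, MonoidHom.comp_apply]
      exact map_eq_one_iff _ ρ₁.injective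
    exact degree_of_sl2 (F := F) (by omega) ((((QuotientGroup.quotientMulEquivOfEq hker.symm).trans
      (QuotientGroup.quotientKerEquivRange ρ)).trans (MulEquiv.subgroupCongr hrange)).symm.trans φ)
  · obtain ⟨-, k', hk', ⟨φ'⟩, -⟩ := d.sym_structure hb i
    refine ⟨n, ?_⟩
    rw [← hk']
    have h := Nat.card_congr (φ.symm.trans φ').toEquiv
    have h2 : 3 ≤ 2 * k' + 1 := by
      have := Nat.pow_le_pow_right (n := 2) (by omega) d.one_le
      omega
    haveI : Nontrivial (Fin (2 * k' + 1)) := Fin.nontrivial_iff_two_le.2 (by omega)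
    rcases Nat.eq_zero_or_pos k with rfl | hk0
    · exfalso
      haveI : Subsingleton (Fin (2 * 0 + 1)) := Fin.subsingleton_one
      rw [Nat.card_eq_one_iff_unique.2 (show Subsingleton ↥(alternatingGroup (Fin (2 * 0 + 1))) ∧
        Nonempty ↥(alternatingGroup (Fin (2 * 0 + 1))) from
        ⟨⟨fun a b => Subtype.ext (Subsingleton.elim _ _)⟩, ⟨1⟩⟩)] at h
      have h3 := two_mul_nat_card_alternatingGroup (α := Fin (2 * k' + 1))
      rw [← h, Nat.card_perm, Nat.card_eq_fintype_card, Fintype.card_fin] at h3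
      have : (3 : ℕ).factorial ≤ (2 * k' + 1).factorial := Nat.factorial_le h2
      rw [show (3 : ℕ).factorial = 6 from rfl] at this
      omega
    haveI : Nontrivial (Fin (2 * k + 1)) := Fin.nontrivial_iff_two_le.2 (by omega)
    have h3 := two_mul_nat_card_alternatingGroup (α := Fin (2 * k' + 1))
    have h4 := two_mul_nat_card_alternatingGroup (α := Fin (2 * k + 1))
    rw [Nat.card_perm, Nat.card_eq_fintype_card (α := Fin _), Fintype.card_fin] at h3 h4
    exact (Nat.factorial_inj (show 1 < 2 * k + 1 by omega)).1 (by rw [← h3, ← h4, h])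

/-- The block structure. -/
theorem structure_of_blocks :
    ∃ 𝓑 : Set (Subgroup G), Cfsg.HasBaumannBlockStructure p (T : Subgroup G) 𝓑 ∧
      (∀ F ∈ 𝓑, ∀ k : ℕ, Nonempty (↥F ⧸ Cfsg.pCore p ↥F ≃* ↥(alternatingGroup (Fin (2 * k + 1)))) →
        ∃ n' : ℕ, 2 * k + 1 = 2 ^ n' + 1) ∧
      Cfsg.cStarOf p (T : Subgroup G) =
        (Cfsg.cStarOf p (T : Subgroup G) ⊓ sSup 𝓑) ⊔ (T : Subgroup G) := by
  haveI := d.prod_normal
  have hsup : sSup (Set.range (comp m E)) = ⨆ i, comp m E i := sSup_range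
  refine ⟨Set.range (comp m E), ⟨?_, ?_, ?_, ?_, ?_, ?_, ?_⟩, ?_, ?_⟩
  · rintro _ ⟨i, rfl⟩
    exact hb.block i
  · rintro _ ⟨i, rfl⟩ g
    obtain ⟨j, hj⟩ := d.comp_conj g i
    exact ⟨j, hj.symm⟩
  · rintro _ ⟨i, rfl⟩ _ ⟨j, rfl⟩ hne
    exact hb.com i j fun e => hne (e ▸ rfl)
  · rw [hsup]
    exact top_le_iff.1 (d.prod_sup_sylow.ge.trans (sup_le_sup_right d.sylow_le_cStar _))
  · exact fun F hF _ => d.block_le hb F hF
  · rw [hsup, iSup_range]
    refine le_antisymm ((inf_le_inf_right _ d.cStar_le).trans (d.inter_le hb)) ?_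
    exact iSup_le fun i => inf_le_inf_left _ (le_iSup (comp m E) i)
  · rintro _ ⟨i, rfl⟩
    rcases d.nat i with ⟨hq, -, -⟩ | ⟨hq, -, -⟩
    · by_cases h3 : 3 < q
      · exact Or.inl (d.lin_structure hb h3 i)
      · exact Or.inr (Or.inr (d.three_structure hb (by omega) i))
    · subst hq
      obtain ⟨hp2, k, -, h1, h2⟩ := d.sym_structure hb i
      exact Or.inr (Or.inl ⟨hp2, k, h1, h2⟩)
  · rintro _ ⟨i, rfl⟩ k ⟨φ⟩
    exact d.degree_clause hb i φ
  · rw [hsup]
    refine le_antisymm (fun x hx => ?_) (sup_le inf_le_left d.sylow_le_cStar)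
    obtain ⟨t, ht, y, hy, rfl⟩ := mem_sup_of_normal_right.1 (d.prod_sup_sylow.ge (mem_top x))
    have hy' : y ∈ Cfsg.cStarOf p (T : Subgroup G) := by
      have h := mul_mem (inv_mem (d.sylow_le_cStar ht)) hx
      rwa [inv_mul_cancel_left] at h
    exact mul_mem (mem_sup_right ht) (mem_sup_left ⟨hy', hy⟩)

end Data

end CfsgLib.CFun.MinParab.Push
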