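import Cfsg.Agent.Lib.CFun.MinParab.Push.Crit

/-!
# Pushing up with one natural step: the linear components have no central extension

Over every element of a root there is an element of `B` moving `B` only inside `[V, E i]`. So a Sylow subgroup
of the residual of a component is abelian modulo `[V, E i]`, and the transfer shows that the residual meets
`O_p(G)` in `[V, E i]`.
-/

set_option autoImplicit false
set_option linter.unusedSectionVars false
set_option linter.style.haveILetI false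

open Subgroup
open CfsgLib.Char.NatSL (fixS mem_fixS fixS_mono)
open CfsgLib.Fusion (conjBy mem_conjBy conj_mem_conjBy conjBy_le_iff conjBy_eq_iff conjBy_conjBy conjBy_mono
  conjBy_eq_of_le conjBy_inv_conjBy conjBy_conjBy_inv)
open scoped commutatorElement MatrixGroups

namespace CfsgLib.CFun.MinParab.Push

open Rec Off

universe u v w

/-- A central element of an abelian Sylow subgroup of a group without `p`-quotient is trivial. -/
theorem central_eq_one {K : Type*} [Group K] [Finite K] {p : ℕ} [Fact p.Prime] (P : Sylow p K)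
    (hP : ∀ a ∈ (P : Subgroup K), ∀ b ∈ (P : Subgroup K), a * b = b * a) (hres : Cfsg.pResidual p K = ⊤)
    {z : K} (hz : z ∈ center K) (hzP : z ∈ (P : Subgroup K)) : z = 1 := by
  letI : CommGroup ↥(P : Subgroup K) :=
    { (inferInstance : Group ↥(P : Subgroup K)) with
      mul_comm := fun a b => Subtype.ext (hP a a.2 b b.2) }
  haveI : (P : Subgroup K).FiniteIndex := inferInstance
  set φ := MonoidHom.transfer (MonoidHom.id ↥(P : Subgroup K))
  have hker : φ.ker = ⊤ := top_le_iff.1 (hres.ge.trans (CfsgLib.Fusion.pResidual_le_ker φ P.2))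
  have key : ∀ (k : ℕ) (g₀ : K), g₀⁻¹ * z ^ k * g₀ ∈ (P : Subgroup K) → g₀⁻¹ * z ^ k * g₀ = z ^ k :=
    fun k g₀ _ => by rw [mul_assoc, ← mem_center_iff.1 (pow_mem hz k) g₀, inv_mul_cancel_left]
  have h1 : φ z = 1 := hker.ge (mem_top z)
  rw [MonoidHom.transfer_eq_pow (MonoidHom.id ↥(P : Subgroup K)) z key, MonoidHom.id_apply] at h1
  have h2 : z ^ (P : Subgroup K).index = 1 := congrArg Subtype.val h1
  obtain ⟨j, hj⟩ := P.2 ⟨z, hzP⟩
  exact orderOf_eq_one_iff.1 (Nat.eq_one_of_dvd_coprimes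
    (Nat.Coprime.pow_left j ((Fact.out : p.Prime).coprime_iff_not_dvd.2 P.not_dvd_index))
    (orderOf_dvd_of_pow_eq_one (congrArg Subtype.val hj)) (orderOf_dvd_of_pow_eq_one h2))

/-- An additive subgroup of a finite field stable under multiplication by squares is trivial or everything. -/
theorem addSubgroup_sq {F : Type} [Field F] [Fintype F] (N : AddSubgroup F)
    (hN : ∀ s : F, ∀ x ∈ N, s * s * x ∈ N) {x : F} (hx : x ∈ N) (hx0 : x ≠ 0) : N = ⊤ := by
  refine (AddSubgroup.eq_top_iff' N).2 fun y => ?_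
  obtain ⟨a, b, hab⟩ : ∃ a b : F, a * a + b * b = y * x⁻¹ := by
    by_cases h2 : ringChar F = 2
    · obtain ⟨a, ha⟩ := FiniteField.isSquare_of_char_two h2 (y * x⁻¹)
      exact ⟨a, 0, by rw [ha]; ring⟩
    · have hodd : Fintype.card F % 2 = 1 := by
        rcases Nat.mod_two_eq_zero_or_one (Fintype.card F) with h | h
        · exact absurd (FiniteField.even_card_iff_char_two.2 h) h2
        · exact h
      obtain ⟨a, b, hab⟩ := FiniteField.exists_root_sum_quadratic
        (f := (Polynomial.X ^ 2 : Polynomial F)) (g := Polynomial.X ^ 2 - Polynomial.C (y * x⁻¹))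
        (Polynomial.degree_X_pow 2) (Polynomial.degree_X_pow_sub_C (by norm_num) _) hodd
      refine ⟨a, b, ?_⟩
      simp only [Polynomial.eval_pow, Polynomial.eval_X, Polynomial.eval_sub, Polynomial.eval_C] at hab
      linear_combination hab
  have h := N.add_mem (hN a x hx) (hN b x hx)
  rwa [← add_mul, hab, mul_assoc, inv_mul_cancel₀ hx0, mul_one] at h

variable {G : Type u} [Group G] [Finite G] {p : ℕ} [hp : Fact p.Prime] {T : Sylow p G} {M : Subgroup G}
  {H : Type v} [Group H] [Finite H] {U : Type w} [AddCommGroup U] [Finite U] [DistribMulAction H U]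
  {m : Glue.Mdl (vQ p G) ⊤ H U} {q n r : ℕ} {S : Sylow p H} {E : Fin r → Subgroup H}

namespace Data

variable (d : Data T M m q n r S E)
include d

/-- The normalizer of a root in a linear component acts irreducibly on it. -/
theorem root_irred {i : Fin r} {A : Subgroup H} (hA : Root U p q A) (hAi : A ≤ E i) {A₀ : Subgroup H}
    (hle : A₀ ≤ A) (hne : A₀ ≠ ⊥)
    (hinv : ∀ l ∈ E i, conjBy l A = A → conjBy l A₀ ≤ A₀) : A₀ = A := by
  classical
  have hs := d.sys
  obtain ⟨h₀, L₀, -, -, -, hb⟩ := hA.exists_conj_blk d.frame.least d.ctx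
  obtain ⟨F, iF, iFf, hFc, ⟨c⟩, -⟩ := exists_coord hb
  have hB : Root U p q (conjBy h₀ A) := hA.conj h₀
  have hnat₀ : IsNat2 U (Nat.card ↥(conjBy h₀ A)) L₀ := isNat2_of_blk hb
  -- the block lies in the component
  have hL₀ : conjBy h₀⁻¹ L₀ ≤ E i := by
    have hA₁ : Root U p q (conjBy h₀⁻¹ (conjBy c.wl (conjBy h₀ A))) := (hB.conj c.wl).conj h₀⁻¹
    obtain ⟨l, hl⟩ := d.frame.covered _ hA₁
    by_cases hli : l = i
    · subst hli
      rw [← c.gen, CfsgLib.Fusion.conjBy, Subgroup.map_sup]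
      exact sup_le ((conjBy_inv_conjBy h₀ A).le.trans hAi) hl
    exfalso
    have hcom : Com (conjBy h₀ A) (conjBy c.wl (conjBy h₀ A)) := by
      have h := ((d.frame.parts.com i l (Ne.symm hli)).mono hAi hl).conj h₀
      rwa [conjBy_conjBy_inv] at h
    obtain ⟨v₀, hv₀⟩ := c.surj (0, 1)
    have h1 := hs.le_of_com hB (hB.conj c.wl) hcom (sub_mem_commS (c.ub_mem 1) v₀)
    rw [Rec.fixS_conjBy, Char.NatSL.mem_tr, c.memW] at h1
    have h2 := congrArg Prod.fst (c.wl_ψ (c.wl⁻¹ • (c.ub 1 • v₀ - v₀)))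
    rw [smul_inv_smul, h1, map_sub, c.ub_ψ, hv₀] at h2
    simp at h2
  have hext : ∀ x ∈ L₀, ∀ y ∈ L₀, (∀ v, c.ψ (x • v) = c.ψ (y • v)) → x = y := fun x hx y hy h => by
    refine mul_inv_eq_one.1 (hnat₀.eq_one (mul_mem hx (inv_mem hy)) fun v => ?_)
    rw [← c.ker, map_sub, mul_smul, h, smul_inv_smul, sub_self]
  have hadd : ∀ a b, c.ub (a + b) = c.ub a * c.ub b := fun a b =>
    hext _ (c.le (c.ub_mem _)) _ (mul_mem (c.le (c.ub_mem a)) (c.le (c.ub_mem b))) fun v => by
      rw [mul_smul, c.ub_ψ, c.ub_ψ, c.ub_ψ]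
      refine Prod.ext ?_ ?_
      · simp only; ring
      · rfl
  have htor : ∀ s : F, s ≠ 0 → ∀ a, c.tor s * c.ub a * (c.tor s)⁻¹ = c.ub (s * s * a) := fun s hs0 a =>
    hext _ (mul_mem (mul_mem (c.tor_mem s) (c.le (c.ub_mem a))) (inv_mem (c.tor_mem s))) _ (c.le (c.ub_mem _))
      fun v => by
        rw [mul_smul, mul_smul, c.tor_ψ s hs0, c.ub_ψ, inv_eq_of_mul_eq_one_right (c.tor_inv s hs0),
          c.tor_ψ _ (inv_ne_zero hs0), c.ub_ψ]
        refine Prod.ext ?_ ?_ <;> simp only [inv_inv]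
        · field_simp
        · field_simp
  have h0 : c.ub 0 = 1 := hext _ (c.le (c.ub_mem _)) _ (one_mem _) fun v => by
    rw [one_smul, c.ub_ψ, zero_mul, add_zero]
  let N : AddSubgroup F :=
    { carrier := {a | c.ub a ∈ conjBy h₀ A₀}
      zero_mem' := by show c.ub 0 ∈ conjBy h₀ A₀; rw [h0]; exact one_mem _
      add_mem' := fun {a b} ha hb => by show c.ub (a + b) ∈ conjBy h₀ A₀; rw [hadd]; exact mul_mem ha hb
      neg_mem' := fun {a} ha => by
        show c.ub (-a) ∈ conjBy h₀ A₀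
        rw [eq_inv_of_mul_eq_one_left (show c.ub (-a) * c.ub a = 1 by rw [← hadd, neg_add_cancel, h0])]
        exact inv_mem ha }
  obtain ⟨a₀, ha₀, ha₁⟩ : ∃ a ∈ A₀, a ≠ 1 := by
    by_contra! h
    exact hne ((eq_bot_iff_forall _).2 h)
  obtain ⟨x, hx⟩ := c.exists_ub _ (conj_mem_conjBy (g := h₀) (hle ha₀))
  have hxN : x ∈ N := show c.ub x ∈ _ from hx ▸ conj_mem_conjBy ha₀
  have hx0 : x ≠ 0 := fun e => ha₁ (conj_eq_one_iff.1 (hx.symm.trans (e ▸ h0)))
  have hNtop : N = ⊤ := by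
    refine addSubgroup_sq N (fun s y hy => ?_) hxN hx0
    show c.ub (s * s * y) ∈ conjBy h₀ A₀
    by_cases hs0 : s = 0
    · rw [hs0, zero_mul, zero_mul, h0]; exact one_mem _
    rw [← htor s hs0 y]
    have hlE : h₀⁻¹ * c.tor s * h₀⁻¹⁻¹ ∈ E i := hL₀ (conj_mem_conjBy (c.tor_mem s))
    have hlA : conjBy (h₀⁻¹ * c.tor s * h₀⁻¹⁻¹) A = A := by
      rw [← conjBy_conjBy, inv_inv, ← conjBy_conjBy, c.torN s hs0, conjBy_inv_conjBy]
    have h := conjBy_mono (g := h₀) (hinv _ hlE hlA)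
    rw [← conjBy_conjBy, inv_inv, ← conjBy_conjBy, conjBy_conjBy_inv] at h
    exact h (conj_mem_conjBy hy)
  refine le_antisymm hle fun a ha => ?_
  obtain ⟨y, hy⟩ := c.exists_ub _ (conj_mem_conjBy (g := h₀) ha)
  obtain ⟨a', ha', he⟩ : c.ub y ∈ conjBy h₀ A₀ := hNtop.ge (AddSubgroup.mem_top y)
  rw [hy] at he
  exact (MulAut.conj h₀).injective he ▸ ha'

variable (hone : IsOne T)
include hone

/-- The residual of the component is the residual of a member whose part is the component. -/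
theorem comp_eq_res {i : Fin r} {L : Subgroup H} {F : Type} [Field F] [Fintype F] {X : Subgroup G}
    (mb : Member T m E i L F X) (hL : L = E i) : comp m E i = Cfsg.pResidualOf p X := by
  subst hL
  set Ex := Cfsg.pResidualOf p X
  have hle : Ex ≤ comp m E i := res_le_of fun y hy ho => mem_res (mem_lift_proj.2 (mb.res_le y hy ho)) ho
  refine le_antisymm (res_le_of fun x hx ho => ?_) hle
  haveI := CfsgLib.Coprime.pCore_normal' (G := G) p
  have hQN : Cfsg.pCore p G ≤ normalizer (Ex : Set G) := fun z hz =>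
    conjBy_eq_iff.1 (conjBy_eq_of_le (by
      rintro _ ⟨e, he, rfl⟩
      show z * e * z⁻¹ ∈ Ex
      have h1 : ⁅e, z⁆ ∈ Ex := by
        have h2 := d.comp_comm hone i (hle he) hz
        rw [wPart, (d.member_step hone mb).1] at h2
        refine (commutator_le.2 fun v hv y hy => ?_ : ⁅vQ p G, Ex⁆ ≤ Ex) h2
        exact CfsgLib.BlockCent.comm_mem_right hy
          (CfsgLib.Char.TW.normalizer_le_pResidualOf p X (le_normalizer (d.vQ_le_X mb hv)))
      have h3 := mul_mem (inv_mem h1) he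
      rwa [commutatorElement_inv, commutatorElement_def, inv_mul_cancel_right] at h3))
  have hBN : bT T ≤ normalizer (Ex : Set G) :=
    mb.le.trans (le_normalizer.trans (CfsgLib.Char.TW.normalizer_le_pResidualOf p X))
  refine CfsgLib.BaumannNormal.coprime_mem_sup (Q := bT T ⊔ Cfsg.pCore p G)
    (T.2.to_le (sup_le inf_le_left pCore_le_T)) (sup_le hBN hQN) ?_ ho
  obtain ⟨x', hx', he⟩ := (img_eq_map m X).le (mb.image.ge (mem_sup_left (mem_lift_proj.1 hx)))
  have hz : x'⁻¹ * x ∈ Cfsg.pCore p G := by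
    rw [← d.proj_eq_one' hone, map_mul, map_inv, he, inv_mul_cancel]
  rw [← mul_inv_cancel_left x' x]
  refine mul_mem ?_ (mem_sup_right (mem_sup_right hz))
  exact (sup_le_sup_left (le_sup_left : bT T ≤ bT T ⊔ Cfsg.pCore p G) Ex) (mb.res_sup_bT.ge hx')

/-- Over every element of a root of a linear component there is an element moving `B` only inside it. -/
theorem exists_lift_all (hq : 2 < q) {i : Fin r} {L : Subgroup H} {F : Type} [Field F] [Fintype F]
    {X : Subgroup G} (mb : Member T m E i L F X) (hL : L = E i) :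
    ∀ a ∈ img m (bT T) ⊓ E i, ∃ b ∈ bT T, proj m b = a ∧ ∀ y ∈ bT T, ⁅b, y⁆ ∈ wPart m E i := by
  subst hL
  obtain ⟨hcard, hA⟩ := d.bT_linear hq i
  have hAS : img m (bT T) ⊓ E i ≤ (S : Subgroup H) :=
    inf_le_left.trans (d.bT_roots.le.trans (rootsIn_le _))
  have hnB : ∀ b ∈ bT T, b ∈ normalizer (wPart m E i : Set G) := fun b hb =>
    mem_normalizer_wPart (d.parts_conj i (d.bT_le ((img_eq_map m _).ge (mem_map_of_mem _ hb))))
  let B₀ : Subgroup G :=
    { carrier := {b | b ∈ bT T ∧ proj m b ∈ E i ∧ ∀ y ∈ bT T, ⁅b, y⁆ ∈ wPart m E i}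
      one_mem' := ⟨one_mem _, by rw [map_one]; exact one_mem _, fun y _ => by
        rw [commutatorElement_one_left]; exact one_mem _⟩
      mul_mem' := fun {a b} ha hb => ⟨mul_mem ha.1 hb.1, by rw [map_mul]; exact mul_mem ha.2.1 hb.2.1,
        fun y hy => by
          rw [show ⁅a * b, y⁆ = a * ⁅b, y⁆ * a⁻¹ * ⁅a, y⁆ by simp only [commutatorElement_def]; group]
          exact mul_mem ((mem_normalizer_iff.1 (hnB a ha.1) _).1 (hb.2.2 y hy)) (ha.2.2 y hy)⟩
      inv_mem' := fun {a} ha => ⟨inv_mem ha.1, by rw [map_inv]; exact inv_mem ha.2.1, fun y hy => by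
        rw [show ⁅a⁻¹, y⁆ = a⁻¹ * ⁅a, y⁆⁻¹ * a⁻¹⁻¹ by simp only [commutatorElement_def]; group]
        exact (mem_normalizer_iff.1 (inv_mem (hnB a ha.1)) _).1 (inv_mem (ha.2.2 y hy))⟩ }
  have hA₀le : B₀.map (proj m) ≤ img m (bT T) ⊓ E i := by
    rintro _ ⟨b, hb, rfl⟩
    exact ⟨(img_eq_map m _).ge (mem_map_of_mem _ hb.1), hb.2.1⟩
  have hA₀ne : B₀.map (proj m) ≠ ⊥ := by
    obtain ⟨b, hb, -, hbA, hb1, hby⟩ := d.exists_lift hone hA hAS inf_le_right
    exact fun h => hb1 (mem_bot.1 (h.le (mem_map_of_mem _ (show b ∈ B₀ from ⟨hb, hbA.2, hby⟩))))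
  have heq := d.root_irred hA inf_le_right hA₀le hA₀ne fun l hl hlA => ?_
  · intro a ha
    obtain ⟨b, hb, he⟩ := heq.ge ha
    exact ⟨b, hb.1, he, hb.2.2⟩
  obtain ⟨y, hy, rfl⟩ := (img_eq_map m X).le (mb.image.ge (mem_sup_left hl))
  -- `y` normalizes `B`
  have hlimg : conjBy (proj m y) (img m (bT T)) = img m (bT T) := by
    refine conjBy_eq_of_le ?_
    conv_lhs => rw [← d.bT_split]
    rw [conjBy_iSup]
    refine iSup_le fun j => ?_
    by_cases hj : j = i
    · subst hj; exact hlA.le.trans inf_le_left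
    · refine conjBy_le_iff.2 fun z hz => ?_
      rw [d.frame.parts.com i j (Ne.symm hj) _ hl z hz.2, mul_inv_cancel_right]
      exact hz.1
  have hyB : ∀ b ∈ bT T, y * b * y⁻¹ ∈ bT T := fun b hb => by
    have hc : proj m (y * b * y⁻¹) ∈ img m (bT T) := by
      rw [map_mul, map_mul, map_inv]
      exact hlimg.le (conj_mem_conjBy ((img_eq_map m _).ge (mem_map_of_mem _ hb)))
    obtain ⟨b', hb', he⟩ := (img_eq_map m _).le hc
    have hk : b'⁻¹ * (y * b * y⁻¹) ∈ X ⊓ centralizer (vQ p G : Set G) :=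
      mem_inf.2 ⟨X.mul_mem (X.inv_mem (mb.le hb')) (X.mul_mem (X.mul_mem hy (mb.le hb)) (X.inv_mem hy)),
        (proj_eq_one m).1 (by rw [map_mul, map_inv, he, inv_mul_cancel])⟩
    rw [mb.inf_cent] at hk
    have := mul_mem hb' hk.1
    rwa [mul_inv_cancel_left] at this
  have hyN : y ∈ normalizer (bT T : Set G) := conjBy_eq_iff.1 (conjBy_eq_of_le (by
    rintro _ ⟨b, hb, rfl⟩; exact hyB b hb))
  refine conjBy_le_iff.2 ?_
  rintro _ ⟨b, hb, rfl⟩
  refine ⟨y * b * y⁻¹, ⟨hyB b hb.1, by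
      rw [map_mul, map_mul, map_inv]; exact mul_mem (mul_mem hl hb.2.1) (inv_mem hl), fun z hz => ?_⟩, by
    rw [map_mul, map_mul, map_inv]⟩
  have e : ⁅y * b * y⁻¹, z⁆ = y * ⁅b, y⁻¹ * z * y⁆ * y⁻¹ := by simp only [commutatorElement_def]; group
  rw [e]
  exact (mem_normalizer_iff.1 (mem_normalizer_wPart (d.parts_conj i (le_iSup E i hl))) _).1
    (hb.2.2 _ ((mem_normalizer_iff''.1 hyN z).1 hz))

/-- A linear component residual meets `O_p(G)` in `[V, E i]`. -/
theorem comp_inf_pCore_lin (hq : 2 < q) (i : Fin r) :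
    comp m E i ⊓ Cfsg.pCore p G = wPart m E i := by
  classical
  refine le_antisymm ?_ (le_inf (d.wPart_le_comp hone i) ((sub_le_vQ _).trans Glue.Setting.omega_le_pCore))
  obtain ⟨A, L, R, g, F, iF, iFf, X, hP, hF, mb⟩ := d.exists_member_at i
  obtain ⟨hqn, hE⟩ : q = p ^ n ∧ IsNat2 U q (E i) := by
    rcases d.nat i with ⟨-, h, h'⟩ | ⟨h, -, -⟩
    · exact ⟨h, h'⟩
    · omega
  have hL : L = E i := by
    obtain ⟨F₁, _, _, hF₁, ρ₁, -⟩ := hE
    obtain ⟨F₂, _, _, hF₂, ρ₂, -⟩ := mb.nat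
    refine Subgroup.eq_of_le_of_card_ge mb.part_le (le_of_eq ?_)
    rw [Nat.card_congr ρ₁.toEquiv, Nat.card_congr ρ₂.toEquiv, CfsgLib.Classical.card_sl2,
      CfsgLib.Classical.card_sl2, hF₁, hF₂, hF]
  set Ec := comp m E i
  have hcomp : Ec = Cfsg.pResidualOf p X := d.comp_eq_res hone mb hL
  set W := wPart m E i
  have hEN : Ec ≤ normalizer (W : Set G) := fun y hy =>
    mem_normalizer_wPart (d.parts_conj i (le_iSup E i (mem_lift_proj.1 (res_le _ hy))))
  haveI hWn : (W.subgroupOf Ec).Normal := (normal_subgroupOf_iff_le_normalizer (d.wPart_le_comp hone i)).2 hEN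
  obtain ⟨f, hf⟩ : ∃ f, f = QuotientGroup.mk' (W.subgroupOf Ec) := ⟨_, rfl⟩
  have hfs : Function.Surjective f := hf ▸ QuotientGroup.mk'_surjective _
  have hker : ∀ x : ↥Ec, f x = 1 ↔ (x : G) ∈ W := fun x => by rw [hf]; exact QuotientGroup.eq_one_iff x
  -- the Sylow subgroup
  have hEX : Ec ≤ X := hcomp ▸ res_le X
  have hXN : X ≤ normalizer (Ec : Set G) :=
    hcomp ▸ le_normalizer.trans (CfsgLib.Char.TW.normalizer_le_pResidualOf p X)
  haveI : (Ec.subgroupOf X).Normal := (normal_subgroupOf_iff_le_normalizer hEX).2 hXN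
  obtain ⟨P₀, hP₀⟩ := mb.sit.sylow
  obtain ⟨P, hP'⟩ : ∃ P : Sylow p ↥Ec, (P : Subgroup ↥Ec) = (bT T).subgroupOf Ec := by
    obtain ⟨P, hP'⟩ := ((T.2.to_le inf_le_left : IsPGroup p ↥(bT T)).comap_of_injective Ec.subtype
      Ec.subtype_injective : IsPGroup p ↥((bT T).subgroupOf Ec)).exists_le_sylow
    refine ⟨P, le_antisymm (fun x hx => ?_) hP'⟩
    -- a conjugate of `P` lies in `B`
    obtain ⟨R, hR⟩ := (P.2.map (Subgroup.inclusion hEX)).exists_le_sylow
    obtain ⟨y, hy⟩ := MulAction.exists_smul_eq ↥X R P₀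
    have hcard : Nat.card ↥(P : Subgroup ↥Ec) ≤ Nat.card ↥((bT T).subgroupOf Ec) := by
      rw [← card_map_of_injective (K := (P : Subgroup ↥Ec)) (f := Subgroup.inclusion hEX) (Subgroup.inclusion_injective hEX),
        ← card_map_of_injective (K := (P : Subgroup ↥Ec).map (Subgroup.inclusion hEX))
          (f := (MulAut.conj y).toMonoidHom) (MulAut.conj y).injective,
        ← card_map_of_injective (K := (bT T).subgroupOf Ec) (f := Subgroup.inclusion hEX) (Subgroup.inclusion_injective hEX)]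
      refine card_le_of_le ?_
      rintro _ ⟨_, ⟨e, he, rfl⟩, rfl⟩
      have hmem : (y : G) * (e : G) * (y : G)⁻¹ ∈ Ec :=
        (mem_normalizer_iff.1 (hXN y.2) _).1 e.2
      refine ⟨⟨_, hmem⟩, ?_, Subtype.ext rfl⟩
      have h1 : MulAut.conj y (Subgroup.inclusion hEX e) ∈ (P₀ : Subgroup ↥X) :=
        hy ▸ ⟨_, hR (mem_map_of_mem _ he), rfl⟩
      rw [hP₀] at h1
      exact h1
    exact (eq_of_le_of_card_ge hP' hcard).ge hx
  intro z hz
  have hzE : z ∈ Ec := hz.1
  refine (hker ⟨z, hzE⟩).1 (central_eq_one (P.mapSurjective hfs) ?_ ?_ ?_ ?_)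
  · -- abelian
    rintro _ ⟨a, ha, rfl⟩ _ ⟨b, hb, rfl⟩
    rw [← commutatorElement_eq_one_iff_mul_comm, ← map_commutatorElement, hker]
    rw [SetLike.mem_coe, hP'] at ha hb
    show ⁅(a : G), (b : G)⁆ ∈ W
    have hpa : proj m (a : G) ∈ img m (bT T) ⊓ E i :=
      ⟨(img_eq_map m _).ge (mem_map_of_mem _ ha), mem_lift_proj.1 (res_le _ a.2)⟩
    obtain ⟨b₁, hb₁, he, hb₁y⟩ := d.exists_lift_all hone hq mb hL _ hpa
    have hx : b₁⁻¹ * (a : G) ∈ q0 T := d.bT_inf_cent.le
      ⟨(bT T).mul_mem ((bT T).inv_mem hb₁) ha, (proj_eq_one m).1 (by rw [map_mul, map_inv, he, inv_mul_cancel])⟩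
    have h1 : ⁅b₁⁻¹ * (a : G), (b : G)⁆ ∈ W := by
      rw [← commutatorElement_inv]
      exact inv_mem (d.comp_comm hone i b.2 hx.2)
    rw [show ⁅(a : G), (b : G)⁆ = b₁ * ⁅b₁⁻¹ * (a : G), (b : G)⁆ * b₁⁻¹ * ⁅b₁, (b : G)⁆ by
      simp only [commutatorElement_def]; group]
    refine mul_mem ((mem_normalizer_iff.1 (mem_normalizer_wPart (d.parts_conj i (d.bT_le
      ((img_eq_map m _).ge (mem_map_of_mem _ hb₁))))) _).1 h1) (hb₁y _ hb)
  · -- no `p`-quotient
    refine top_le_iff.1 ?_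
    rw [← map_top_of_surjective f hfs, ← (show Cfsg.pResidual p ↥Ec = ⊤ from ?_), Cfsg.pResidual,
      MonoidHom.map_closure]
    · refine closure_mono ?_
      rintro _ ⟨x, hx, rfl⟩
      exact hx.coprime_dvd_left (orderOf_map_dvd f x)
    · refine map_injective Ec.subtype_injective ?_
      show Cfsg.pResidualOf p Ec = (⊤ : Subgroup ↥Ec).map Ec.subtype
      rw [res_res, ← MonoidHom.range_eq_map, range_subtype]
  · refine mem_center_iff.2 fun y => ?_
    obtain ⟨y, rfl⟩ := hfs y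
    rw [← commutatorElement_eq_one_iff_mul_comm, ← map_commutatorElement, hker]
    exact d.comp_comm hone i y.2 hz.2
  · refine mem_map_of_mem f ?_
    haveI := CfsgLib.Coprime.pCore_normal' (G := G) p
    show (⟨z, hzE⟩ : ↥Ec) ∈ (P : Subgroup ↥Ec)
    exact CfsgLib.PGroup.pCore_le_sylow P (CfsgLib.PGroup.le_pCore inferInstance
      ((CfsgLib.Coprime.pCore_isPGroup p).comap_of_injective Ec.subtype Ec.subtype_injective :
        IsPGroup p ↥((Cfsg.pCore p G).subgroupOf Ec)) (show (⟨z, hzE⟩ : ↥Ec) ∈ (Cfsg.pCore p G).subgroupOf Ec from hz.2))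

end Data

end CfsgLib.CFun.MinParab.Push
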