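import Cfsg.Agent.Lib.CFun.MinParab.Push.Final
import Cfsg.Agent.Lib.CFun.MinParab.Push.BlocksOne

/-!
# Pushing up: assembly

The two shapes of the members give blocks; blocks give the block structure.
-/

set_option autoImplicit false
set_option linter.unusedSectionVars false
set_option linter.style.haveILetI false

open Subgroup
open scoped IsMulCommutative

namespace CfsgLib.CFun.MinParab.Push

universe u

variable {G : Type u} [Group G] [Finite G] {p : ℕ} [hp : Fact p.Prime] {T : Sylow p G}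

/-- The conclusion of the pushing-up theorem. -/
def Concl (T : Sylow p G) : Prop :=
  ∃ 𝓑 : Set (Subgroup G), Cfsg.HasBaumannBlockStructure p (T : Subgroup G) 𝓑 ∧
    (∀ F ∈ 𝓑, ∀ k : ℕ, Nonempty (↥F ⧸ Cfsg.pCore p ↥F ≃* ↥(alternatingGroup (Fin (2 * k + 1)))) →
      ∃ n : ℕ, 2 * k + 1 = 2 ^ n + 1) ∧
    Cfsg.cStarOf p (T : Subgroup G) = (Cfsg.cStarOf p (T : Subgroup G) ⊓ sSup 𝓑) ⊔ (T : Subgroup G)

/-- Some data exist. -/
theorem Hyp.with_data (hh : Hyp p T) {P : Prop}
    (h : ∀ (M : Subgroup G) (H : Type u) [Group H] [Finite H] (U : Type u) [AddCommGroup U] [Finite U]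
      [DistribMulAction H U] (m : Glue.Mdl (vQ p G) ⊤ H U) (q n r : ℕ) (S : Sylow p H) (E : Fin r → Subgroup H),
      Data T M m q n r S E → P) : P := by
  obtain ⟨M, hs⟩ := hh.exists_setting
  haveI hVn : (vQ p G).Normal := Glue.Setting.omega_normal
  haveI : IsMulCommutative ↥(vQ p G) := Glue.Setting.omega_ea.1
  haveI : (centralizer (vQ p G : Set G)).Normal := inferInstance
  letI := Glue.quotConj (vQ p G)
  obtain ⟨q, n, r, S, E, d, -, -⟩ := exists_data hh hs (Glue.quotMdl (vQ p G))
  exact h M _ _ (Glue.quotMdl (vQ p G)) q n r S E d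

/-- With one natural step the conclusion holds. -/
theorem Hyp.concl_of_one (hh : Hyp p T) (hone : IsOne T) : Concl T :=
  hh.with_data fun _ _ _ _ _ _ _ _ _ _ _ _ _ _ d => d.structure_of_blocks (d.blocks_of_one hone)

end CfsgLib.CFun.MinParab.Push
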