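import Cfsg.Agent.Lib.CFun.MinParab.Push.Trans

/-!
# A pair of opposite roots over a Sylow subgroup

For a root `A` of the Sylow subgroup `S` in a component there is an opposite root generating with `A` a natural
`SL₂`-part `L` centralized by the other roots of `S`.
-/

set_option autoImplicit false
set_option linter.unusedSectionVars false
set_option linter.style.haveILetI false

open scoped MatrixGroups
open CfsgLib.Char.NatSL (fixS mem_fixS fixS_mono tr mem_tr smul_mem_tr)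
open CfsgLib.Fusion (conjBy mem_conjBy conj_mem_conjBy conjBy_le_iff conjBy_eq_iff conjBy_conjBy conjBy_mono
  card_conjBy conjBy_inv_conjBy conjBy_conjBy_inv conjBy_one)

namespace CfsgLib.CFun.MinParab.Push

open Rec Off

variable {H : Type*} [Group H] {V : Type*} [AddCommGroup V] [DistribMulAction H V] {p : ℕ}

/-- A natural part over the root `A` of `S`, centralized by the other roots `R` of `S`. -/
structure Pair (V : Type*) [AddCommGroup V] [DistribMulAction H V] (p q : ℕ) (S E A L R : Subgroup H) (g : H) :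
    Prop where
  root : Root V p q A
  le_S : A ≤ S
  part_le : L ≤ E
  g_mem : g ∈ L
  gen : A ⊔ conjBy g A = L
  ne : conjBy g A ≠ A
  nat : IsNat2 V q L
  gen2 : ∀ x ∈ L, conjBy x A ≠ A → A ⊔ conjBy x A = L
  dec : ∀ v : V, ∃ u₁ ∈ commS V A, ∃ u₂ ∈ commS V (conjBy g A), v - u₁ - u₂ ∈ fixS V L
  R_le : R ≤ rootsIn V p q S
  R_gen : ∀ K : Subgroup H, (∀ B, Root V p q B → B ≤ R → B ≤ K) → R ≤ K
  split : A ⊔ R = rootsIn V p q S
  com : Com L R
  cent : ∀ B, Root V p q B → B ≤ S → B ≠ A → Com L B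
  sylow : ∀ P : Subgroup H, IsPGroup p P → A ≤ P → P ≤ L → P = A
  gen_S : E ≤ L ⊔ S

variable [Finite H] [Finite V] [hp : Fact p.Prime] {T : Sylow p H} {M : Subgroup H} {q n r : ℕ}
  {E : Fin r → Subgroup H}

/-- What a block gives at a conjugate of its root. -/
theorem pair_of_coord (hs : Sys V p q T M) {F : Type} [Field F] {B L₀ : Subgroup H} (c : Coord V B L₀ F)
    (hB : Root V p q B) (h : H) :
    conjBy h B ⊔ conjBy (h * c.wl * h⁻¹) (conjBy h B) = conjBy h L₀ ∧
      conjBy (h * c.wl * h⁻¹) (conjBy h B) ≠ conjBy h B ∧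
      (∀ x ∈ conjBy h L₀, conjBy x (conjBy h B) ≠ conjBy h B →
        conjBy h B ⊔ conjBy x (conjBy h B) = conjBy h L₀) ∧
      ∀ v : V, ∃ u₁ ∈ commS V (conjBy h B), ∃ u₂ ∈ commS V (conjBy (h * c.wl * h⁻¹) (conjBy h B)),
        v - u₁ - u₂ ∈ fixS V (conjBy h L₀) := by
  have e : ∀ x : H, conjBy (h * x * h⁻¹) (conjBy h B) = conjBy h (conjBy x B) := fun x => by
    rw [conjBy_conjBy, conjBy_conjBy, inv_mul_cancel_right]
  obtain ⟨v₀, hv₀⟩ := c.surj (0, 1)
  obtain ⟨v₁, hv₁⟩ := c.surj (1, 0)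
  have hne : conjBy c.wl B ≠ B := fun e' => by
    have h1 : v₁ ∈ fixS V B := (c.memW v₁).2 (by rw [hv₁])
    rw [← e', Rec.fixS_conjBy, mem_tr, c.memW] at h1
    have h2 := congrArg Prod.fst (c.wl_ψ (c.wl⁻¹ • v₁))
    rw [smul_inv_smul, hv₁, h1, neg_zero] at h2
    exact one_ne_zero h2
  -- two conjugates of `B` generate the block
  have hgen : ∀ x ∈ L₀, conjBy x B ≠ B → B ⊔ conjBy x B = L₀ := by
    intro x hx hxB
    refine le_antisymm (sup_le c.le (conjBy_le_iff.2 fun b hb => mul_mem (mul_mem hx (c.le hb)) (inv_mem hx))) ?_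
    set α := (c.ψ (x • v₁)).1
    set β := (c.ψ (x • v₁)).2 with hβ
    have hlin : ∀ v ∈ fixS V B, c.ψ (x • v) = (c.ψ v).1 • c.ψ (x • v₁) := fun v hv => by
      refine coord_linear c hx ?_
      rw [hv₁]
      refine Prod.ext ?_ ?_ <;> simp [(c.memW v).1 hv]
    by_cases hβ0 : β = 0
    · exfalso
      refine hxB (hs.eq_of_W_le hB (hB.conj x) ?_).symm
      intro v hv
      have hxi : x⁻¹ ∈ L₀ := inv_mem hx
      have h2 : c.ψ v = (c.ψ v).1 • c.ψ v₁ := by
        rw [hv₁]; refine Prod.ext ?_ ?_ <;> simp [(c.memW v).1 hv]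
      rw [Rec.fixS_conjBy, mem_tr, c.memW]
      have hα : α ≠ 0 := fun hα => by
        have h3 : c.ψ (x • v₁) = 0 := Prod.ext hα hβ0
        rw [c.ker] at h3
        have h4 := h3 x⁻¹ hxi
        rw [inv_smul_smul] at h4
        have h5 : c.ψ v₁ = 0 := (c.ker _).2 (h4 ▸ h3)
        rw [hv₁] at h5
        exact one_ne_zero (congrArg Prod.fst h5)
      have h6 : c.ψ v₁ = α⁻¹ • c.ψ (x • v₁) := by
        rw [hv₁]
        refine Prod.ext ?_ ?_
        · simp [hα, α]
        · simp [← hβ, hβ0]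
      have h7 := coord_linear c hxi h6
      rw [inv_smul_smul, hv₁] at h7
      have h8 := coord_linear c hxi h2
      rw [h8, h7]
      simp
    · -- move the line to the second axis
      set b := c.ub (-α * β⁻¹)
      have hbB : b ∈ B := c.ub_mem _
      have hbv : ∀ v ∈ fixS V B, (c.ψ (b • x • v)).1 = 0 := by
        intro v hv
        rw [c.ub_ψ, hlin v hv]
        show (c.ψ v).1 * α + -α * β⁻¹ * ((c.ψ v).1 * β) = 0
        field_simp
        ring
      have heq : conjBy (b * x) B = conjBy c.wl B := by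
        refine hs.eq_of_W_le (hB.conj _) (hB.conj _) fun u hu => ?_
        rw [Rec.fixS_conjBy, mem_tr] at hu
        rw [Rec.fixS_conjBy, mem_tr, c.memW]
        have h1 := hbv _ hu
        rw [← mul_smul, smul_inv_smul] at h1
        have h2 := congrArg Prod.fst (c.wl_ψ (c.wl⁻¹ • u))
        rw [smul_inv_smul, h1] at h2
        exact neg_eq_zero.1 h2.symm
      rw [← c.gen, ← heq, ← conjBy_conjBy]
      refine sup_le le_sup_left (conjBy_le_iff.2 fun y hy => ?_)
      exact mul_mem (mul_mem (Subgroup.mem_sup_left hbB) (Subgroup.mem_sup_right hy))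
        (inv_mem (Subgroup.mem_sup_left hbB))
  refine ⟨by rw [e, ← conjBy_sup, c.gen], ?_, ?_, ?_⟩
  · rw [e]
    intro e'
    exact hne ((Subgroup.map_injective (MulAut.conj h).injective) e')
  · rintro _ ⟨x, hx, rfl⟩ hxB
    show conjBy h B ⊔ conjBy (h * x * h⁻¹) (conjBy h B) = _
    rw [e, ← conjBy_sup, hgen x hx fun e' => hxB ?_]
    show conjBy (h * x * h⁻¹) (conjBy h B) = _
    rw [e, e']
  · intro v
    set w := h⁻¹ • v with hw
    obtain ⟨a, ha⟩ : ∃ a ∈ commS V B, c.ψ a = ((c.ψ w).1, 0) := ⟨c.ub (c.ψ w).1 • v₀ - v₀,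
      sub_mem_commS (c.ub_mem _) v₀, by rw [map_sub, c.ub_ψ, hv₀]; simp⟩
    obtain ⟨b, hb⟩ : ∃ b ∈ commS V B, c.ψ b = ((c.ψ w).2, 0) := ⟨c.ub (c.ψ w).2 • v₀ - v₀,
      sub_mem_commS (c.ub_mem _) v₀, by rw [map_sub, c.ub_ψ, hv₀]; simp⟩
    refine ⟨h • a, ?_, h • (c.wl • b), ?_, ?_⟩
    · rw [commS_conjBy]; exact smul_mem_tr ha.1
    · rw [e, commS_conjBy, commS_conjBy]; exact smul_mem_tr (smul_mem_tr hb.1)
    · rw [Rec.fixS_conjBy, mem_tr, smul_sub, smul_sub, inv_smul_smul, inv_smul_smul, ← hw, ← c.ker,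
        map_sub, map_sub, c.wl_ψ, ha.2, hb.2]
      refine Prod.ext ?_ ?_ <;> simp

/-- Commuting distinct transpositions are disjoint. -/
theorem ne_of_commute_swap {k : ℕ} {a b x y : Fin k} (hab : a ≠ b) (hxy : x ≠ y)
    (h : Equiv.swap x y * Equiv.swap a b = Equiv.swap a b * Equiv.swap x y)
    (hne : Equiv.swap x y ≠ Equiv.swap a b) : x ≠ a ∧ x ≠ b ∧ y ≠ a ∧ y ≠ b := by
  have key : ∀ {x y a b : Fin k}, a ≠ b → x ≠ y →
      Equiv.swap x y * Equiv.swap a b = Equiv.swap a b * Equiv.swap x y →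
      Equiv.swap x y ≠ Equiv.swap a b → x ≠ a := by
    intro x y a b hab hxy h hne e
    subst e
    have hyb : y ≠ b := fun e => hne (by rw [e])
    have h1 := DFunLike.congr_fun h b
    rw [Equiv.Perm.mul_apply, Equiv.Perm.mul_apply, Equiv.swap_apply_right, Equiv.swap_apply_left,
      Equiv.swap_apply_of_ne_of_ne hab.symm hyb.symm, Equiv.swap_apply_right] at h1
    exact hxy h1.symm
  exact ⟨key hab hxy h hne, key hab.symm hxy (by rwa [Equiv.swap_comm b a]) (by rwa [Equiv.swap_comm b a]),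
    key hab hxy.symm (by rwa [Equiv.swap_comm y x]) (by rwa [Equiv.swap_comm y x]),
    key hab.symm hxy.symm (by rwa [Equiv.swap_comm b a, Equiv.swap_comm y x])
      (by rwa [Equiv.swap_comm b a, Equiv.swap_comm y x])⟩

namespace Dec

/-- A root of the Sylow subgroup has an opposite with the other roots centralizing both. -/
theorem exists_pair (d : Dec V p q n T M E) {A : Subgroup H} (hA : Root V p q A) (hAT : A ≤ (T : Subgroup H))
    {i : Fin r} (hi : A ≤ E i) :
    ∃ L R g, Pair V p q (T : Subgroup H) (E i) A L R g := by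
  classical
  have hs := d.sys
  obtain ⟨h₀, L₀, m, -, -, hb⟩ := hA.exists_conj_blk hs.least hs.ctx
  obtain ⟨F, iF, iFf, hFc, ⟨c⟩, -⟩ := exists_coord hb
  have hB : Root V p q (conjBy h₀ A) := hA.conj h₀
  have hnat₀ : IsNat2 V q L₀ := hB.card ▸ isNat2_of_blk hb
  have hq : q = p ^ n ∨ q = 2 ∧ p = 2 := by
    rcases d.nat i with ⟨-, h, -⟩ | ⟨h, h', -⟩
    · exact Or.inl h
    · exact Or.inr ⟨h, h'⟩
  obtain ⟨j, hj⟩ : ∃ j, L₀ ≤ conjBy h₀ (E j) ∧ A ≤ E j := by
    obtain ⟨k, hk⟩ := d.frame.covered _ hB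
    obtain ⟨l, hl⟩ := d.frame.covered _ (hB.conj c.wl)
    have hkl : l = k := by
      by_contra hne
      have hcom : Com (conjBy h₀ A) (conjBy c.wl (conjBy h₀ A)) :=
        (d.frame.parts.com k l (Ne.symm hne)).mono hk hl
      obtain ⟨-, hne', -, hdec⟩ := pair_of_coord hs c hB 1
      simp only [one_mul, inv_one, mul_one, conjBy_one] at hne' hdec
      obtain ⟨v₀, hv₀⟩ := c.surj (0, 1)
      have h1 := hs.le_of_com hB (hB.conj c.wl) hcom (sub_mem_commS (c.ub_mem 1) v₀)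
      rw [Rec.fixS_conjBy, mem_tr, c.memW] at h1
      have h2 := congrArg Prod.fst (c.wl_ψ (c.wl⁻¹ • (c.ub 1 • v₀ - v₀)))
      rw [smul_inv_smul, h1, map_sub, c.ub_ψ, hv₀] at h2
      simp at h2
    subst hkl
    obtain ⟨j, hj⟩ := d.frame.parts.perm h₀⁻¹ l
    have hEl : conjBy h₀ (E j) = E l := by rw [← hj, conjBy_conjBy_inv]
    refine ⟨j, ?_, ?_⟩
    · rw [hEl, ← c.gen]
      exact sup_le hk hl
    · rw [← hj, ← conjBy_inv_conjBy h₀ A]
      exact conjBy_mono hk
  obtain rfl : j = i := (d.frame.index_unique hA hi hj.2).symm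
  -- choose the conjugating element
  obtain ⟨h, hhA, hhi, hcent, hgenS⟩ : ∃ h : H, conjBy h (conjBy h₀ A) = A ∧ conjBy h L₀ ≤ E j ∧
      (∀ B, Root V p q B → B ≤ (T : Subgroup H) → B ≠ A → Com (conjBy h L₀) B) ∧
      E j ≤ conjBy h L₀ ⊔ (T : Subgroup H) := by
    have hL₁ : conjBy h₀⁻¹ L₀ ≤ E j := by
      rw [← conjBy_inv_conjBy h₀ (E j)]
      exact conjBy_mono hj.1
    rcases d.frame.least.two_le.eq_or_lt with hq2 | hq2
    swap
    · -- linear: the block is the component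
      obtain ⟨hqn, hE⟩ : q = p ^ n ∧ IsNat2 V q (E j) := by
        rcases d.nat j with ⟨-, h, h'⟩ | ⟨h, -, -⟩
        · exact ⟨h, h'⟩
        · omega
      have heq : conjBy h₀⁻¹ L₀ = E j := by
        obtain ⟨F₁, _, _, hF₁, ρ₁, -⟩ := hE
        obtain ⟨F₂, _, _, hF₂, ρ₂, -⟩ := hnat₀
        refine Subgroup.eq_of_le_of_card_ge hL₁ (le_of_eq ?_)
        rw [card_conjBy, Nat.card_congr ρ₁.toEquiv, Nat.card_congr ρ₂.toEquiv, CfsgLib.Classical.card_sl2,
          CfsgLib.Classical.card_sl2, hF₁, hF₂]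
      refine ⟨h₀⁻¹, conjBy_inv_conjBy h₀ A, hL₁, fun B hB hBT hBA => ?_, heq ▸ le_sup_left⟩
      obtain ⟨k, hk⟩ := d.frame.covered B hB
      have hkj : k ≠ j := by
        rintro rfl
        refine hBA ?_
        have hX : IsPGroup p (A ⊔ B : Subgroup H) := T.2.to_le (sup_le hAT hBT)
        have h := d.eq_root_of_pgroup hq2 hA le_sup_left hX (sup_le hi hk)
        exact Subgroup.eq_of_le_of_card_ge (h ▸ le_sup_right : B ≤ A) (by rw [hA.card, hB.card])
      exact (d.frame.parts.com j k (Ne.symm hkj)).mono hL₁ hk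
    subst hq2
    obtain ⟨θ, ψ, hsum, hev, hker, he⟩ : IsPermNat V n (E j) := by
      rcases d.nat j with ⟨h, -, -⟩ | ⟨-, -, h⟩
      · omega
      · exact h
    obtain ⟨a, b, hab, t, ht, hAt, hθt⟩ := d.exists_swap θ ψ hev he hA hi
    set A₁ := conjBy h₀⁻¹ (conjBy c.wl (conjBy h₀ A)) with hA₁def
    have hA₁ : Root V p 2 A₁ := (hB.conj c.wl).conj h₀⁻¹
    have hgen₁ : A ⊔ A₁ = conjBy h₀⁻¹ L₀ := by
      rw [← c.gen, conjBy_sup, conjBy_inv_conjBy]
    have hA₁i : A₁ ≤ E j := (le_sup_right.trans hgen₁.le).trans hL₁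
    obtain ⟨a₁, b₁, hab₁, u, hu, hA₁u, hθu⟩ := d.exists_swap θ ψ hev he hA₁ hA₁i
    have hncom : ¬ t * u = u * t := by
      intro hcom
      have hC : Com A A₁ := by
        rw [hAt, hA₁u]; exact com_zpowers.2 hcom
      have hC' := hC.conj h₀
      rw [hA₁def, conjBy_conjBy_inv] at hC'
      obtain ⟨v₀, hv₀⟩ := c.surj (0, 1)
      have h1 := hs.le_of_com hB (hB.conj c.wl) hC' (sub_mem_commS (c.ub_mem 1) v₀)
      rw [Rec.fixS_conjBy, mem_tr, c.memW] at h1
      have h2 := congrArg Prod.fst (c.wl_ψ (c.wl⁻¹ • (c.ub 1 • v₀ - v₀)))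
      rw [smul_inv_smul, h1, map_sub, c.ub_ψ, hv₀] at h2
      simp at h2
    obtain ⟨x, hx⟩ : ∃ x, (x ≠ a ∧ x ≠ b) ∧ (θ ⟨u, hA₁i hu⟩ = Equiv.swap a x ∨
        θ ⟨u, hA₁i hu⟩ = Equiv.swap b x) := by
      have hnp : Equiv.swap a b * Equiv.swap a₁ b₁ ≠ Equiv.swap a₁ b₁ * Equiv.swap a b := by
        rw [← hθt, ← hθu, ← map_mul, ← map_mul]
        exact fun e => hncom (congrArg Subtype.val (θ.injective e))
      rw [hθu]
      by_cases ha1 : a₁ = a
      · subst ha1
        refine ⟨b₁, ⟨hab₁.symm, fun e => hnp (by rw [e])⟩, Or.inl rfl⟩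
      by_cases hb1 : a₁ = b
      · subst hb1
        refine ⟨b₁, ⟨fun e => hnp (by rw [e, Equiv.swap_comm]), hab₁.symm⟩, Or.inr rfl⟩
      by_cases ha2 : b₁ = a
      · subst ha2
        exact ⟨a₁, ⟨ha1, hb1⟩, Or.inl (Equiv.swap_comm _ _)⟩
      by_cases hb2 : b₁ = b
      · subst hb2
        exact ⟨a₁, ⟨ha1, hb1⟩, Or.inr (Equiv.swap_comm _ _)⟩
      exact absurd (commute_of_disjoint_swap ha1 hb1 ha2 hb2) hnp
    obtain ⟨cc, hcc, htr⟩ := d.sym_sylow j θ
    have hac : a ≠ cc := by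
      rintro rfl
      have h1 := hcc t ⟨hAT ht, hi ht⟩
      rw [hθt, Equiv.swap_apply_left] at h1
      exact hab h1.symm
    have hbc : b ≠ cc := by
      rintro rfl
      have h1 := hcc t ⟨hAT ht, hi ht⟩
      rw [hθt, Equiv.swap_apply_right] at h1
      exact hab h1
    -- `σ` fixes the pair and moves `x` to the fixed point
    obtain ⟨σ, hσt, hσu⟩ : ∃ σ : Equiv.Perm (Fin (2 ^ n + 1)), σ * Equiv.swap a b * σ⁻¹ = Equiv.swap a b ∧
        σ * θ ⟨u, hA₁i hu⟩ * σ⁻¹ = Equiv.swap a cc := by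
      obtain ⟨⟨hxa, hxb⟩, hxu | hxu⟩ := hx
      · refine ⟨Equiv.swap x cc, ?_, ?_⟩
        · rw [← Equiv.swap_apply_apply, Equiv.swap_apply_of_ne_of_ne hxa.symm hac,
            Equiv.swap_apply_of_ne_of_ne hxb.symm hbc]
        · rw [hxu, ← Equiv.swap_apply_apply, Equiv.swap_apply_of_ne_of_ne hxa.symm hac, Equiv.swap_apply_left]
      · refine ⟨Equiv.swap a b * Equiv.swap x cc, ?_, ?_⟩
        · rw [← Equiv.swap_apply_apply, Equiv.Perm.mul_apply, Equiv.Perm.mul_apply,
            Equiv.swap_apply_of_ne_of_ne hxa.symm hac, Equiv.swap_apply_of_ne_of_ne hxb.symm hbc,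
            Equiv.swap_apply_left, Equiv.swap_apply_right, Equiv.swap_comm]
        · rw [hxu, ← Equiv.swap_apply_apply, Equiv.Perm.mul_apply, Equiv.Perm.mul_apply,
            Equiv.swap_apply_of_ne_of_ne hxb.symm hbc, Equiv.swap_apply_left, Equiv.swap_apply_right,
            Equiv.swap_apply_of_ne_of_ne hac.symm hbc.symm]
    set e := θ.symm σ with hedef
    have heσ : θ e = σ := θ.apply_symm_apply σ
    have het : (e : H) * t * (e : H)⁻¹ = t := congrArg Subtype.val
      (θ.injective (by rw [map_mul, map_mul, map_inv, heσ, hθt, hσt]) : e * ⟨t, hi ht⟩ * e⁻¹ = ⟨t, hi ht⟩)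
    have heA : conjBy (e : H) A = A := by rw [hAt, conjBy_zpowers, het]
    set u' : H := (e : H) * u * (e : H)⁻¹ with hu'def
    have hu'E : u' ∈ E j := mul_mem (mul_mem e.2 (hA₁i hu)) (inv_mem e.2)
    have hθu' : θ ⟨u', hu'E⟩ = Equiv.swap a cc := by
      rw [show (⟨u', hu'E⟩ : ↥(E j)) = e * ⟨u, hA₁i hu⟩ * e⁻¹ from Subtype.ext rfl, map_mul, map_mul, map_inv,
        heσ, hσu]
    have hL : conjBy ((e : H) * h₀⁻¹) L₀ = A ⊔ Subgroup.zpowers u' := by
      rw [← conjBy_conjBy, ← hgen₁, conjBy_sup, heA, hA₁u, conjBy_zpowers]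
    refine ⟨(e : H) * h₀⁻¹, by rw [← conjBy_conjBy, conjBy_inv_conjBy, heA], ?_, fun B hB hBT hBA => ?_, ?_⟩
    · rw [← conjBy_conjBy]
      exact conjBy_le_iff.2 fun y hy => mul_mem (mul_mem e.2 (hL₁ hy)) (inv_mem e.2)
    · obtain ⟨k, hk⟩ := d.frame.covered B hB
      by_cases hkj : k = j
      swap
      · refine (d.frame.parts.com j k (Ne.symm hkj)).mono ?_ hk
        rw [hL, hAt]
        exact sup_le (Subgroup.zpowers_le.2 (hi ht)) (Subgroup.zpowers_le.2 hu'E)
      subst hkj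
      obtain ⟨a₂, b₂, hab₂, w, hw, hBw, hθw⟩ := d.exists_swap θ ψ hev he hB hk
      have ha₂ : a₂ ≠ cc := by
        rintro rfl
        have h1 := hcc w ⟨hBT hw, hk hw⟩
        rw [hθw, Equiv.swap_apply_left] at h1
        exact hab₂ h1.symm
      have hb₂ : b₂ ≠ cc := by
        rintro rfl
        have h1 := hcc w ⟨hBT hw, hk hw⟩
        rw [hθw, Equiv.swap_apply_right] at h1
        exact hab₂ h1
      have hwt : w * t = t * w := hs.com_in T.2 hB hA hBT hAT w hw t ht
      have hne : Equiv.swap a₂ b₂ ≠ Equiv.swap a b := by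
        rw [← hθw, ← hθt]
        intro e'
        have h1 : w = t := congrArg Subtype.val (θ.injective e')
        exact hBA (by rw [hBw, hAt, h1])
      have hcomm : Equiv.swap a₂ b₂ * Equiv.swap a b = Equiv.swap a b * Equiv.swap a₂ b₂ := by
        rw [← hθw, ← hθt, ← map_mul, ← map_mul]; exact congrArg θ (Subtype.ext hwt)
      have hA2 := ne_of_commute_swap hab hab₂ hcomm hne
      have hcu : w * u' = u' * w := congrArg Subtype.val (θ.injective (by
        rw [map_mul, map_mul, hθw, hθu']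
        exact commute_of_disjoint_swap hA2.1.symm hA2.2.2.1.symm ha₂.symm hb₂.symm |>.symm ▸
          (commute_of_disjoint_swap hA2.1.symm hA2.2.2.1.symm ha₂.symm hb₂.symm)) :
        (⟨w, hk hw⟩ : ↥(E k)) * ⟨u', hu'E⟩ = ⟨u', hu'E⟩ * ⟨w, hk hw⟩)
      intro y hy z hz
      rw [hBw] at hz
      obtain ⟨l, rfl⟩ := Subgroup.mem_zpowers_iff.1 hz
      have hle : conjBy ((e : H) * h₀⁻¹) L₀ ≤ Subgroup.centralizer ({w} : Set H) := by
        rw [hL, hAt]
        exact sup_le (Subgroup.zpowers_le.2 (Subgroup.mem_centralizer_singleton_iff.2 hwt.symm))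
          (Subgroup.zpowers_le.2 (Subgroup.mem_centralizer_singleton_iff.2 hcu.symm))
      exact (Commute.zpow_right (Subgroup.mem_centralizer_singleton_iff.1 (hle hy)) l).eq
    · intro y hy
      set K := conjBy ((e : H) * h₀⁻¹) L₀ ⊔ (T : Subgroup H)
      have huK : u' ∈ K := Subgroup.mem_sup_left (hL.ge (Subgroup.mem_sup_right (Subgroup.mem_zpowers u')))
      have hstar : ∀ z, z ≠ cc → (θ.symm (Equiv.swap z cc) : H) ∈ K := by
        intro z hz
        obtain ⟨s, hs', hsa⟩ := htr a z hac hz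
        have e1 : θ.symm (Equiv.swap z cc) = ⟨s, hs'.2⟩ * ⟨u', hu'E⟩ * ⟨s, hs'.2⟩⁻¹ := by
          apply θ.injective
          rw [θ.apply_symm_apply, map_mul, map_mul, map_inv, hθu', ← Equiv.swap_apply_apply, hsa, hcc s hs']
        rw [e1]
        exact mul_mem (mul_mem (Subgroup.mem_sup_right hs'.1) huK) (inv_mem (Subgroup.mem_sup_right hs'.1))
      have hswap : ∀ z z', z ≠ z' → (θ.symm (Equiv.swap z z') : H) ∈ K := by
        intro z z' hzz
        by_cases h1 : z = cc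
        · rw [h1, Equiv.swap_comm]; exact hstar z' (fun e' => hzz (h1.trans e'.symm))
        by_cases h2 : z' = cc
        · rw [h2]; exact hstar z h1
        rw [← swap_mul_swap_mul_swap_star (Ne.symm h1) (Ne.symm h2) hzz, map_mul, map_mul, Subgroup.coe_mul,
          Subgroup.coe_mul, Equiv.swap_comm cc z, Equiv.swap_comm cc z']
        exact mul_mem (mul_mem (hstar z h1) (hstar z' h2)) (hstar z h1)
      have key : ∀ π : Equiv.Perm (Fin (2 ^ n + 1)), (θ.symm π : H) ∈ K := by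
        intro π
        induction π using Equiv.Perm.swap_induction_on with
        | one => rw [map_one]; exact K.one_mem
        | swap_mul π z z' hzz ih => rw [map_mul]; exact K.mul_mem (hswap z z' hzz) ih
      simpa using key (θ ⟨y, hy⟩)
  obtain ⟨hgen, hne, hgen2, hdec⟩ := pair_of_coord hs c hB h
  rw [hhA] at hgen hne hgen2 hdec
  refine ⟨conjBy h L₀, sSup {B | Root V p q B ∧ B ≤ (T : Subgroup H) ∧ B ≠ A}, h * c.wl * h⁻¹, ?_⟩
  exact
    { root := hA
      le_S := hAT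
      part_le := hhi
      g_mem := conj_mem_conjBy c.wl_mem
      gen := hgen
      ne := hne
      nat := hnat₀.conj h
      gen2 := hgen2
      dec := hdec
      R_le := sSup_le fun B hB => le_rootsIn hB.1 hB.2.1
      cent := hcent
      R_gen := fun K hK => sSup_le fun B hB => hK B hB.1 (le_sSup hB)
      split := le_antisymm (sup_le (le_rootsIn hA hAT) (sSup_le fun B hB => le_rootsIn hB.1 hB.2.1))
        (sSup_le fun B hB => by
          by_cases hBA : B = A
          · exact hBA ▸ le_sup_left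
          · exact le_sup_of_le_right (le_sSup ⟨hB.1, hB.2, hBA⟩))
      com := fun y hy z hz => by
        have hle : sSup {B | Root V p q B ∧ B ≤ (T : Subgroup H) ∧ B ≠ A} ≤
            Subgroup.centralizer (conjBy h L₀ : Set H) := sSup_le fun B hB b hb =>
          Subgroup.mem_centralizer_iff.2 fun y hy => hcent B hB.1 hB.2.1 hB.2.2 y hy b hb
        exact Subgroup.mem_centralizer_iff.1 (hle hz) y hy
      sylow := fun P hP hAP hPL => by
        obtain ⟨n', hn', hn'1⟩ : ∃ n', q = p ^ n' ∧ 1 ≤ n' := by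
          rcases hq with h' | ⟨h', h''⟩
          · exact ⟨n, h', d.one_le⟩
          · exact ⟨1, by rw [h', h'', pow_one], le_rfl⟩
        obtain ⟨z, -, hz⟩ := exists_conj_le (hnat₀.conj h) hn' hn'1 hA (hgen ▸ le_sup_left) hP hPL
        exact (Subgroup.eq_of_le_of_card_ge hAP (by
          rw [← card_conjBy z P]; exact Subgroup.card_le_of_le hz)).symm
      gen_S := hgenS }

end Dec

end CfsgLib.CFun.MinParab.Push
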