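import Cfsg.Agent.Lib.CFun.MinParab.Push.Setup
import Cfsg.Agent.Lib.CFun.MinParab.Push.Pair
import Cfsg.Agent.Lib.Fusion.Transfer

/-!
# Pushing up: the rank-one subgroups over the Baumann subgroup

For a root `A` of the image of `T` with opposite root `g A` the subgroup generated by `B` and a conjugate of
`B` over `g` contains a subgroup `X` in the pushing-up situation with Sylow subgroup `B`, generating `G` with
`T`; so `B` is exceptional and `X` has one of the two shapes.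
-/

set_option autoImplicit false
set_option linter.unusedSectionVars false
set_option linter.style.haveILetI false

open Subgroup
open CfsgLib.Char.NatSL (fixS mem_fixS)
open CfsgLib.Fusion (conjBy mem_conjBy conj_mem_conjBy conjBy_le_iff conjBy_eq_iff conjBy_conjBy conjBy_mono IsMaxEA)
open scoped commutatorElement MatrixGroups

namespace CfsgLib.CFun.MinParab.Push

open Rec Off

universe u v w

variable {G : Type u} [Group G] [Finite G] {p : ℕ} [hp : Fact p.Prime] {T : Sylow p G} {M : Subgroup G}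
  {H : Type v} [Group H] [Finite H] {U : Type w} [AddCommGroup U] [Finite U] [DistribMulAction H U]
  {m : Glue.Mdl (vQ p G) ⊤ H U} {q n r : ℕ} {S : Sylow p H} {E : Fin r → Subgroup H}

/-- The projection to the acting group. -/
def proj (m : Glue.Mdl (vQ p G) ⊤ H U) : G →* H := m.π.comp Subgroup.topEquiv.symm.toMonoidHom

theorem proj_apply (m : Glue.Mdl (vQ p G) ⊤ H U) (x : G) : proj m x = m.π ⟨x, mem_top x⟩ := rfl

theorem proj_surj (m : Glue.Mdl (vQ p G) ⊤ H U) : Function.Surjective (proj m) := fun h => by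
  obtain ⟨x, rfl⟩ := m.surj h
  exact ⟨x, rfl⟩

theorem img_eq_map (m : Glue.Mdl (vQ p G) ⊤ H U) (X : Subgroup G) : img m X = X.map (proj m) := by
  ext h
  rw [mem_img]
  rfl

theorem proj_eq_one (m : Glue.Mdl (vQ p G) ⊤ H U) {x : G} :
    proj m x = 1 ↔ x ∈ centralizer (vQ p G : Set G) := m.π_eq_one

/-- A product of commuting subgroups. -/
theorem exists_mul_of_com {L R : Subgroup H} (h : Com L R) {x : H} (hx : x ∈ L ⊔ R) :
    ∃ l ∈ L, ∃ r ∈ R, x = l * r := by
  rw [Subgroup.sup_eq_closure] at hx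
  induction hx using Subgroup.closure_induction with
  | mem y hy =>
    rcases hy with hy | hy
    · exact ⟨y, hy, 1, one_mem _, (mul_one y).symm⟩
    · exact ⟨1, one_mem _, y, hy, (one_mul y).symm⟩
  | one => exact ⟨1, one_mem _, 1, one_mem _, (mul_one _).symm⟩
  | mul y z _ _ ihy ihz =>
    obtain ⟨l, hl, r, hr, rfl⟩ := ihy
    obtain ⟨l', hl', r', hr', rfl⟩ := ihz
    exact ⟨l * l', mul_mem hl hl', r * r', mul_mem hr hr', by
      rw [mul_assoc, ← mul_assoc r l', ← h l' hl' r hr, mul_assoc, mul_assoc]⟩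
  | inv y _ ih =>
    obtain ⟨l, hl, r, hr, rfl⟩ := ih
    exact ⟨l⁻¹, inv_mem hl, r⁻¹, inv_mem hr, by
      rw [mul_inv_rev, h l⁻¹ (inv_mem hl) r⁻¹ (inv_mem hr)]⟩

theorem val_proj (m : Glue.Mdl (vQ p G) ⊤ H U) (x : G) (u : U) :
    m.val (proj m x • u) = x * m.val u * x⁻¹ := m.val_smul _ u

namespace Data

variable (d : Data T M m q n r S E)
include d

theorem dec : Dec U p q n S (img m M) E := ⟨d.ctx, d.frame, d.one_le, d.nat⟩

theorem sys : Sys U p q S (img m M) := d.dec.sys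

theorem mem_pCore_of_cent {P : Subgroup G} (hP : IsPGroup p P) (hPC : P ≤ centralizer (vQ p G : Set G)) :
    P ≤ Cfsg.pCore p G := by
  haveI := Glue.Setting.omega_normal (G := G) (p := p)
  haveI := CfsgLib.Coprime.pCore_normal' (G := G) p
  obtain ⟨Q, hQ⟩ := hP.exists_le_sylow
  obtain ⟨g, hg⟩ := MulAction.exists_smul_eq G Q T
  intro x hx
  have h1 : g * x * g⁻¹ ∈ Cfsg.pCore p G := by
    rw [← d.inf_cent]
    refine mem_inf.2 ⟨?_, Normal.conj_mem inferInstance x (hPC hx) g⟩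
    rw [← hg]
    exact ⟨x, hQ hx, rfl⟩
  have h2 := Normal.conj_mem inferInstance _ h1 g⁻¹
  rwa [show g⁻¹ * (g * x * g⁻¹) * g⁻¹⁻¹ = x by group] at h2

theorem bT_inf_cent : bT T ⊓ centralizer (vQ p G : Set G) = q0 T :=
  le_antisymm (le_inf inf_le_left ((inf_le_inf_right _ inf_le_left).trans d.inf_cent.le))
    (le_inf inf_le_left (inf_le_right.trans (le_centralizer_iff.1 Glue.Setting.omega_le_centralizer)))

/-- The kernel of the action inside `J(G)` moves `W₀` only inside the centralizer of `J(G)`. -/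
theorem kernel_moves {k : G} (hkJ : k ∈ Cfsg.thompsonSubgroup p G) (hkC : k ∈ centralizer (vQ p G : Set G))
    {w : G} (hw : w ∈ w0 T) : ⁅w, k⁆ ∈ centralizer (Cfsg.thompsonSubgroup p G : Set G) := by
  haveI := Glue.Setting.omega_normal (G := G) (p := p)
  haveI := CfsgLib.Coprime.pCore_normal' (G := G) p
  haveI := Glue.thompsonSubgroup_normal (G := G) (p := p)
  set JG := Cfsg.thompsonSubgroup p G
  set C := centralizer (vQ p G : Set G)
  let K : Subgroup G :=
    { carrier := {x | x ∈ JG ∧ x ∈ C ∧ ∀ w ∈ w0 T, ⁅w, x⁆ ∈ centralizer (JG : Set G)}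
      one_mem' := ⟨one_mem _, one_mem _, fun w _ => by rw [commutatorElement_one_right]; exact one_mem _⟩
      mul_mem' := fun {a b} ha hb => ⟨mul_mem ha.1 hb.1, mul_mem ha.2.1 hb.2.1, fun w hw => by
        rw [show ⁅w, a * b⁆ = ⁅w, a⁆ * (a * ⁅w, b⁆ * a⁻¹) by simp only [commutatorElement_def]; group,
          mem_centralizer_iff.1 (hb.2.2 w hw) a ha.1, mul_inv_cancel_right]
        exact mul_mem (ha.2.2 w hw) (hb.2.2 w hw)⟩
      inv_mem' := fun {a} ha => ⟨inv_mem ha.1, inv_mem ha.2.1, fun w hw => by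
        have h := inv_mem (ha.2.2 w hw)
        rw [show ⁅w, a⁻¹⁆ = a⁻¹ * ⁅w, a⁆⁻¹ * a by simp only [commutatorElement_def]; group,
          mem_centralizer_iff.1 h a⁻¹ (inv_mem ha.1), inv_mul_cancel_right]
        exact h⟩ }
  suffices h : JG ⊓ C ≤ K from (h ⟨hkJ, hkC⟩).2.2 w hw
  refine CfsgLib.Fusion.le_of_forall_prime_pow fun l hl x hx hxl => ⟨hx.1, hx.2, fun w hw => ?_⟩
  have hy1 : ∀ y ∈ JG, ⁅w, y⁆ ∈ vQ p G := fun y hy =>
    d.y1_comm (commutator_mem_commutator (mem_sup_left hw) hy)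
  by_cases hlp : l = p
  swap
  · -- an element of order prime to `p`
    obtain ⟨j, hj⟩ := hxl
    have hz := hy1 x hx.1
    have hzx : ∀ i : ℕ, x ^ i * w * (x ^ i)⁻¹ = ⁅w, x⁆⁻¹ ^ i * w := fun i => by
      induction i with
      | zero => simp
      | succ i ih =>
        have hc : ∀ i : ℕ, x * ⁅w, x⁆⁻¹ ^ i * x⁻¹ = ⁅w, x⁆⁻¹ ^ i := fun i => by
          rw [← mem_centralizer_iff.1 hx.2 _ ((vQ p G).pow_mem ((vQ p G).inv_mem hz) i), mul_inv_cancel_right]
        calc x ^ (i + 1) * w * (x ^ (i + 1))⁻¹ = x * (x ^ i * w * (x ^ i)⁻¹) * x⁻¹ := by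
              rw [pow_succ']; group
          _ = (x * ⁅w, x⁆⁻¹ ^ i * x⁻¹) * (x * w * x⁻¹) := by rw [ih]; group
          _ = ⁅w, x⁆⁻¹ ^ i * (⁅w, x⁆⁻¹ * w) := by
              rw [hc]; simp only [commutatorElement_def]; group
          _ = _ := by rw [← mul_assoc, ← pow_succ]
    have h1 := hzx (l ^ j)
    rw [hj, inv_one, one_mul, mul_one, eq_comm, mul_eq_right] at h1
    have hcop : (l ^ j).Coprime p := Nat.Coprime.pow_left j ((Nat.coprime_primes hl hp.out).2 hlp)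
    have h2 : orderOf ⁅w, x⁆⁻¹ ∣ 1 := hcop ▸
      Nat.dvd_gcd (orderOf_dvd_of_pow_eq_one h1) (orderOf_dvd_of_pow_eq_one (vQ_ea.2 _ ((vQ p G).inv_mem hz)))
    rw [Nat.dvd_one, orderOf_eq_one_iff, inv_eq_one] at h2
    rw [h2]
    exact one_mem _
  subst hlp
  have hxQ : x ∈ Cfsg.pCore l G := by
    refine d.mem_pCore_of_cent (P := zpowers x) ?_ (zpowers_le.2 hx.2) (mem_zpowers x)
    obtain ⟨j, hj⟩ := hxl
    rintro ⟨a, ha⟩
    obtain ⟨i, rfl⟩ := mem_zpowers_iff.1 ha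
    refine ⟨j, Subtype.ext ?_⟩
    show (x ^ i) ^ l ^ j = 1
    rw [← zpow_natCast, ← zpow_mul, mul_comm, zpow_mul, zpow_natCast, hj, one_zpow]
  have hstay : ∀ h ∈ JG, ∀ z, z ∈ Cfsg.pCore l G → ⁅h * w * h⁻¹, z⁆ ∈ w0 T := by
    intro h hh z hz
    have hv : ⁅w, h⁆ ∈ vQ l G := hy1 h hh
    have e : h * w * h⁻¹ = ⁅w, h⁆⁻¹ * w := by simp only [commutatorElement_def]; group
    have hvz : Commute ⁅w, h⁆⁻¹ z := (mem_centralizer_iff.1
      (Glue.Setting.omega_le_centralizer ((vQ l G).inv_mem hv)) z hz).symm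
    have hwz : ⁅w, z⁆ ∈ w0 T := by
      have hzn : z ∈ normalizer (w0 T : Set G) := CfsgLib.BaumannNormal.omegaOne_centerThompson_normalizer _
        (CfsgLib.Fusion.normalizer_le_normalizer_thompsonSubgroupOf _ (le_normalizer (pCore_le_T hz)))
      rw [show ⁅w, z⁆ = w * (z * w⁻¹ * z⁻¹) by simp only [commutatorElement_def]; group]
      exact mul_mem hw ((mem_normalizer_iff.1 hzn _).1 (inv_mem hw))
    have hc : Commute ⁅w, h⁆⁻¹ ⁅w, z⁆ := by
      refine (mem_centralizer_iff.1 (show ⁅w, z⁆ ∈ centralizer (vQ l G : Set G) from ?_) _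
        ((vQ l G).inv_mem hv))
      exact (d.w0_le.trans (inf_le_right.trans (le_centralizer_iff.1 Glue.Setting.omega_le_centralizer))) hwz
    rw [e]
    generalize ⁅w, h⁆⁻¹ = v at hvz hc ⊢
    rw [show ⁅v * w, z⁆ = v * ⁅w, z⁆ * (z * v⁻¹ * z⁻¹) by simp only [commutatorElement_def]; group,
      ← hvz.inv_left.eq, mul_inv_cancel_right, hc.eq, mul_inv_cancel_right]
    exact hwz
  -- `[w, x]` is centralized by all conjugates of `J(T)`
  refine le_centralizer_iff.1 (?_ : JG ≤ centralizer (zpowers ⁅w, x⁆ : Set G)) (mem_zpowers _)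
  refine sSup_le fun A hA a ha => ?_
  obtain ⟨Q, hQ⟩ := (show IsPGroup l A from fun b => ⟨1, Subtype.ext (by rw [pow_one]; exact hA.1.2 b b.2)⟩).exists_le_sylow
  obtain ⟨g, hg⟩ := MulAction.exists_smul_eq G Q T
  have hgtop : g ∈ (T : Subgroup G) ⊔ JG := (sylow_sup_J d.setting).ge (mem_top g)
  obtain ⟨t, ht, h, hh, rfl⟩ := mem_sup_of_normal_right.1 hgtop
  have hAT : (t * h) * a * (t * h)⁻¹ ∈ Cfsg.thompsonSubgroupOf l (T : Subgroup G) := by
    refine CfsgLib.Fusion.le_thompsonSubgroupOf (A := conjBy (t * h) A)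
      ⟨by rw [← hg]; exact Subgroup.map_mono hQ, CfsgLib.Fusion.isElementaryAbelian_map _ hA.1,
        fun B _ hBe => ?_⟩ (conj_mem_conjBy ha)
    rw [CfsgLib.Fusion.card_conjBy]
    exact hA.2 B hBe
  have hhaT : h * a * h⁻¹ ∈ Cfsg.thompsonSubgroupOf l (T : Subgroup G) := by
    have h1 := (mem_normalizer_iff.1 (CfsgLib.Fusion.normalizer_le_normalizer_thompsonSubgroupOf _
      (le_normalizer (inv_mem ht))) _).1 hAT
    rwa [show t⁻¹ * (t * h * a * (t * h)⁻¹) * t⁻¹⁻¹ = h * a * h⁻¹ by group] at h1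
  have hz := hstay h hh (h * x * h⁻¹) (Normal.conj_mem inferInstance x hxQ h)
  have hc := mem_centralizer_iff.1 (w0_le_cent hz) _ hhaT
  rw [show ⁅h * w * h⁻¹, h * x * h⁻¹⁆ = h * ⁅w, x⁆ * h⁻¹ by simp only [commutatorElement_def]; group] at hc
  have hc' : Commute a ⁅w, x⁆ := by
    show a * ⁅w, x⁆ = ⁅w, x⁆ * a
    calc a * ⁅w, x⁆ = h⁻¹ * (h * a * h⁻¹ * (h * ⁅w, x⁆ * h⁻¹)) * h := by group
      _ = _ := by rw [hc]; group
  refine mem_centralizer_iff.2 fun y hy => ?_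
  obtain ⟨i, rfl⟩ := mem_zpowers_iff.1 hy
  exact (hc'.zpow_right i).eq.symm

/-- `W₀ ≤ (W₀ ∩ W₀ ^ g) V` for an element over the opposite root. -/
theorem w0_le_inter {i : Fin r} {A L R : Subgroup H} {g : H} (hP : Pair U p q (S : Subgroup H) (E i) A L R g)
    {gG : G} (hg : proj m gG = g) :
    ∀ w ∈ w0 T, ∃ c, ∃ v ∈ vQ p G, w = c * v ∧
      (∀ b ∈ bT T, Commute c b) ∧ ∀ b ∈ conjBy gG (bT T), Commute c b := by
  haveI := Glue.Setting.omega_normal (G := G) (p := p)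
  haveI := d.y1_normal
  haveI := Glue.thompsonSubgroup_normal (G := G) (p := p)
  intro w hw
  have hs := d.sys
  -- write `w = c₁ v₁` with `c₁` in the conjugate of `W₀`
  obtain ⟨c₀, hc₀, v₀, hv₀, he₀⟩ := mem_sup_of_normal_right.1
    (Normal.conj_mem (inferInstance : (w0 T ⊔ vQ p G).Normal) w (mem_sup_left hw) gG⁻¹)
  obtain ⟨c₁, hc₁def⟩ : ∃ c₁, c₁ = gG * c₀ * gG⁻¹ := ⟨_, rfl⟩
  obtain ⟨u₁, hu₁⟩ := m.exists_val _ (Normal.conj_mem inferInstance v₀ hv₀ gG)
  have hwe : w = c₁ * m.val u₁ := by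
    rw [hc₁def, hu₁]
    calc w = gG * (gG⁻¹ * w * gG⁻¹⁻¹) * gG⁻¹ := by group
      _ = gG * (c₀ * v₀) * gG⁻¹ := by rw [he₀]
      _ = _ := by group
  have hc₁V : c₁ ∈ centralizer (vQ p G : Set G) := by
    rw [hc₁def]
    exact Normal.conj_mem inferInstance _ (w0_cent_vQ d.setting m hc₀) gG
  have hB : ∀ b ∈ bT T, Commute w b := fun b hb => mem_centralizer_iff.1 hb.2 w hw
  have hBg : ∀ b ∈ bT T, Commute c₁ (gG * b * gG⁻¹) := fun b hb => by
    rw [hc₁def]
    exact (show Commute c₀ b from mem_centralizer_iff.1 hb.2 c₀ hc₀).map (MulAut.conj gG).toMonoidHom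
  -- `u₁` is fixed by the other roots
  have hRfix : R ≤ MulAction.stabilizer H u₁ := by
    refine hP.R_gen _ fun B hBroot hBR x hx => ?_
    have hxB : x ∈ img m (Cfsg.thompsonSubgroupOf p (T : Subgroup G)) :=
      d.bT_thompson.le (d.bT_roots.ge (hP.R_le (hBR hx)))
    obtain ⟨b, hb, hbx⟩ := (mem_img m).1 hxB
    change proj m b = x at hbx
    have hbB : b ∈ bT T := CfsgLib.BaumannNormal.thompson_le_baumann _ hb
    have hbJ : b ∈ Cfsg.thompsonSubgroup p G := CfsgLib.Fusion.thompsonSubgroupOf_le_whole T hb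
    obtain ⟨b', hb'⟩ : ∃ b', b' = gG * b * gG⁻¹ := ⟨_, rfl⟩
    have hpb' : proj m b' = x := by
      rw [hb', map_mul, map_mul, map_inv, hg, hbx, hP.com g hP.g_mem x (hBR hx), mul_inv_cancel_right]
    obtain ⟨k, hk⟩ : ∃ k, k = b⁻¹ * b' := ⟨_, rfl⟩
    have hkJ : k ∈ Cfsg.thompsonSubgroup p G := by
      rw [hk, hb']
      exact mul_mem (inv_mem hbJ) (Normal.conj_mem inferInstance b hbJ gG)
    have hkC : k ∈ centralizer (vQ p G : Set G) := by
      rw [← proj_eq_one m, hk, map_mul, map_inv, hbx, hpb', inv_mul_cancel]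
    have hz := d.kernel_moves hkJ hkC hw
    -- `[w, k]` is `[v₁, x]`
    have hval : m.val (u₁ - x • u₁) = ⁅w, k⁆ := by
      have e1 : ⁅w, b'⁆ = ⁅m.val u₁, b'⁆ := by
        have hv : ⁅m.val u₁, b'⁆ ∈ vQ p G :=
          commutator_le_left _ ⊤ (commutator_mem_commutator (m.val_mem u₁) (mem_top b'))
        calc ⁅w, b'⁆ = c₁ * ⁅m.val u₁, b'⁆ * (b' * c₁⁻¹ * b'⁻¹) := by
              rw [hwe]; simp only [commutatorElement_def]; group
          _ = c₁ * ⁅m.val u₁, b'⁆ * c₁⁻¹ := by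
              rw [← ((hb'.symm ▸ hBg b hbB : Commute c₁ b').inv_left.eq), mul_inv_cancel_right]
          _ = _ := by rw [← mem_centralizer_iff.1 hc₁V _ hv, mul_inv_cancel_right]
      have e2 : ⁅w, b'⁆ = ⁅w, k⁆ := by
        have hb'k : b' = b * k := by rw [hk, mul_inv_cancel_left]
        calc ⁅w, b'⁆ = ⁅w, b⁆ * (b * ⁅w, k⁆ * b⁻¹) := by
              rw [hb'k]; simp only [commutatorElement_def]; group
          _ = b * ⁅w, k⁆ * b⁻¹ := by rw [commutatorElement_eq_one_iff_commute.2 (hB b hbB), one_mul]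
          _ = _ := by rw [mem_centralizer_iff.1 hz b hbJ, mul_inv_cancel_right]
      rw [← e2, e1, m.val_sub, ← hpb', val_proj]
      simp only [commutatorElement_def]
      group
    obtain ⟨j, hj⟩ := d.frame.covered B hBroot
    refine d.frame.nofix j x (hj hx) (hBroot.el.pow x hx) u₁ ?_
    refine Char.NatSL.fixS_mono (le_iSup E j) ?_
    rw [← neg_sub]
    refine neg_mem fun y hy => m.val_inj ?_
    obtain ⟨yG, rfl⟩ := proj_surj m y
    rw [val_proj, mul_inv_eq_iff_eq_mul]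
    have hyl : yG ∈ Cfsg.thompsonSubgroup p G ⊔ centralizer (vQ p G : Set G) :=
      d.lift_sup ▸ m.mem_lift.2 ⟨mem_top _, hy⟩
    have hle : Cfsg.thompsonSubgroup p G ⊔ centralizer (vQ p G : Set G) ≤
        centralizer ({m.val (u₁ - x • u₁)} : Set G) := by
      refine sup_le (fun z hz' => mem_centralizer_singleton_iff.2 ?_)
        (centralizer_le (Set.singleton_subset_iff.2 (m.val_mem _)))
      rw [hval]
      exact mem_centralizer_iff.1 hz z hz'
    exact mem_centralizer_singleton_iff.1 (hle hyl)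
  -- split `u₁` along the opposite roots
  obtain ⟨a₁, ha₁, a₂, ha₂, hf⟩ := hP.dec u₁
  have hgA : Root U p q (conjBy g A) := hP.root.conj g
  have hgAL : conjBy g A ≤ L := le_sup_right.trans hP.gen.le
  have hAL : A ≤ L := le_sup_left.trans hP.gen.le
  have hR₁ : R ≤ MulAction.stabilizer H a₁ := hP.R_gen _ fun B hB' hBR x hx =>
    hs.le_of_com hP.root hB' (hP.com.mono hAL hBR) ha₁ x hx
  have hR₂ : R ≤ MulAction.stabilizer H a₂ := hP.R_gen _ fun B hB' hBR x hx =>
    hs.le_of_com hgA hB' (hP.com.mono hgAL hBR) ha₂ x hx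
  have hfix₁ : ∀ x ∈ img m (bT T), x • (u₁ - a₂) = u₁ - a₂ := by
    have hle : img m (bT T) ≤ MulAction.stabilizer H (u₁ - a₂) := by
      rw [d.bT_roots, ← hP.split]
      refine sup_le (fun x hx => ?_) (fun x hx => ?_)
      · show x • (u₁ - a₂) = u₁ - a₂
        have e1 : x • a₁ = a₁ := hs.commS_le hP.root ha₁ x hx
        have e2 : x • (u₁ - a₁ - a₂) = u₁ - a₁ - a₂ := hf x (hAL hx)
        simp only [smul_sub] at e2 ⊢
        linear_combination (norm := abel) e2 + e1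
      · show x • (u₁ - a₂) = u₁ - a₂
        rw [smul_sub, show x • u₁ = u₁ from hRfix hx, show x • a₂ = a₂ from hR₂ hx]
    exact fun x hx => hle hx
  have hfix₂ : ∀ x ∈ conjBy g (img m (bT T)), x • a₂ = a₂ := by
    have hle : conjBy g (img m (bT T)) ≤ MulAction.stabilizer H a₂ := by
      rw [d.bT_roots, ← hP.split, CfsgLib.Fusion.conjBy, Subgroup.map_sup]
      refine sup_le (fun x hx => hs.commS_le hgA ha₂ x hx) ?_
      rintro _ ⟨y, hy, rfl⟩
      show g * y * g⁻¹ ∈ _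
      rw [hP.com g hP.g_mem y hy, mul_inv_cancel_right]
      exact hR₂ hy
    exact fun x hx => hle hx
  refine ⟨c₁ * m.val a₂, m.val (u₁ - a₂), m.val_mem _, ?_, fun b hb => ?_, fun b hb => ?_⟩
  · rw [mul_assoc, ← m.val_add, add_sub_cancel, hwe]
  · have hv : Commute (m.val (u₁ - a₂)) b := by
      have h1 := congrArg m.val (hfix₁ (proj m b) ((img_eq_map m _).ge (mem_map_of_mem _ hb)))
      rw [val_proj, mul_inv_eq_iff_eq_mul] at h1
      exact h1.symm
    have e : c₁ * m.val a₂ = w * (m.val (u₁ - a₂))⁻¹ := by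
      rw [eq_mul_inv_iff_mul_eq, mul_assoc, ← m.val_add, add_sub_cancel, hwe]
    rw [e]
    exact (hB b hb).mul_left hv.inv_left
  · obtain ⟨b₀, hb₀, rfl⟩ := hb
    refine (hBg b₀ hb₀).mul_left ?_
    have h1 := congrArg m.val (hfix₂ (g * proj m b₀ * g⁻¹)
      (conj_mem_conjBy ((img_eq_map m _).ge (mem_map_of_mem _ hb₀))))
    rw [← hg, ← map_inv, ← map_mul, ← map_mul, val_proj, mul_inv_eq_iff_eq_mul] at h1
    exact h1.symm

theorem exists_q : ∃ k, q = p ^ k ∧ 1 ≤ k := by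
  obtain ⟨i⟩ : Nonempty (Fin r) := ⟨⟨0, d.frame.parts.pos⟩⟩
  rcases d.nat i with ⟨-, h, -⟩ | ⟨h, h', -⟩
  · exact ⟨n, h, d.one_le⟩
  · exact ⟨1, by rw [h, h', pow_one], le_rfl⟩

/-- The part `L` meets the image of `B` in the root. -/
theorem pair_inf_img {i : Fin r} {A L R : Subgroup H} {g : H}
    (hP : Pair U p q (S : Subgroup H) (E i) A L R g) : img m (bT T) ⊓ L = A :=
  hP.sylow _ (d.bT_el.pgroup.to_le inf_le_left)
    (le_inf (d.bT_roots ▸ hP.split ▸ le_sup_left) (le_sup_left.trans hP.gen.le)) inf_le_right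

theorem pair_inf {i : Fin r} {A L R : Subgroup H} {g : H}
    (hP : Pair U p q (S : Subgroup H) (E i) A L R g) : L ⊓ R = ⊥ := by
  refine (eq_bot_iff_forall _).2 fun z hz => ?_
  have hzA : z ∈ A := (d.pair_inf_img hP).le ⟨d.bT_roots.ge (hP.R_le hz.2), hz.1⟩
  have hzgA : z ∈ conjBy g A := by
    have := conj_mem_conjBy (g := g) hzA
    rwa [hP.com g hP.g_mem z hz.2, mul_inv_cancel_right] at this
  exact mem_bot.1 ((d.sys.inf_eq_bot hP.root (hP.root.conj g) hP.ne.symm).le ⟨hzA, hzgA⟩)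

/-- There is a subgroup of rank one over `B` for every root of the image of `T`. -/
theorem exists_member {i : Fin r} {A : Subgroup H} (hA : Root U p q A) (hAS : A ≤ (S : Subgroup H))
    (hAi : A ≤ E i) :
    ∃ (L R : Subgroup H) (g : H) (F : Type) (_ : Field F) (_ : Fintype F) (X : Subgroup G),
      Pair U p q (S : Subgroup H) (E i) A L R g ∧ Fintype.card F = q ∧ Member T m E i L F X := by
  classical
  haveI := Glue.Setting.omega_normal (G := G) (p := p)
  haveI := d.q0_normal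
  haveI := CfsgLib.Coprime.pCore_normal' (G := G) p
  obtain ⟨L, R, g, hP⟩ := d.dec.exists_pair hA hAS hAi
  obtain ⟨gG, hg⟩ := proj_surj m g
  obtain ⟨k, hk, hk1⟩ := d.exists_q
  have hs := d.sys
  have hAL : A ≤ L := le_sup_left.trans hP.gen.le
  have hgAL : conjBy g A ≤ L := le_sup_right.trans hP.gen.le
  have hLR := d.pair_inf hP
  have hBimg : img m (bT T) = A ⊔ R := d.bT_roots.trans hP.split.symm
  have hRB : R ≤ img m (bT T) := hBimg ▸ le_sup_right
  have hAB : A ≤ img m (bT T) := hBimg ▸ le_sup_left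
  -- the group generated by `B` and its conjugate
  obtain ⟨Λ, hΛ⟩ : ∃ Λ, Λ = bT T ⊔ conjBy gG (bT T) := ⟨_, rfl⟩
  have hBΛ : bT T ≤ Λ := hΛ ▸ le_sup_left
  have hΛimg : img m Λ = L ⊔ R := by
    have h1 : img m (conjBy gG (bT T)) = conjBy g (img m (bT T)) := by
      rw [img_eq_map, img_eq_map, CfsgLib.Fusion.conjBy, CfsgLib.Fusion.conjBy, map_map, map_map]
      congr 1
      ext x
      simp [map_mul, map_inv, hg]
    rw [hΛ, img_eq_map, Subgroup.map_sup, ← img_eq_map, ← img_eq_map, h1, hBimg]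
    refine le_antisymm (sup_le (sup_le_sup_right hAL _) ?_) (sup_le ?_ (le_sup_of_le_left le_sup_right))
    · refine conjBy_le_iff.2 fun x hx => ?_
      have hle : A ⊔ R ≤ L ⊔ R := sup_le_sup_right hAL _
      exact mul_mem (mul_mem (mem_sup_left hP.g_mem) (hle hx)) (inv_mem (mem_sup_left hP.g_mem))
    · rw [← hP.gen]
      exact sup_le (le_sup_of_le_left le_sup_left) (le_sup_of_le_right (conjBy_mono le_sup_left))
  have hΛw : ∀ x ∈ Λ, x ∈ centralizer (vQ p G : Set G) → x ∈ centralizer (w0 T : Set G) := by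
    intro x hx hxV
    refine mem_centralizer_iff.2 fun w hw => ?_
    obtain ⟨c, v, hv, rfl, hc, hc'⟩ := d.w0_le_inter hP hg w hw
    have hle : Λ ≤ centralizer ({c} : Set G) := hΛ ▸ sup_le
      (fun b hb => mem_centralizer_singleton_iff.2 (hc b hb).symm.eq)
      (fun b hb => mem_centralizer_singleton_iff.2 (hc' b hb).symm.eq)
    exact (Commute.mul_left (mem_centralizer_singleton_iff.1 (hle hx) : Commute x c).symm
      (mem_centralizer_iff.1 hxV v hv)).eq
  have hΛq : Λ ⊓ Cfsg.pCore p G ≤ q0 T := by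
    intro x hx
    have hxV : x ∈ centralizer (vQ p G : Set G) :=
      (le_centralizer_iff.1 Glue.Setting.omega_le_centralizer) hx.2
    rw [d.q0_eq]
    exact ⟨hx.2, le_centralizer_iff.1 (sup_le (le_centralizer_iff.1 (zpowers_le.2 (hΛw x hx.1 hxV)))
      (le_centralizer_iff.1 (zpowers_le.2 hxV))) (mem_zpowers x)⟩
  -- a least subgroup with this image
  obtain ⟨X, hBX, hXΛ, hXimg', hmin⟩ : ∃ X : Subgroup G, bT T ≤ X ∧ X ≤ Λ ∧ L ⊔ R ≤ img m X ∧
      ∀ K, bT T ≤ K → K ≤ Λ → L ⊔ R ≤ img m K → Nat.card ↥X ≤ Nat.card ↥K := by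
    have h' : ∃ j, ∃ X : Subgroup G, bT T ≤ X ∧ X ≤ Λ ∧ L ⊔ R ≤ img m X ∧ Nat.card ↥X = j :=
      ⟨_, Λ, hBΛ, le_rfl, hΛimg.ge, rfl⟩
    obtain ⟨X, h1, h2, h3, h4⟩ := Nat.find_spec h'
    exact ⟨X, h1, h2, h3, fun K k1 k2 k3 => h4.le.trans (Nat.find_min' h' ⟨K, k1, k2, k3, rfl⟩)⟩
  have hXimg : img m X = L ⊔ R := le_antisymm ((img_mono m hXΛ).trans hΛimg.le) hXimg'
  have hprojX : ∀ x ∈ X, ∃ l ∈ L, ∃ r ∈ R, proj m x = l * r := fun x hx =>
    exists_mul_of_com hP.com (hXimg.le ((img_eq_map m X).ge (mem_map_of_mem _ hx)))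
  have hq0X : q0 T ≤ X := inf_le_left.trans hBX
  have hBS : IsPGroup p ↥(bT T) := T.2.to_le inf_le_left
  -- `B` is a Sylow subgroup
  have hsyl : ∃ P : Sylow p ↥X, (P : Subgroup ↥X) = (bT T).subgroupOf X := by
    obtain ⟨P, hP'⟩ := (hBS.comap_of_injective X.subtype X.subtype_injective :
      IsPGroup p ↥((bT T).subgroupOf X)).exists_le_sylow
    refine ⟨P, le_antisymm (fun x hx => ?_) hP'⟩
    obtain ⟨PG, hPG⟩ : ∃ PG, PG = (P : Subgroup ↥X).map X.subtype := ⟨_, rfl⟩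
    have hPGp : IsPGroup p ↥PG := hPG ▸ P.2.map _
    have hBP : bT T ≤ PG := hPG ▸ fun b hb => ⟨⟨b, hBX hb⟩, hP' hb, rfl⟩
    have hxP : (x : G) ∈ PG := hPG ▸ mem_map_of_mem X.subtype hx
    obtain ⟨l, hl, r₀, hr, he⟩ := hprojX (x : G) x.2
    have hmap : img m (bT T) ≤ img m PG := img_mono m hBP
    have hlA : l ∈ A := by
      refine (hP.sylow (img m PG ⊓ L) ((img_eq_map m PG ▸ hPGp.map _ : IsPGroup p ↥(img m PG)).to_le inf_le_left)
        (le_inf (hAB.trans hmap) hAL) inf_le_right).le (mem_inf.2 ⟨?_, hl⟩)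
      have h1 : proj m x ∈ img m PG := (img_eq_map m PG).ge (mem_map_of_mem _ hxP)
      rw [← mul_inv_cancel_right l r₀, ← he]
      exact mul_mem h1 (inv_mem (hmap (hRB hr)))
    obtain ⟨b, hb, hbe⟩ : proj m x ∈ (bT T).map (proj m) := by
      rw [← img_eq_map, hBimg, he]
      exact mul_mem (mem_sup_left hlA) (mem_sup_right hr)
    have hk : b⁻¹ * x ∈ PG ⊓ centralizer (vQ p G : Set G) := by
      refine mem_inf.2 ⟨mul_mem (inv_mem (hBP hb)) hxP, ?_⟩
      rw [← proj_eq_one m, map_mul, map_inv, hbe, inv_mul_cancel]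
    have hkq : b⁻¹ * x ∈ q0 T := hΛq (mem_inf.2 ⟨mul_mem (inv_mem (hBΛ hb)) (hXΛ x.2),
      d.mem_pCore_of_cent (hPGp.to_le inf_le_left) inf_le_right hk⟩)
    show (x : G) ∈ bT T
    simpa using mul_mem hb hkq.1
  have hq0core : (q0 T).subgroupOf X ≤ Cfsg.pCore p ↥X :=
    CfsgLib.PGroup.le_pCore inferInstance ((hBS.to_le inf_le_left).comap_of_injective X.subtype X.subtype_injective)
  have hconstr : centralizer (Cfsg.pCore p ↥X : Set ↥X) ≤ Cfsg.pCore p ↥X := by
    refine fun x hx => hq0core (d.q0_self_cent (mem_centralizer_iff.2 fun y hy => ?_))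
    exact congrArg Subtype.val (mem_centralizer_iff.1 hx ⟨y, hq0X hy⟩ (hq0core hy))
  -- the maximal subgroup
  obtain ⟨φ, hφ⟩ : ∃ φ : ↥X →* H, φ = (proj m).comp X.subtype := ⟨_, rfl⟩
  obtain ⟨N₀, hN₀⟩ : ∃ N₀, N₀ = (normalizer (A : Set H)).comap φ := ⟨_, rfl⟩
  have hN₀top : N₀ ≠ ⊤ := fun e => by
    obtain ⟨x, hx, hxe⟩ := (img_eq_map m X).le (hXimg.ge (mem_sup_left hP.g_mem))
    have h1 : φ ⟨x, hx⟩ ∈ normalizer (A : Set H) := mem_comap.1 (hN₀ ▸ e ▸ mem_top _)
    rw [hφ] at h1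
    exact hP.ne (conjBy_eq_iff.2 (show g ∈ normalizer (A : Set H) from hxe ▸ h1))
  have hBN₀ : (bT T).subgroupOf X ≤ N₀ := by
    intro x hx
    rw [hN₀, mem_comap, hφ]
    refine centralizer_le_normalizer _ (mem_centralizer_iff.2 fun a ha => ?_)
    exact d.bT_el.comm a (hAB ha) _ ((img_eq_map m _).ge (mem_map_of_mem _ hx))
  have hmax : ∀ K : Subgroup ↥X, (bT T).subgroupOf X ≤ K → K ≠ ⊤ → K ≤ N₀ := by
    intro K hBK hK x hx
    by_contra hxN
    refine hK (eq_top_of_card_eq K (le_antisymm K.card_le_card_group ?_))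
    have hBK' : bT T ≤ K.map X.subtype := fun b hb => ⟨⟨b, hBX hb⟩, hBK hb, rfl⟩
    refine le_of_le_of_eq ?_ (Subgroup.card_map_of_injective X.subtype_injective)
    refine hmin _ hBK' ((map_subtype_le K).trans hXΛ) (sup_le ?_ (hRB.trans (img_mono m hBK')))
    obtain ⟨l, hl, r₀, hr, he⟩ := hprojX (x : G) x.2
    have hlK : l ∈ img m (K.map X.subtype) := by
      have h1 : proj m x ∈ img m (K.map X.subtype) :=
        (img_eq_map m _).ge (mem_map_of_mem _ ⟨x, hx, rfl⟩)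
      rw [← mul_inv_cancel_right l r₀, ← he]
      exact mul_mem h1 (inv_mem (img_mono m hBK' (hRB hr)))
    have hne : conjBy l A ≠ A := fun e => hxN (by
      rw [hN₀, mem_comap, hφ]
      show proj m x ∈ _
      rw [he]
      exact mul_mem (conjBy_eq_iff.1 e) (centralizer_le_normalizer _
        (mem_centralizer_iff.2 fun a ha => hP.com a (hAL ha) r₀ hr)))
    rw [← hP.gen2 l hl hne]
    exact sup_le (hAB.trans (img_mono m hBK'))
      (conjBy_le_iff.2 fun a ha => mul_mem (mul_mem hlK (img_mono m hBK' (hAB ha))) (inv_mem hlK))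
  have huniq : ∃! K : Subgroup ↥X, IsCoatom K ∧ (bT T).subgroupOf X ≤ K := by
    refine ⟨N₀, ⟨⟨hN₀top, fun K hK => ?_⟩, hBN₀⟩, fun K hK => ?_⟩
    · by_contra hne
      exact hK.ne (le_antisymm hK.le (hmax K (hBN₀.trans hK.le) hne))
    · rcases hK.1.le_iff.1 (hmax K hK.2 hK.1.1) with h | h
      · exact absurd h hN₀top
      · exact h.symm
  -- the map to `L`
  have hsplit : ∀ x : ↥X, ∃ l : ↥L, (l : H)⁻¹ * φ x ∈ R := fun x => by
    obtain ⟨l, hl, r₀, hr, he⟩ := hprojX (x : G) x.2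
    refine ⟨⟨l, hl⟩, ?_⟩
    rw [hφ]
    show l⁻¹ * proj m x ∈ R
    rwa [he, inv_mul_cancel_left]
  choose χ₀ hχ₀ using hsplit
  have huni : ∀ (y : H) (l l' : ↥L), (l : H)⁻¹ * y ∈ R → (l' : H)⁻¹ * y ∈ R → l = l' := by
    intro y l l' h h'
    refine Subtype.ext (inv_mul_eq_one.1 (mem_bot.1 (hLR.le (mem_inf.2 ⟨mul_mem (inv_mem l.2) l'.2, ?_⟩))))
    have := mul_mem h (inv_mem h')
    rwa [mul_inv_rev, inv_inv, mul_assoc, mul_inv_cancel_left] at this
  obtain ⟨χ, hχ⟩ : ∃ χ : ↥X →* ↥L, ∀ x, χ x = χ₀ x := ⟨MonoidHom.mk' χ₀ fun a b => by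
    refine huni _ _ _ (hχ₀ (a * b)) ?_
    have h1 := hP.com ((χ₀ b : H))⁻¹ (inv_mem (χ₀ b).2) _ (hχ₀ a)
    rw [Subgroup.coe_mul, map_mul, mul_inv_rev]
    have e : (χ₀ b : H)⁻¹ * (χ₀ a : H)⁻¹ * (φ a * φ b) =
        ((χ₀ b : H)⁻¹ * ((χ₀ a : H)⁻¹ * φ a)) * φ b := by group
    rw [e, h1, mul_assoc]
    exact mul_mem (hχ₀ a) (hχ₀ b), fun _ => rfl⟩
  have hχs : Function.Surjective χ := fun l => by
    obtain ⟨x, hx, hxe⟩ := (img_eq_map m X).le (hXimg.ge (mem_sup_left l.2))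
    refine ⟨⟨x, hx⟩, (hχ _).trans (huni _ _ _ (hχ₀ ⟨x, hx⟩) ?_)⟩
    rw [hφ]
    show (l : H)⁻¹ * proj m x ∈ R
    rw [hxe, inv_mul_cancel]
    exact one_mem R
  obtain ⟨F₀, iF₀, iFf₀, hF₀, ρ, ψ, hψ⟩ := id hP.nat
  obtain ⟨π₀, hπ₀⟩ : ∃ π₀ : ↥X →* Matrix.ProjectiveSpecialLinearGroup (Fin 2) F₀,
      π₀ = (QuotientGroup.mk' _).comp (ρ.toMonoidHom.comp χ) := ⟨_, rfl⟩
  have hπ₀s : Function.Surjective π₀ := by
    rw [hπ₀]
    exact (QuotientGroup.mk'_surjective _).comp (ρ.surjective.comp hχs)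
  have hsit : CfsgLib.PushUp.Sit p ((bT T).subgroupOf X) :=
    ⟨hsyl, hconstr, huniq, π₀.ker, inferInstance, F₀, iF₀, iFf₀, k, hF₀.trans hk,
      ⟨QuotientGroup.quotientKerEquivOfSurjective π₀ hπ₀s⟩⟩
  -- it generates `G` with `T`
  have hgen : X ⊔ (T : Subgroup G) = ⊤ := by
    by_contra hne
    have hle := d.setting.only.2.2 _ le_sup_right hne
    have hSM : (S : Subgroup H) ≤ img m M := d.sylow ▸ img_mono m (le_sup_right.trans hle)
    have hiM : E i ≤ img m M :=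
      hP.gen_S.trans (sup_le ((le_sup_left.trans hXimg.ge).trans (img_mono m (le_sup_left.trans hle))) hSM)
    refine d.ctx.ne_top (top_le_iff.1 (d.frame.parts.gen.ge.trans (sup_le (iSup_le fun j => ?_) hSM)))
    obtain ⟨t, ht, he⟩ := d.frame.parts.trans i j
    rw [← he]
    exact conjBy_le_iff.2 fun y hy => mul_mem (mul_mem (hSM ht) (hiM hy)) (inv_mem (hSM ht))
  have hnoChar : ∀ Y : Subgroup ↥(bT T), Y ≠ ⊥ → Y.Characteristic →
      ¬ (Y.map (Subgroup.inclusion hBX)).Normal := by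
    intro Y hY hYc hYn
    have hc : ((Y.map (bT T).subtype).subgroupOf (bT T)).Characteristic := by
      rw [Subgroup.subgroupOf, comap_map_eq_self_of_injective (bT T).subtype_injective]
      exact hYc
    refine d.hyp.noChar (Y.map (bT T).subtype) (map_subtype_le Y)
      (fun e => hY ((map_eq_bot_iff_of_injective _ (bT T).subtype_injective).1 e)) hc
      (normalizer_eq_top_iff.1 (top_le_iff.1 (hgen.ge.trans (sup_le ?_
        (sylow_le_normalizer_char (map_subtype_le Y) hc)))))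
    intro x hx
    refine conjBy_eq_iff.1 (CfsgLib.Fusion.conjBy_eq_of_le ?_)
    rintro _ ⟨_, ⟨b, hb, rfl⟩, rfl⟩
    obtain ⟨b', hb', he⟩ := hYn.conj_mem _ (mem_map_of_mem (Subgroup.inclusion hBX) hb) ⟨x, hx⟩
    exact ⟨b', hb', congrArg Subtype.val he⟩
  -- the shape
  have hrange : (Subgroup.inclusion hBX).range = (bT T).subgroupOf X := Subgroup.inclusion_range hBX
  have hindex : (Cfsg.pCore p ↥X).relIndex ((bT T).subgroupOf X) = p ^ k :=
    PushAmalgam.relIndex_of_psl hsit π₀.ker (hF₀.trans hk)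
      (QuotientGroup.quotientKerEquivOfSurjective π₀ hπ₀s)
  obtain ⟨hex, -, F, iF, iFf, hF, hshape⟩ :=
    PushAmalgam.exists_shape (Subgroup.inclusion hBX) (Subgroup.inclusion_injective hBX)
      (hrange.symm ▸ hsit) hnoChar
  have hFq : Fintype.card F = q := by rw [hF, hrange, hindex, hk]
  -- the kernel on `L`
  have hcore : ∀ x : ↥X, x ∈ Cfsg.pCore p ↥X → (x : G) ∈ bT T ∧ φ x ∈ R := by
    intro x hx
    obtain ⟨P, hP'⟩ := hsit.sylow
    have hB : (x : G) ∈ bT T := (hP'.le (CfsgLib.PGroup.pCore_le_sylow P hx) : _)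
    refine ⟨hB, ?_⟩
    obtain ⟨y, hy, hye⟩ := (img_eq_map m X).le (hXimg.ge (mem_sup_left hP.g_mem))
    have hB' := hP'.le (CfsgLib.PGroup.pCore_le_sylow P
      ((CfsgLib.PushUp.pCore_normal p ↥X).conj_mem x hx ⟨y, hy⟩⁻¹))
    obtain ⟨a, ha, r₀, hr, he⟩ := exists_mul_of_com (hP.com.mono hAL le_rfl)
      (hBimg.le ((img_eq_map m _).ge (mem_map_of_mem (proj m) hB)))
    obtain ⟨a', ha', r', hr', he'⟩ := exists_mul_of_com (hP.com.mono hAL le_rfl)
      (hBimg.le ((img_eq_map m _).ge (mem_map_of_mem (proj m) hB')))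
    have he'' : a * r₀ = g * a' * g⁻¹ * r' := by
      have h1 : g⁻¹ * (a * r₀) * g = a' * r' := by
        rw [← he, ← he', ← hye, ← map_inv, ← map_mul, ← map_mul]
        simp
      calc a * r₀ = g * (g⁻¹ * (a * r₀) * g) * g⁻¹ := by group
        _ = g * a' * (r' * g⁻¹) := by rw [h1]; group
        _ = _ := by rw [← hP.com g⁻¹ (inv_mem hP.g_mem) r' hr', ← mul_assoc]
    have hgl : g * a' * g⁻¹ ∈ L := hgAL (conj_mem_conjBy ha')
    have h2 := huni (a * r₀) ⟨a, hAL ha⟩ ⟨_, hgl⟩ (by simpa using hr) (by rw [he'', inv_mul_cancel_left]; exact hr')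
    have ha1 : a = 1 := mem_bot.1 ((hs.inf_eq_bot hP.root (hP.root.conj g) hP.ne.symm).le
      ⟨ha, by rw [SetLike.mem_coe, show a = g * a' * g⁻¹ from congrArg Subtype.val h2]; exact conj_mem_conjBy ha'⟩)
    rw [hφ]
    show proj m x ∈ R
    rwa [he, ha1, one_mul]
  have hχA : ∀ b : ↥((bT T).subgroupOf X), (χ (b : ↥X) : H) ∈ A := fun b => by
    obtain ⟨a, ha, r₀, hr, he⟩ := exists_mul_of_com (hP.com.mono hAL le_rfl)
      (hBimg.le ((img_eq_map m _).ge (mem_map_of_mem (proj m) b.2)))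
    rw [hχ, huni (φ (b : ↥X)) (χ₀ b) ⟨a, hAL ha⟩ (hχ₀ _) (by
      rw [hφ]; show a⁻¹ * proj m _ ∈ R; rw [he, inv_mul_cancel_left]; exact hr)]
    exact ha
  have hker : ∀ x : ↥X, χ x = 1 ↔ φ x ∈ R := fun x => by
    refine ⟨fun h => ?_, fun h => (hχ x).trans (huni _ _ _ (hχ₀ x) (by simpa using h))⟩
    have := hχ₀ x
    rwa [← hχ, h, Subgroup.coe_one, inv_one, one_mul] at this
  have hcoreeq : Cfsg.pCore p ↥X = (bT T).subgroupOf X ⊓ χ.ker := by
    refine eq_of_le_of_card_ge (fun x hx => ⟨(hcore x hx).1, (hker x).2 (hcore x hx).2⟩) ?_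
    have hmap : ((bT T).subgroupOf X).map χ = A.subgroupOf L := by
      refine le_antisymm ?_ fun l hl => ?_
      · rintro _ ⟨b, hb, rfl⟩
        exact hχA ⟨b, hb⟩
      · obtain ⟨b, hb, hbe⟩ := (img_eq_map m _).le (hAB hl)
        refine ⟨⟨b, hBX hb⟩, hb, (hχ _).trans (huni _ _ _ (hχ₀ _) ?_)⟩
        rw [hφ]
        show (l : H)⁻¹ * proj m b ∈ R
        rw [hbe]
        simp
    have h1 : χ.ker.relIndex ((bT T).subgroupOf X) = q := by
      rw [Subgroup.relIndex_ker, hmap, Nat.card_congr (subgroupOfEquivOfLe hAL).toEquiv, hA.card]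
    have hle : Cfsg.pCore p ↥X ≤ (bT T).subgroupOf X := fun x hx => (hcore x hx).1
    have h2 := Subgroup.relIndex_mul_relIndex ⊥ _ _ bot_le hle
    have h3 := Subgroup.relIndex_mul_relIndex ⊥ _ _ bot_le (inf_le_left : (bT T).subgroupOf X ⊓ χ.ker ≤ _)
    rw [relIndex_bot_left, relIndex_bot_left, hindex, ← hk] at h2
    rw [relIndex_bot_left, relIndex_bot_left, inf_relIndex_left, h1] at h3
    exact (Nat.eq_of_mul_eq_mul_right (by have := d.frame.least.two_le; omega) (h3.trans h2.symm)).le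
  have hinf : X ⊓ centralizer (vQ p G : Set G) = q0 T := by
    refine (eq_of_le_of_card_ge (le_inf hq0X (inf_le_right.trans
      (le_centralizer_iff.1 Glue.Setting.omega_le_centralizer))) ?_).symm
    obtain ⟨e⟩ : Nonempty (↥X ⧸ Cfsg.pCore p ↥X ≃* SL(2, F)) := by
      rcases hshape with ⟨⟨Y, Y', hY, -⟩, -, -⟩ | ⟨-, ⟨Y, Y', -, -, -, -, hY, -⟩, -⟩
      · exact PushAmalgam.quotient_equiv_of_step hY
      · exact PushAmalgam.quotient_equiv_of_step hY
    have hLq : Nat.card ↥L = Nat.card SL(2, F) := by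
      rw [Nat.card_congr ρ.toEquiv, CfsgLib.Classical.card_sl2, CfsgLib.Classical.card_sl2, hF₀, hFq]
    have e1 : Nat.card ↥X = Nat.card ↥(Cfsg.pCore p ↥X) * Nat.card ↥L := by
      rw [card_eq_card_quotient_mul_card_subgroup (Cfsg.pCore p ↥X), Nat.card_congr e.toEquiv, ← hLq, mul_comm]
    have e2 : Nat.card ↥X = Nat.card ↥χ.ker * Nat.card ↥L := by
      rw [card_eq_card_quotient_mul_card_subgroup χ.ker,
        Nat.card_congr (QuotientGroup.quotientKerEquivOfSurjective χ hχs).toEquiv, mul_comm]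
    have e3 : Cfsg.pCore p ↥X = χ.ker :=
      eq_of_le_of_card_ge (hcoreeq.le.trans inf_le_right)
        (Nat.eq_of_mul_eq_mul_right Nat.card_pos (e2.symm.trans e1)).le
    refine card_le_of_le fun x hx => ⟨?_, ?_⟩
    · have h1 : (⟨x, hx.1⟩ : ↥X) ∈ Cfsg.pCore p ↥X := by
        rw [e3, MonoidHom.mem_ker, hker, hφ]
        show proj m x ∈ R
        rw [(proj_eq_one m).2 hx.2]
        exact one_mem R
      exact (hcore _ h1).1
    · have h1 : (⟨x, hx.1⟩ : ↥X) ∈ Cfsg.pCore p ↥X := by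
        rw [e3, MonoidHom.mem_ker, hker, hφ]
        show proj m x ∈ R
        rw [(proj_eq_one m).2 hx.2]
        exact one_mem R
      exact (d.bT_inf_cent.le ⟨(hcore _ h1).1, hx.2⟩).2
  refine ⟨L, R, g, F, iF, iFf, X, hP, hFq, ?_⟩
  exact
    { le := hBX
      sit := hsit
      gen := hgen
      noChar := hnoChar
      part_le := hP.part_le
      nat := hFq.symm ▸ hP.nat
      inf_bT := by rw [d.pair_inf_img hP, hA.card, hFq]
      image := by
        rw [hXimg, hBimg]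
        exact le_antisymm (sup_le_sup le_rfl le_sup_right) (sup_le le_sup_left (sup_le_sup_right hAL _))
      inf_cent := hinf
      res_le := fun x hx ho => by
        obtain ⟨l, hl, r₀, hr, he⟩ := hprojX x hx
        have h1 : l ^ orderOf x * r₀ ^ orderOf x = 1 := by
          rw [← (show Commute l r₀ from hP.com l hl r₀ hr).mul_pow, ← he, ← map_pow, pow_orderOf_eq_one, map_one]
        have h2 : r₀ ^ orderOf x = 1 := mem_bot.1 (hLR.le
          (mem_inf.2 ⟨(eq_inv_of_mul_eq_one_right h1).symm ▸ L.inv_mem (L.pow_mem hl _), R.pow_mem hr _⟩))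
        have h3 : orderOf r₀ ∣ Nat.gcd (orderOf x) p :=
          Nat.dvd_gcd (orderOf_dvd_of_pow_eq_one h2) (orderOf_dvd_of_pow_eq_one (d.bT_el.pow r₀ (hRB hr)))
        rw [Nat.Coprime.gcd_eq_one ho, Nat.dvd_one, orderOf_eq_one_iff] at h3
        show proj m x ∈ L
        rwa [he, h3, mul_one]
      span := eq_top_iff.2 fun u _ => by
        obtain ⟨u₁, h₁, u₂, h₂, hf⟩ := hP.dec u
        rw [← add_sub_cancel (u₁ + u₂) u, show u - (u₁ + u₂) = u - u₁ - u₂ by abel]
        exact AddSubgroup.add_mem_sup (add_mem (commS_mono hAL h₁) (commS_mono hgAL h₂)) hf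
      core := fun x => by
        refine ⟨fun hx => ⟨(hcore x hx).1, mem_centralizer_iff.2 fun l hl => ?_⟩, fun h => ?_⟩
        · have h2 := (hcore x hx).2
          rw [hφ] at h2
          exact hP.com l hl _ h2
        · rw [hcoreeq]
          refine ⟨h.1, (hker x).2 ?_⟩
          obtain ⟨a, ha, r₀, hr, he⟩ := exists_mul_of_com (hP.com.mono hAL le_rfl)
            (hBimg.le ((img_eq_map m _).ge (mem_map_of_mem (proj m) h.1)))
          have h2 : proj m x ∈ centralizer (L : Set H) := h.2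
          have ha2 : a ∈ centralizer (L : Set H) := by
            rw [← mul_inv_cancel_right a r₀, ← he]
            exact mul_mem h2 (inv_mem (mem_centralizer_iff.2 fun l hl => hP.com l hl r₀ hr))
          have ha1 : a = 1 := mem_bot.1 ((hs.inf_eq_bot hP.root (hP.root.conj g) hP.ne.symm).le
            ⟨ha, by
              have := conj_mem_conjBy (g := g) ha
              rwa [mem_centralizer_iff.1 ha2 g hP.g_mem, mul_inv_cancel_right] at this⟩)
          rw [hφ]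
          show proj m x ∈ R
          rwa [he, ha1, one_mul]
      exceptional := hex
      shape := hshape }

end Data

end CfsgLib.CFun.MinParab.Push
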