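import Cfsg.Agent.Lib.CFun.MinParab.Push.Comp

/-!
# Pushing up with one natural step: `O^p(G)` moves `O_p(G)` only inside `[V, O^p(G)]`
-/

set_option autoImplicit false
set_option linter.unusedSectionVars false
set_option linter.style.haveILetI false

open Subgroup
open CfsgLib.Char.NatSL (fixS mem_fixS fixS_mono)
open CfsgLib.Fusion (conjBy mem_conjBy conj_mem_conjBy conjBy_le_iff conjBy_eq_iff conjBy_conjBy conjBy_mono
  conjBy_eq_of_le)
open scoped commutatorElement MatrixGroups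

namespace CfsgLib.CFun.MinParab.Push

open Rec Off

universe u v w

variable {G : Type u} [Group G] [Finite G] {p : ℕ} [hp : Fact p.Prime] {T : Sylow p G} {M : Subgroup G}
  {H : Type v} [Group H] [Finite H] {U : Type w} [AddCommGroup U] [Finite U] [DistribMulAction H U]
  {m : Glue.Mdl (vQ p G) ⊤ H U} {q n r : ℕ} {S : Sylow p H} {E : Fin r → Subgroup H}

/-- One natural step: the Frattini subgroup of `B` is central. -/
abbrev IsOne (T : Sylow p G) : Prop := ⁅frattini ↥(bT T), (⊤ : Subgroup ↥(bT T))⁆ = ⊥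

theorem Member.shapeOne {i : Fin r} {L : Subgroup H} {F : Type} [Field F] [Fintype F] {X : Subgroup G}
    (mb : Member T m E i L F X) (hone : IsOne T) : PushAmalgam.ShapeOne F p ↥X := by
  rcases mb.shape with ⟨h, -, -⟩ | ⟨-, -, a, b, hab⟩
  · exact h
  refine absurd ?_ hab
  have hB : IsPGroup p ↥(bT T) := T.2.to_le inf_le_left
  have h1 := (CfsgLib.Coprime.commutator_le_frattini hB) (commutator_mem_commutator (mem_top a) (mem_top b))
  have h2 : ⁅⁅a, b⁆, a⁆ = 1 := mem_bot.1 (hone ▸ commutator_mem_commutator h1 (mem_top a))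
  exact (commutatorElement_eq_one_iff_mul_comm.1 h2).symm

namespace Data

variable (d : Data T M m q n r S E)
include d

theorem vQ_le_X {i : Fin r} {L : Subgroup H} {F : Type} [Field F] [Fintype F] {X : Subgroup G}
    (mb : Member T m E i L F X) : vQ p G ≤ X := (d.vQ_le.trans inf_le_left).trans mb.le

variable (hone : IsOne T)
include hone

/-- In a member, `O_p` is moved by the residual only inside `[V, O^p(X)]`, which is `[V, L]`. -/
theorem member_step {i : Fin r} {L : Subgroup H} {F : Type} [Field F] [Fintype F] {X : Subgroup G}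
    (mb : Member T m E i L F X) :
    m.sub (CFun.MinParab.commS U L) = ⁅vQ p G, Cfsg.pResidualOf p X⁆ ∧
      ∀ z : ↥X, z ∈ Cfsg.pCore p ↥X → ∀ x ∈ Cfsg.pResidualOf p X,
        ⁅x, (z : G)⁆ ∈ m.sub (CFun.MinParab.commS U L) := by
  haveI := Glue.Setting.omega_normal (G := G) (p := p)
  haveI := CfsgLib.PushUp.pCore_normal p ↥X
  haveI := CfsgLib.Fusion.pResidual_normal (G := ↥X) (p := p)
  obtain ⟨Y, Y', hY, hY', hcore⟩ := mb.shapeOne hone
  haveI := hY.normal'
  set Vx := (vQ p G).subgroupOf X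
  set D := ⁅Vx, Cfsg.pResidual p ↥X⁆
  have hPc := CfsgLib.Coprime.pCore_isPGroup (G := ↥X) p
  have hV : Vx ≤ Cfsg.pCore p ↥X :=
    CfsgLib.PGroup.le_pCore inferInstance ((T.2.to_le (Glue.Setting.omega_le_pCore.trans pCore_le_T) : IsPGroup p ↥(vQ p G)).comap_of_injective X.subtype X.subtype_injective)
  have hDY : D ≤ Y := (commutator_mono hV le_top).trans hcore
  have hcen : ∀ y ∈ Y', ∀ x : ↥X, ⁅x, y⁆ = 1 := fun y hy x => by
    rw [← commutatorElement_inv y x, inv_eq_one]
    exact mem_bot.1 (hY' ▸ commutator_mem_commutator hy (mem_top x))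
  have hYeq : Y = D ⊔ Y' := by
    rcases hY.between (N := D ⊔ Y') inferInstance le_sup_right (sup_le hDY hY.le) with h | h
    swap
    · exact h.symm
    exfalso
    refine mb.res_not_le_cent (res_le_of fun x hx ho => mem_centralizer_iff.2 fun v hv => ?_)
    have ho' : (orderOf (⟨x, hx⟩ : ↥X)).Coprime p := by rwa [Subgroup.orderOf_mk]
    have hvX : v ∈ X := d.vQ_le_X mb hv
    have h1 : ⁅(⟨v, hvX⟩ : ↥X), (⟨x, hx⟩ : ↥X)⁆ ∈ Y' :=
      h.le (mem_sup_left (commutator_mem_commutator hv (CfsgLib.Fusion.mem_pResidual ho')))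
    have h2 : ⁅(⟨x, hx⟩ : ↥X), (⟨v, hvX⟩ : ↥X)⁆ ∈ Y' := by
      rw [← commutatorElement_inv]; exact inv_mem h1
    have h3 := comm_mem_of_coprime (N := ⊥) hPc (by rw [normalizer_eq_top_iff.2 inferInstance]; trivial)
      (by rw [normalizer_eq_top_iff.2 inferInstance]; trivial) ho' (hY.below (hY.le h2))
      (mem_bot.2 (hcen _ h2 _))
    exact (congrArg Subtype.val (commutatorElement_eq_one_iff_mul_comm.1 (mem_bot.1 h3))).symm
  have hD : ∀ x : ↥X, (orderOf x).Coprime p → ∀ z ∈ Cfsg.pCore p ↥X, ⁅x, z⁆ ∈ D := by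
    intro x hx z hz
    have h1 : ⁅x, z⁆ ∈ Y := by
      rw [← commutatorElement_inv z x]
      exact inv_mem (hcore (commutator_mem_commutator hz (mem_top x)))
    refine comm_mem_of_coprime hPc (by rw [normalizer_eq_top_iff.2 (inferInstance : D.Normal)]; trivial)
      (by rw [normalizer_eq_top_iff.2 (inferInstance : D.Normal)]; trivial) hx (hY.below h1) ?_
    obtain ⟨a, ha, b, hb, hab⟩ := mem_sup_of_normal_right.1 (hYeq.le h1)
    rw [← hab, show ⁅x, a * b⁆ = ⁅x, a⁆ * (a * ⁅x, b⁆ * a⁻¹) by simp only [commutatorElement_def]; group,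
      hcen b hb x, mul_one, mul_inv_cancel, mul_one, commutatorElement_def]
    exact mul_mem (Normal.conj_mem inferInstance a ha x) (inv_mem ha)
  have hmapD : D.map X.subtype = ⁅vQ p G, Cfsg.pResidualOf p X⁆ := by
    rw [map_commutator, show Vx.map X.subtype = vQ p G by
      rw [show Vx = (vQ p G).subgroupOf X from rfl, map_subgroupOf_eq_of_le (d.vQ_le_X mb)]]
    rfl
  have hDle : ⁅vQ p G, Cfsg.pResidualOf p X⁆ ≤ m.sub (CFun.MinParab.commS U L) := commutator_le.2 fun v hv x hx => by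
    rw [← commutatorElement_inv x v]
    exact inv_mem (comm_mem_sub (mb.proj_res_mem hx) hv)
  have heq : m.sub (CFun.MinParab.commS U L) = ⁅vQ p G, Cfsg.pResidualOf p X⁆ := by
    refine le_antisymm ?_ hDle
    intro a ha
    obtain ⟨u, hu, rfl⟩ := m.mem_sub.1 ha
    -- `[V, X] ≤ Y`
    have hVY : ∀ w : U, ∀ y : ↥X, (⟨m.val (proj m (y : G) • w - w),
        d.vQ_le_X mb (m.val_mem _)⟩ : ↥X) ∈ Y := by
      intro w y
      have h1 : ⁅(⟨m.val w, d.vQ_le_X mb (m.val_mem w)⟩ : ↥X), y⁆ ∈ Y :=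
        hcore (commutator_mem_commutator (hV (m.val_mem w)) (mem_top y))
      convert Y.inv_mem h1 using 1
      rw [commutatorElement_inv]
      exact Subtype.ext (val_smul_sub _ _)
    have hgen : ∀ l ∈ L, ∃ y : ↥X, proj m (y : G) = l := fun l hl => by
      obtain ⟨y, hy, hye⟩ := (img_eq_map m X).le (mb.image.ge (mem_sup_left hl))
      exact ⟨⟨y, hy⟩, hye⟩
    have hcY : ∀ c ∈ CFun.MinParab.commS U L, (⟨m.val c, d.vQ_le_X mb (m.val_mem c)⟩ : ↥X) ∈ Y := by
      intro c hc
      induction hc using AddSubgroup.closure_induction with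
      | mem c hc =>
        obtain ⟨l, hl, w, rfl⟩ := hc
        obtain ⟨y, rfl⟩ := hgen l hl
        exact hVY w y
      | zero => exact (Subtype.ext m.val_zero : (⟨m.val 0, _⟩ : ↥X) = 1) ▸ one_mem Y
      | add a b _ _ iha ihb =>
        exact (Subtype.ext (m.val_add a b) : (⟨m.val (a + b), _⟩ : ↥X) = ⟨m.val a, _⟩ * ⟨m.val b, _⟩) ▸
          Y.mul_mem iha ihb
      | neg a _ iha => exact (Subtype.ext (m.val_neg a) : (⟨m.val (-a), _⟩ : ↥X) = ⟨m.val a, _⟩⁻¹) ▸ Y.inv_mem iha
    clear ha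
    induction hu using AddSubgroup.closure_induction with
    | mem c hc =>
      obtain ⟨l, hl, w, rfl⟩ := hc
      obtain ⟨y, rfl⟩ := hgen l hl
      obtain ⟨c, hc, f, hf, rfl⟩ :=
        AddSubgroup.mem_sup.1 (mb.span.ge (AddSubgroup.mem_top w))
      rw [smul_add, mem_fixS.1 hf _ hl, add_sub_add_right_eq_sub, val_smul_sub, ← hmapD]
      refine ⟨⁅y, (⟨m.val c, d.vQ_le_X mb (m.val_mem c)⟩ : ↥X)⁆, ?_, rfl⟩
      obtain ⟨a, ha, b, hb, hab⟩ := mem_sup_of_normal_right.1 (hYeq.le (hcY c hc))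
      rw [← hab, show ⁅y, a * b⁆ = ⁅y, a⁆ * (a * ⁅y, b⁆ * a⁻¹) by simp only [commutatorElement_def]; group,
        hcen b hb y, mul_one, mul_inv_cancel, mul_one, commutatorElement_def]
      exact mul_mem (Normal.conj_mem inferInstance a ha y) (inv_mem ha)
    | zero => rw [m.val_zero]; exact one_mem _
    | add a b ha hb iha ihb => rw [m.val_add]; exact mul_mem iha ihb
    | neg a ha iha => rw [m.val_neg]; exact inv_mem iha
  refine ⟨heq, fun z hz x hx => ?_⟩
  rw [heq, ← hmapD]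
  obtain ⟨x, hx, rfl⟩ := hx
  refine ⟨⁅x, z⁆, ?_, rfl⟩
  haveI : D.Normal := inferInstance
  exact mem_centMod.1 ((closure_le _).2
    (fun y hy => mem_centMod.2 (hD y hy) : {g : ↥X | (orderOf g).Coprime p} ⊆ centMod (Cfsg.pCore p ↥X) D) hx) z hz

/-- `[O_p(G), O^p(G)] ≤ [V, E]`. -/
theorem res_comm_wAll {x z : G} (hx : x ∈ Cfsg.pResidualOf p (⊤ : Subgroup G))
    (hz : z ∈ Cfsg.pCore p G) : ⁅x, z⁆ ∈ wAll m E := by
  haveI := d.q0_normal
  haveI := d.wAll_normal
  haveI := CfsgLib.Coprime.pCore_normal' (G := G) p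
  haveI := centMod_normal (Cfsg.pCore p G) (wAll m E)
  haveI := centMod_normal (q0 T) (wAll m E)
  obtain ⟨i⟩ : Nonempty (Fin r) := ⟨⟨0, d.frame.parts.pos⟩⟩
  obtain ⟨A, L, R, g, F, _, _, X, -, -, mb⟩ := d.exists_member_at i
  have h1 : Cfsg.pResidualOf p X ≤ centMod (q0 T) (wAll m E) := fun y hy => mem_centMod.2 fun a ha => by
    have haX : a ∈ X := mb.le ha.1
    have hqc : (q0 T).subgroupOf X ≤ Cfsg.pCore p ↥X :=
      CfsgLib.PGroup.le_pCore inferInstance (d.q0_pgroup.comap_of_injective X.subtype X.subtype_injective)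
    exact sub_mono (commS_mono (mb.part_le.trans (le_iSup E i)))
      ((d.member_step hone mb).2 ⟨a, haX⟩ (hqc ha) y hy)
  have h2 := d.res_top_le mb h1
  refine mem_centMod.1 ((res_le_of fun y hy ho => mem_centMod.2 fun a ha => ?_ :
    Cfsg.pResidualOf p (⊤ : Subgroup G) ≤ centMod (Cfsg.pCore p G) (wAll m E)) hx) z hz
  have ht : ∀ g : G, g ∈ normalizer (wAll m E : Set G) := fun g => by
    rw [normalizer_eq_top_iff.2 d.wAll_normal]; exact mem_top g
  exact comm_mem_of_coprime d.q0_pgroup (ht _) (ht _) ho (d.pCore_comm_res (mem_res hy ho) ha)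
    (mem_centMod.1 (h2 (mem_res hy ho)) _ (d.pCore_comm_res (mem_res hy ho) ha))

/-- `C_G(V) = O_p(G)`. -/
theorem cent_eq : centralizer (vQ p G : Set G) = Cfsg.pCore p G := by
  haveI := Glue.Setting.omega_normal (G := G) (p := p)
  refine le_antisymm ?_ (le_centralizer_iff.1 Glue.Setting.omega_le_centralizer)
  refine d.mem_pCore_of_cent (CfsgLib.BlockCent.isPGroup_of_coprime fun x hx ho => ?_) le_rfl
  refine CfsgLib.BlockCent.eq_one_of_cent_core d.hyp.char ho fun z hz => ?_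
  have h1 := d.res_comm_wAll hone (mem_res (mem_top x) ho) hz
  have ht : ∀ g : G, g ∈ normalizer ((⊥ : Subgroup G) : Set G) := fun g => by
    rw [normalizer_eq_top_iff.2 inferInstance]; exact mem_top g
  refine commutatorElement_eq_one_iff_mul_comm.1 (mem_bot.1 (comm_mem_of_coprime d.q0_pgroup (ht _) (ht _) ho
    (d.wAll_le_q0 h1) (mem_bot.2 ?_)))
  exact commutatorElement_eq_one_iff_mul_comm.2 (mem_centralizer_iff.1 hx _ (sub_le_vQ _ h1)).symm

theorem proj_eq_one' {x : G} : proj m x = 1 ↔ x ∈ Cfsg.pCore p G := by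
  rw [← d.cent_eq hone]; exact proj_eq_one m

theorem comp_le (i : Fin r) : comp m E i ≤ Cfsg.pResidualOf p (⊤ : Subgroup G) := res_mono le_top

theorem pCore_le_lift (K : Subgroup H) : Cfsg.pCore p G ≤ m.lift K := fun x hx =>
  mem_lift_proj.2 ((d.proj_eq_one' hone).2 hx ▸ one_mem K)

/-- `[O_p(G), comp i] ≤ [V, E i]`. -/
theorem comp_comm (i : Fin r) {x z : G} (hx : x ∈ comp m E i) (hz : z ∈ Cfsg.pCore p G) :
    ⁅x, z⁆ ∈ wPart m E i := by
  have hnQ : ∀ y ∈ Cfsg.pCore p G, y ∈ normalizer (wPart m E i : Set G) := fun y hy =>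
    mem_normalizer_wPart (by rw [(d.proj_eq_one' hone).2 hy]; exact CfsgLib.Fusion.conjBy_one _)
  have hnE : ∀ y ∈ m.lift (E i), y ∈ normalizer (wPart m E i : Set G) := fun y hy =>
    mem_normalizer_wPart (d.parts_conj i (le_iSup E i (mem_lift_proj.1 hy)))
  let K : Subgroup G :=
    { carrier := {y | y ∈ m.lift (E i) ∧ ∀ z ∈ Cfsg.pCore p G, ⁅y, z⁆ ∈ wPart m E i}
      one_mem' := ⟨one_mem _, fun z _ => by rw [commutatorElement_one_left]; exact one_mem _⟩
      mul_mem' := fun {a b} ha hb => ⟨mul_mem ha.1 hb.1, fun z hz => by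
        rw [show ⁅a * b, z⁆ = a * ⁅b, z⁆ * a⁻¹ * ⁅a, z⁆ by simp only [commutatorElement_def]; group]
        exact mul_mem ((mem_normalizer_iff.1 (hnE a ha.1) _).1 (hb.2 z hz)) (ha.2 z hz)⟩
      inv_mem' := fun {a} ha => ⟨inv_mem ha.1, fun z hz => by
        rw [show ⁅a⁻¹, z⁆ = a⁻¹ * ⁅a, z⁆⁻¹ * a⁻¹⁻¹ by simp only [commutatorElement_def]; group]
        exact (mem_normalizer_iff.1 (inv_mem (hnE a ha.1)) _).1 (inv_mem (ha.2 z hz))⟩ }
  have hle : comp m E i ≤ K := res_le_of fun y hy ho => ⟨hy, fun z hz => by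
    have h1 := d.res_comm_wAll hone (mem_res (mem_top y) ho) hz
    exact comm_mem_of_coprime d.q0_pgroup (hnE y hy) (hnQ z hz) ho (d.wAll_le_q0 h1)
      (comm_mem_sub (mem_lift_proj.1 hy) (sub_le_vQ _ h1))⟩
  exact (hle hx).2 z hz

/-- Distinct components commute. -/
theorem comp_com {i j : Fin r} (hij : i ≠ j) : ⁅comp m E i, comp m E j⁆ = ⊥ := by
  rw [commutator_eq_bot_iff_le_centralizer]
  refine res_le_of fun x hx ho => mem_centralizer_iff.2 ?_
  suffices h : comp m E j ≤ centralizer ({x} : Set G) from fun y hy => mem_centralizer_singleton_iff.1 (h hy)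
  refine res_le_of fun y hy ho' => mem_centralizer_singleton_iff.2 ?_
  have hxi := mem_lift_proj.1 hx
  have hyj := mem_lift_proj.1 hy
  have hQ : ⁅x, y⁆ ∈ Cfsg.pCore p G := by
    rw [← d.proj_eq_one' hone, map_commutatorElement, commutatorElement_eq_one_iff_mul_comm]
    exact d.frame.parts.com i j hij _ hxi _ hyj
  have hQp : IsPGroup p ↥(Cfsg.pCore p G) := CfsgLib.Coprime.pCore_isPGroup p
  have hn : ∀ w, proj m w ∈ ⨆ k, E k → w ∈ normalizer (wPart m E j : Set G) := fun w hw =>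
    mem_normalizer_wPart (d.parts_conj j hw)
  have h1 : ⁅y, x⁆ ∈ wPart m E j := by
    have hQ' : ⁅y, x⁆ ∈ Cfsg.pCore p G := by rw [← commutatorElement_inv x y]; exact inv_mem hQ
    exact comm_mem_of_coprime hQp (hn y (le_iSup E j hyj)) (hn x (le_iSup E i hxi)) ho' hQ'
      (d.comp_comm hone j (mem_res hy ho') hQ')
  have h2 : ⁅x, ⁅x, y⁆⁆ = 1 := by
    rw [← commutatorElement_inv y x]
    exact comm_sub_eq_one (d.frame.parts.cross j i (Ne.symm hij)) hxi (inv_mem h1)
  have ht : ∀ g : G, g ∈ normalizer ((⊥ : Subgroup G) : Set G) := fun g => by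
    rw [normalizer_eq_top_iff.2 inferInstance]; exact mem_top g
  exact (commutatorElement_eq_one_iff_mul_comm.1
    (mem_bot.1 (comm_mem_of_coprime hQp (ht _) (ht _) ho hQ (mem_bot.2 h2)))).symm

/-- `[V, comp i] = [V, E i]`. -/
theorem vQ_comp (i : Fin r) : ⁅vQ p G, comp m E i⁆ = wPart m E i := by
  refine le_antisymm (commutator_le.2 fun v hv x hx => ?_) ?_
  · rw [← commutatorElement_inv x v]
    exact inv_mem (comm_mem_sub (mem_lift_proj.1 (res_le _ hx)) hv)
  haveI := Glue.Setting.omega_normal (G := G) (p := p)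
  set D := ⁅vQ p G, comp m E i⁆
  obtain ⟨A, L, R, g, F, _, _, X, hP, -, mb⟩ := d.exists_member_at i
  have hnorm : m.lift (E i) ≤ normalizer (D : Set G) := fun y hy =>
    CfsgLib.BaumannBlock.mem_normalizer_commutator
      (by rw [normalizer_eq_top_iff.2 inferInstance]; exact mem_top y)
      (CfsgLib.Char.TW.normalizer_le_pResidualOf p _ (le_normalizer hy))
  -- the elements moving `U` inside `D`
  let K : Subgroup H :=
    { carrier := {h | h ∈ E i ∧ ∀ u : U, m.val (h • u - u) ∈ D}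
      one_mem' := ⟨one_mem _, fun u => by rw [one_smul, sub_self, m.val_zero]; exact one_mem _⟩
      mul_mem' := fun {a b} ha hb => ⟨mul_mem ha.1 hb.1, fun u => by
        rw [show (a * b) • u - u = (a • b • u - b • u) + (b • u - u) by rw [mul_smul]; abel, m.val_add]
        exact mul_mem (ha.2 _) (hb.2 _)⟩
      inv_mem' := fun {a} ha => ⟨inv_mem ha.1, fun u => by
        rw [show a⁻¹ • u - u = -(a • (a⁻¹ • u) - a⁻¹ • u) by rw [smul_inv_smul]; abel, m.val_neg]
        exact inv_mem (ha.2 _)⟩ }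
  have hLK : L ≤ K := fun l hl => ⟨mb.part_le hl, fun u => by
    have hle : Cfsg.pResidualOf p X ≤ comp m E i := res_le_of fun y hy ho =>
      mem_res (mem_lift_proj.2 (mb.part_le (mb.proj_res_mem (mem_res hy ho)))) ho
    exact commutator_mono le_rfl hle ((d.member_step hone mb).1.le (m.val_mem_sub.2 (sub_mem_commS hl u)))⟩
  have hEK : E i ≤ K := by
    refine d.frame.gen i A hP.root ((le_sup_left.trans hP.gen.le).trans hP.part_le) K fun x hx => ?_
    refine conjBy_le_iff.2 fun a ha => ?_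
    have haK := hLK (hP.gen.le (mem_sup_left ha))
    refine ⟨mul_mem (mul_mem hx haK.1) (inv_mem hx), fun u => ?_⟩
    obtain ⟨y, rfl⟩ := proj_surj m x
    rw [show (proj m y * a * (proj m y)⁻¹) • u - u =
        proj m y • (a • ((proj m y)⁻¹ • u) - (proj m y)⁻¹ • u) by
      rw [smul_sub, smul_inv_smul, mul_smul, mul_smul], val_proj]
    exact (mem_normalizer_iff.1 (hnorm (mem_lift_proj.2 hx)) _).1 (haK.2 _)
  intro a ha
  obtain ⟨u, hu, rfl⟩ := m.mem_sub.1 ha
  clear ha
  induction hu using AddSubgroup.closure_induction with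
  | mem c hc =>
    obtain ⟨h, hh, w, rfl⟩ := hc
    exact (hEK hh).2 w
  | zero => rw [m.val_zero]; exact one_mem _
  | add a b ha hb iha ihb => rw [m.val_add]; exact mul_mem iha ihb
  | neg a ha iha => rw [m.val_neg]; exact inv_mem iha

theorem wPart_le_comp (i : Fin r) : wPart m E i ≤ comp m E i := by
  rw [← d.vQ_comp hone i]
  exact commutator_le.2 fun v hv x hx => CfsgLib.BlockCent.comm_mem_right hx
    (CfsgLib.Char.TW.normalizer_le_pResidualOf p _ (le_normalizer (d.pCore_le_lift hone (E i)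
      (Glue.Setting.omega_le_pCore hv))))

end Data

end CfsgLib.CFun.MinParab.Push
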