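import Cfsg.Agent.Lib.CFun.MinParab.GlueMain
import Cfsg.Agent.Lib.LocalStructure.WeaklyClosed

/-!
# The roots in a `p`-group

In the module of a decomposition `Dec` the roots inside a `p`-subgroup `R` generate an elementary abelian
offender, and an element of `R` fixing its fixed space lies in it. Every exact offender is generated by roots.
-/

set_option autoImplicit false
set_option linter.unusedSectionVars false
set_option linter.style.haveILetI false

open CfsgLib.Char.NatSL (fixS mem_fixS fixS_mono tr mem_tr card_tr smul_mem_tr card_sup_mul_card_inf)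
open CfsgLib.Fusion (conjBy mem_conjBy conj_mem_conjBy conjBy_le_iff conjBy_eq_iff conjBy_conjBy conjBy_mono
  card_conjBy conjBy_inv_conjBy conjBy_conjBy_inv)
open CfsgLib.CFun.OffenderPair (fixS_sup chainStab)

namespace CfsgLib.CFun.MinParab.Push

open Rec Off

variable {H : Type*} [Group H] {V : Type*} [AddCommGroup V] [DistribMulAction H V] {p : ℕ}

/-- The join of the roots inside a subgroup. -/
def rootsIn (V : Type*) [AddCommGroup V] [DistribMulAction H V] (p q : ℕ) (R : Subgroup H) : Subgroup H :=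
  sSup {A | Root V p q A ∧ A ≤ R}

theorem rootsIn_le {q : ℕ} (R : Subgroup H) : rootsIn V p q R ≤ R := sSup_le fun _ h => h.2

theorem le_rootsIn {q : ℕ} {R A : Subgroup H} (h : Root V p q A) (hle : A ≤ R) : A ≤ rootsIn V p q R :=
  le_sSup ⟨h, hle⟩

theorem rootsIn_mono {q : ℕ} {R R' : Subgroup H} (h : R ≤ R') : rootsIn V p q R ≤ rootsIn V p q R' :=
  sSup_le_sSup fun _ hA => ⟨hA.1, hA.2.trans h⟩

/-- The decomposition of a module of a minimal parabolic group. -/
structure Dec (V : Type*) [AddCommGroup V] [DistribMulAction H V] (p q n : ℕ) [Fact p.Prime] (S : Sylow p H)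
    (M : Subgroup H) {r : ℕ} (E : Fin r → Subgroup H) : Prop where
  ctx : Ctx V p S M
  frame : Frame V p q S r E
  one_le : 1 ≤ n
  nat : ∀ i, Glue.PartNat V p q n (E i)

variable [Finite H] [Finite V] [hp : Fact p.Prime] {T : Sylow p H} {M : Subgroup H} {q n r : ℕ}
  {E : Fin r → Subgroup H}

theorem Dec.sys (d : Dec V p q n T M E) : Sys V p q T M := ⟨d.ctx, d.frame.least⟩

/-- Commuting offenders generate an offender. -/
theorem isOff_sup (hc : Ctx V p T M) {X Y : Subgroup H} (hX : IsOff V p X) (hY : IsOff V p Y)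
    (h : ∀ a ∈ X, ∀ b ∈ Y, a * b = b * a) : IsOff V p (X ⊔ Y) := by
  refine ⟨hX.1.sup hY.1 h, ?_⟩
  have hI : El p (X ⊓ Y) := hX.1.mono inf_le_left
  have h1 : Nat.card ↥X * Nat.card ↥Y ≤ Nat.card ↥(X ⊔ Y) * Nat.card ↥(X ⊓ Y) := by
    have e1 : Nat.card ↥(X ⊓ Y) * Y.relIndex X = Nat.card ↥X := by
      rw [← Subgroup.relIndex_bot_left, ← Subgroup.inf_relIndex_left X Y,
        Subgroup.relIndex_mul_relIndex _ _ _ bot_le inf_le_left, Subgroup.relIndex_bot_left]
    have e2 : Nat.card ↥Y * Y.relIndex (X ⊔ Y) = Nat.card ↥(X ⊔ Y) := by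
      rw [← Subgroup.relIndex_bot_left, Subgroup.relIndex_mul_relIndex _ _ _ bot_le le_sup_right,
        Subgroup.relIndex_bot_left]
    have e3 : Y.relIndex X ≤ Y.relIndex (X ⊔ Y) :=
      Subgroup.relIndex_le_of_le_right le_sup_left Subgroup.FiniteIndex.index_ne_zero
    rw [← e1, ← e2]
    calc Nat.card ↥(X ⊓ Y) * Y.relIndex X * Nat.card ↥Y
        = Nat.card ↥Y * Y.relIndex X * Nat.card ↥(X ⊓ Y) := by ring
      _ ≤ _ := Nat.mul_le_mul_right _ (Nat.mul_le_mul_left _ e3)
  have h2 := card_sup_mul_card_inf (fixS V X) (fixS V Y)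
  have h3 : fixS V X ⊔ fixS V Y ≤ fixS V (X ⊓ Y) := sup_le (fixS_mono inf_le_left) (fixS_mono inf_le_right)
  have h4 : Nat.card ↥(X ⊓ Y) * Nat.card ↥(fixS V X ⊔ fixS V Y) ≤ Nat.card V :=
    (Nat.mul_le_mul_left _ (AddSubgroup.card_le_of_le h3)).trans (hc.card_le hI)
  rw [fixS_sup]
  refine Nat.le_of_mul_le_mul_left ((Nat.mul_le_mul hX.2 hY.2).trans ?_) (Nat.card_pos (α := V))
  calc Nat.card ↥X * Nat.card ↥(fixS V X) * (Nat.card ↥Y * Nat.card ↥(fixS V Y))
      = Nat.card ↥X * Nat.card ↥Y * (Nat.card ↥(fixS V X) * Nat.card ↥(fixS V Y)) := by ring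
    _ ≤ Nat.card ↥(X ⊔ Y) * Nat.card ↥(X ⊓ Y) * (Nat.card ↥(fixS V X) * Nat.card ↥(fixS V Y)) :=
        Nat.mul_le_mul_right _ h1
    _ = Nat.card ↥(X ⊓ Y) * Nat.card ↥(fixS V X ⊔ fixS V Y) *
        (Nat.card ↥(X ⊔ Y) * Nat.card ↥(fixS V X ⊓ fixS V Y)) := by rw [← h2]; ring
    _ ≤ _ := Nat.mul_le_mul_right _ h4

theorem isOff_bot : IsOff V p (⊥ : Subgroup H) := by
  refine ⟨⟨fun a ha b hb => by rw [Subgroup.mem_bot.1 ha, Subgroup.mem_bot.1 hb],
    fun a ha => by rw [Subgroup.mem_bot.1 ha, one_pow]⟩, ?_⟩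
  have h : fixS V (⊥ : Subgroup H) = ⊤ :=
    eq_top_iff.2 fun v _ g hg => by rw [Subgroup.mem_bot.1 hg, one_smul]
  rw [h, AddSubgroup.card_top, Subgroup.card_bot, one_mul]

/-- The roots in a `p`-group generate an offender. -/
theorem isOff_rootsIn (hs : Sys V p q T M) {R : Subgroup H} (hR : IsPGroup p R) :
    IsOff V p (rootsIn V p q R) := by
  classical
  set S : Set (Subgroup H) := {A | Root V p q A ∧ A ≤ R}
  have key : ∀ s : Finset (Subgroup H), (∀ A ∈ s, A ∈ S) → IsOff V p (s.sup id) := by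
    intro s
    induction s using Finset.induction_on with
    | empty => intro _; rw [Finset.sup_empty]; exact isOff_bot
    | insert A s _ ih =>
      intro hs'
      rw [Finset.sup_insert]
      have hA := hs' A (Finset.mem_insert_self A s)
      refine isOff_sup hs.ctx ⟨hA.1.el, hA.1.card.symm ▸ hA.1.off⟩
        (ih fun B hB => hs' B (Finset.mem_insert_of_mem hB)) fun a ha b hb => ?_
      have hle : s.sup id ≤ Subgroup.centralizer (A : Set H) := Finset.sup_le fun B hB y hy => by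
        refine Subgroup.mem_centralizer_iff.2 fun x hx => ?_
        have hB' := hs' B (Finset.mem_insert_of_mem hB)
        exact hs.com_in hR hA.1 hB'.1 hA.2 hB'.2 x hx y hy
      exact Subgroup.mem_centralizer_iff.1 (hle hb) a ha
  have h := key (Set.toFinite S).toFinset fun A hA => (Set.Finite.mem_toFinset _).1 hA
  rwa [Finset.sup_id_eq_sSup, Set.Finite.coe_toFinset] at h

namespace Dec

/-- A root inside a component of a linear decomposition contains the `p`-subgroups above it. -/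
theorem eq_root_of_pgroup (d : Dec V p q n T M E) (hq : 2 < q) {i : Fin r} {A X : Subgroup H}
    (hA : Root V p q A) (hAX : A ≤ X) (hX : IsPGroup p X) (hXi : X ≤ E i) : X = A := by
  rcases d.nat i with ⟨-, hqn, hE⟩ | ⟨h, -, -⟩
  · obtain ⟨x, -, hx⟩ := exists_conj_le hE hqn d.one_le hA (hAX.trans hXi) hX hXi
    refine (Subgroup.eq_of_le_of_card_ge hAX ?_).symm
    rw [← card_conjBy x X]
    exact Subgroup.card_le_of_le hx
  · omega

/-- Roots of a common `p`-group with the same commutator space are equal. -/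
theorem eq_of_commS (d : Dec V p q n T M E) {R A B : Subgroup H} (hR : IsPGroup p R) (hA : Root V p q A)
    (hB : Root V p q B) (hAR : A ≤ R) (hBR : B ≤ R) (h : commS V A = commS V B) : A = B := by
  classical
  obtain ⟨i, hi⟩ := d.frame.covered A hA
  rcases d.frame.least.two_le.eq_or_lt with rfl | hq
  · obtain ⟨a, ha, ha1⟩ := hA.exists_ne_one d.frame.least
    obtain ⟨b, hb, hb1⟩ := hB.exists_ne_one d.frame.least
    have hat : a ∈ Tv V p := by show Root V p 2 (Subgroup.zpowers a); rw [hA.eq_zpowers ha ha1]; exact hA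
    have hbt : b ∈ Tv V p := by show Root V p 2 (Subgroup.zpowers b); rw [hB.eq_zpowers hb hb1]; exact hB
    have hle : commS V B ≤ AddSubgroup.zmultiples (xc V b) := commS_le_iff.2 fun g hg v => by
      by_cases hg1 : g = 1
      · rw [hg1, one_smul, sub_self]; exact zero_mem _
      rw [← hB.eq_zpowers hb hb1] at hg
      obtain ⟨k, rfl⟩ := Subgroup.mem_zpowers_iff.1 hg
      have hk : b ^ k = b := by
        rw [← zpow_mod_orderOf, Tv.orderOf hbt]
        rcases Int.emod_two_eq k with e | e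
        · exfalso
          refine hg1 ?_
          rw [← zpow_mod_orderOf, Tv.orderOf hbt]
          simp [e]
        · simp [e]
      rw [hk]
      rcases d.sys.step hbt v with e | e
      · rw [e, sub_self]; exact zero_mem _
      · rw [e, add_sub_cancel_left]; exact AddSubgroup.mem_zmultiples _
    obtain ⟨v, hv⟩ := d.sys.exists_moved_tv (V := V) hat
    have h1 : xc V a ∈ AddSubgroup.zmultiples (xc V b) :=
      hle (h ▸ d.sys.sub_eq_xc hat hv ▸ sub_mem_commS ha v)
    obtain ⟨k, hk⟩ := AddSubgroup.mem_zmultiples_iff.1 h1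
    have hab : a = b := by
      refine d.sys.xc_inj hat hbt ?_
      rcases Int.even_or_odd' k with ⟨l, rfl | rfl⟩
      · exfalso
        refine d.sys.xc_ne hat ?_
        rw [← hk, mul_zsmul, two_zsmul, d.sys.two hbt]
      · rw [← hk, add_zsmul, mul_zsmul, two_zsmul, d.sys.two hbt, zero_add, one_zsmul]
    rw [← hA.eq_zpowers ha ha1, hab, hB.eq_zpowers hb hb1]
  obtain ⟨j, hj⟩ := d.frame.covered B hB
  by_cases hij : j = i
  · subst hij
    have hX : IsPGroup p (A ⊔ B : Subgroup H) := hR.to_le (sup_le hAR hBR)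
    have h1 := d.eq_root_of_pgroup hq hA le_sup_left hX (sup_le hi hj)
    exact (Subgroup.eq_of_le_of_card_ge (h1 ▸ le_sup_right : B ≤ A) (by rw [hA.card, hB.card])).symm
  · exfalso
    refine hB.ne_bot d.frame.least ((Subgroup.eq_bot_iff_forall B).2 fun b hb => d.ctx.faith b fun v => ?_)
    refine d.frame.nofix j b (hj hb) (hB.el.pow b hb) v ?_
    exact (MinParab.commS_mono (V := V) hi).trans (d.frame.parts.cross i j (Ne.symm hij)) (h ▸ sub_mem_commS hb v)

/-- An element of the `p`-group fixing the fixed space of its roots is in their join. -/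
theorem mem_rootsIn (d : Dec V p q n T M E) {R : Subgroup H} (hR : IsPGroup p R) {x : H} (hxR : x ∈ R)
    (hx : ∀ v ∈ fixS V (rootsIn V p q R), x • v = v) : x ∈ rootsIn V p q R := by
  classical
  have hs := d.sys
  set A₀ := rootsIn V p q R
  have hzR : Subgroup.zpowers x ≤ R := Subgroup.zpowers_le.2 hxR
  have hfix : ∀ y ∈ Subgroup.zpowers x, ∀ v ∈ fixS V A₀, y • v = v := fun y hy v hv =>
    MulAction.mem_stabilizer_iff.1
      ((Subgroup.zpowers_le.2 (show x ∈ MulAction.stabilizer H v from hx v hv)) hy)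
  -- `x` fixes the commutators of every root
  have hW : ∀ A, Root V p q A → A ≤ R → ∀ y ∈ Subgroup.zpowers x, ∀ w ∈ commS V A, y • w = w := by
    intro A hA hAR y hy w hw
    refine hfix y hy w fun g hg => ?_
    have hle : A₀ ≤ MulAction.stabilizer H w := sSup_le fun B hB b hb =>
      hs.le_of_com hA hB.1 (hs.com_in hR hA hB.1 hAR hB.2) hw b hb
    exact hle hg
  -- so it normalizes every root
  have hnorm : ∀ A, Root V p q A → A ≤ R → ∀ y ∈ Subgroup.zpowers x, conjBy y A = A := by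
    intro A hA hAR y hy
    have h1 : conjBy y A ≤ R := conjBy_le_iff.2 fun b hb =>
      R.mul_mem (R.mul_mem (hzR hy) (hAR hb)) (R.inv_mem (hzR hy))
    refine d.eq_of_commS hR (hA.conj y) hA h1 hAR ?_
    rw [commS_conjBy]
    ext w
    rw [mem_tr]
    refine ⟨fun h => ?_, fun h => by rw [hW A hA hAR _ (inv_mem hy) w h]; exact h⟩
    have h2 := hW A hA hAR y hy _ h
    rw [smul_inv_smul] at h2
    exact h2 ▸ h
  -- and moves each vector only inside the fixed space of each root
  have hmove : ∀ A, Root V p q A → A ≤ R → ∀ v : V, x • v - v ∈ fixS V A := by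
    intro A hA hAR v
    have hn : Subgroup.zpowers x ≤ Subgroup.normalizer (A : Set H) := fun y hy =>
      conjBy_eq_iff.1 (hnorm A hA hAR y hy)
    obtain ⟨a, ha, ha1⟩ : ∃ a ∈ A ⊓ Subgroup.centralizer (Subgroup.zpowers x : Set H), a ≠ 1 := by
      by_contra! hh
      exact CfsgLib.LS.exists_fixed_ne_one hA.el.pgroup (hA.ne_bot d.frame.least) (hR.to_le hzR) hn
        ((Subgroup.eq_bot_iff_forall _).2 hh)
    refine hs.sep hA ha.1 ha1 ?_
    have hcom : x * a = a * x := Subgroup.mem_centralizer_iff.1 ha.2 x (Subgroup.mem_zpowers x)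
    have h1 := hW A hA hAR x (Subgroup.mem_zpowers x) _ (sub_mem_commS ha.1 v)
    rw [smul_sub, ← mul_smul, hcom, mul_smul] at h1
    rw [smul_sub]
    linear_combination (norm := abel) h1
  have hall : ∀ v : V, x • v - v ∈ fixS V A₀ := by
    intro v g hg
    have hle : A₀ ≤ MulAction.stabilizer H (x • v - v) := sSup_le fun B hB b hb => hmove B hB.1 hB.2 v b hb
    exact hle hg
  have hxp : x ^ p = 1 := by
    refine d.ctx.faith _ fun v => ?_
    have hk : ∀ k : ℕ, x ^ k • v = v + k • (x • v - v) := fun k => by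
      induction k with
      | zero => simp
      | succ k ih =>
        rw [pow_succ', mul_smul, ih, smul_add, smul_comm x k (x • v - v), hx _ (hall v), succ_nsmul]
        abel
    rw [hk, d.ctx.vp, add_zero]
  have hcomA : ∀ A, Root V p q A → A ≤ R → ∀ a ∈ A, x * a = a * x := by
    intro A hA hAR a ha
    refine inv_mul_eq_one.1 (d.ctx.faith _ fun v => ?_)
    rw [mul_smul, inv_smul_eq_iff, mul_smul, mul_smul]
    have e1 := hW A hA hAR x (Subgroup.mem_zpowers x) _ (sub_mem_commS ha v)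
    have e2 := hmove A hA hAR v a ha
    rw [smul_sub] at e1 e2
    linear_combination (norm := abel) e2 - e1
  have hcom0 : ∀ a ∈ A₀, ∀ b ∈ Subgroup.zpowers x, a * b = b * a := by
    intro a ha b hb
    have hle : A₀ ≤ Subgroup.centralizer ({x} : Set H) := sSup_le fun B hB b hb =>
      Subgroup.mem_centralizer_singleton_iff.2 (hcomA B hB.1 hB.2 b hb).symm
    obtain ⟨k, rfl⟩ := Subgroup.mem_zpowers_iff.1 hb
    exact (Commute.zpow_right (Subgroup.mem_centralizer_singleton_iff.1 (hle ha)) k).eq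
  have hoff := isOff_rootsIn hs hR
  have hzel : El p (Subgroup.zpowers x) := by
    refine ⟨fun a ha b hb => ?_, fun a ha => ?_⟩
    · obtain ⟨i, rfl⟩ := Subgroup.mem_zpowers_iff.1 ha
      obtain ⟨j, rfl⟩ := Subgroup.mem_zpowers_iff.1 hb
      exact (Commute.refl x).zpow_zpow i j
    · obtain ⟨i, rfl⟩ := Subgroup.mem_zpowers_iff.1 ha
      rw [← zpow_natCast, ← zpow_mul, mul_comm, zpow_mul, zpow_natCast, hxp, one_zpow]
  have hel : El p (A₀ ⊔ Subgroup.zpowers x) := hoff.1.sup hzel hcom0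
  have hfs : fixS V A₀ ≤ fixS V (A₀ ⊔ Subgroup.zpowers x) := by
    rw [fixS_sup]
    exact le_inf le_rfl fun v hv y hy => hfix y hy v hv
  have h1 := Subgroup.eq_of_le_of_card_ge (le_sup_left : A₀ ≤ A₀ ⊔ Subgroup.zpowers x)
    (Nat.le_of_mul_le_mul_right (((Nat.mul_le_mul_left _ (AddSubgroup.card_le_of_le hfs)).trans
      (d.ctx.card_le hel)).trans hoff.2) Nat.card_pos)
  exact h1.ge (Subgroup.mem_sup_right (Subgroup.mem_zpowers x))

/-- An exact offender inside a symmetric component is generated by roots. -/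
theorem le_rootsIn_comp (d : Dec V p q n T M E) (hq : q = 2) {i : Fin r} {X A : Subgroup H}
    (hX : IsOff V p X) (hA : Root V p q A) (hAX : A ≤ X) (hXi : X ≤ E i) :
    ∃ X' : Subgroup H, X' ≤ X ∧ IsOff V p X' ∧ X ≤ A ⊔ X' ∧ X' ≠ X := by
  classical
  subst hq
  obtain ⟨θ, ψ, hsum, hev, hker, heqv⟩ : IsPermNat V n (E i) := by
    rcases d.nat i with ⟨h, -, -⟩ | ⟨-, -, h⟩
    · omega
    · exact h
  have hk : Odd (2 ^ n + 1) :=
    ⟨2 ^ (n - 1), by rw [← pow_succ', show n - 1 + 1 = n by have := d.one_le; omega]⟩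
  obtain ⟨t, ht, ht1⟩ := hA.exists_ne_one d.frame.least
  have htv : t ∈ Tv V p := by show Root V p 2 (Subgroup.zpowers t); rw [hA.eq_zpowers ht ht1]; exact hA
  have hp2 : p = 2 := d.sys.p_eq_two hA
  have htE : t ∈ E i := hXi (hAX ht)
  set σ := θ ⟨t, htE⟩
  have hinv : ∀ {e : H} (he : e ∈ E i), e ^ p = 1 → (θ ⟨e, he⟩)⁻¹ = θ ⟨e, he⟩ := fun {e} he hep => by
    refine inv_eq_of_mul_eq_one_right ?_
    rw [← map_mul, ← map_one θ]
    refine congrArg θ (Subtype.ext ?_)
    show e * e = 1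
    rw [← pow_two, ← hp2, hep]
  have hti : σ⁻¹ = σ := hinv htE (hX.1.pow t (hAX ht))
  obtain ⟨a, b, hab, hσ⟩ : ∃ a b, a ≠ b ∧ σ = Equiv.swap a b := by
    refine exists_eq_swap hk (by nth_rw 1 [← hti]; exact inv_mul_cancel σ) (fun h => ht1 ?_)
      fun w w' hw hw' hwne hw'ne j => ?_
    · exact congrArg Subtype.val (θ.injective (h.trans (map_one θ).symm))
    obtain ⟨v, rfl⟩ := hev w hw
    obtain ⟨v', rfl⟩ := hev w' hw'
    have key : ∀ u : V, (fun l => ψ u (σ l)) ≠ ψ u → ψ (t • u) j + ψ u j = ψ (xc V t) j := by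
      intro u hu
      rcases d.sys.step htv u with h | h
      · refine absurd (funext fun l => ?_) hu
        have h1 := heqv ⟨t, htE⟩ u l
        rw [h, hti] at h1
        exact h1.symm
      · rw [h, map_add, Pi.add_apply, add_comm (ψ u j), add_assoc, CharTwo.add_self_eq_zero, add_zero]
    have e1 := key v hwne
    have e2 := key v' hw'ne
    rw [heqv ⟨t, htE⟩, hti] at e1 e2
    rw [e1, e2]
  let ev : H → Fin (2 ^ n + 1) → Fin (2 ^ n + 1) := fun x c => if hx : x ∈ E i then θ ⟨x, hx⟩ c else c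
  let X' : Subgroup H :=
    { carrier := {x | x ∈ X ∧ ev x a = a}
      one_mem' := ⟨one_mem _, by
        simp only [ev, one_mem, dite_true]
        rw [show (⟨1, (E i).one_mem⟩ : ↥(E i)) = 1 from rfl, map_one]; rfl⟩
      mul_mem' := fun {x y} hx hy => ⟨mul_mem hx.1 hy.1, by
        have e1 := hx.2
        have e2 := hy.2
        simp only [ev, hXi hx.1, hXi hy.1, mul_mem (hXi hx.1) (hXi hy.1), dite_true] at e1 e2 ⊢
        rw [show (⟨x * y, _⟩ : ↥(E i)) = ⟨x, hXi hx.1⟩ * ⟨y, hXi hy.1⟩ from rfl, map_mul,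
          Equiv.Perm.mul_apply, e2, e1]⟩
      inv_mem' := fun {x} hx => ⟨inv_mem hx.1, by
        have e1 := hx.2
        simp only [ev, hXi hx.1, inv_mem (hXi hx.1), dite_true] at e1 ⊢
        rw [show (⟨x⁻¹, _⟩ : ↥(E i)) = (⟨x, hXi hx.1⟩ : ↥(E i))⁻¹ from rfl, map_inv]
        exact Equiv.Perm.inv_eq_iff_eq.2 e1.symm⟩ }
  have hmem : ∀ x (hx : x ∈ X), x ∈ X' ↔ θ ⟨x, hXi hx⟩ a = a := fun x hx =>
    ⟨fun h => by have e := h.2; simp only [ev, hXi hx, dite_true] at e; exact e,
      fun h => ⟨hx, by simp only [ev, hXi hx, dite_true]; exact h⟩⟩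
  have hX'X : X' ≤ X := fun x hx => hx.1
  have hcomt : ∀ x (hx : x ∈ X), θ ⟨x, hXi hx⟩ * σ = σ * θ ⟨x, hXi hx⟩ := fun x hx => by
    rw [← map_mul, ← map_mul]
    exact congrArg θ (Subtype.ext (hX.1.comm x hx t (hAX ht)))
  -- the images of `a` and `b`
  have hpair : ∀ x (hx : x ∈ X), (θ ⟨x, hXi hx⟩ a = a ∧ θ ⟨x, hXi hx⟩ b = b) ∨ θ ⟨x, hXi hx⟩ a = b := by
    intro x hx
    set τ := θ ⟨x, hXi hx⟩
    have h := DFunLike.congr_fun (hcomt x hx) a
    rw [hσ, Equiv.Perm.mul_apply, Equiv.Perm.mul_apply, Equiv.swap_apply_left] at h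
    by_cases e : τ a = b
    · exact Or.inr e
    refine Or.inl ?_
    by_cases e' : τ a = a
    · rw [e', Equiv.swap_apply_left] at h; exact ⟨e', h⟩
    rw [Equiv.swap_apply_of_ne_of_ne e' e] at h
    exact absurd (τ.injective h) hab.symm
  have hsupX : X ≤ A ⊔ X' := by
    intro x hx
    rcases hpair x hx with ⟨h, -⟩ | h
    · exact Subgroup.mem_sup_right ((hmem x hx).2 h)
    · have htx : t * x ∈ X' := by
        refine (hmem _ (mul_mem (hAX ht) hx)).2 ?_
        rw [show (⟨t * x, _⟩ : ↥(E i)) = ⟨t, htE⟩ * ⟨x, hXi hx⟩ from rfl, map_mul, Equiv.Perm.mul_apply, h]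
        show σ b = a
        rw [hσ, Equiv.swap_apply_right]
      have := mul_mem (Subgroup.mem_sup_left (inv_mem ht) : t⁻¹ ∈ A ⊔ X') (Subgroup.mem_sup_right htx)
      rwa [inv_mul_cancel_left] at this
  have htX' : t ∉ X' := fun h => by
    have h1 := (hmem t (hAX ht)).1 h
    rw [show θ ⟨t, hXi (hAX ht)⟩ = σ from rfl, hσ, Equiv.swap_apply_left] at h1
    exact hab h1.symm
  have hX'el : El p X' := hX.1.mono hX'X
  refine ⟨X', hX'X, ⟨hX'el, ?_⟩, hsupX, fun h => htX' (h.ge (hAX ht))⟩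
  -- a vector fixed by `X'` and moved by `t`
  obtain ⟨v, hv⟩ := hev (coAtom b) (sum_coAtom hk b)
  have hvX' : v ∈ fixS V X' := by
    intro x hx
    refine d.frame.nofix i x (hXi hx.1) (hX.1.pow x hx.1) v ((hker _).1 (funext fun c => ?_))
    rw [map_sub, Pi.sub_apply, Pi.zero_apply, sub_eq_zero, heqv ⟨x, hXi hx.1⟩, hv,
      hinv (hXi hx.1) (hX.1.pow x hx.1)]
    have hb : θ ⟨x, hXi hx.1⟩ b = b := by
      rcases hpair x hx.1 with ⟨-, h⟩ | h
      · exact h
      · exact absurd ((hmem x hx.1).1 hx ▸ h : a = b) hab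
    by_cases hc : c = b
    · rw [hc, hb]
    · have hne : θ ⟨x, hXi hx.1⟩ c ≠ b := fun e => hc ((θ ⟨x, hXi hx.1⟩).injective (e.trans hb.symm))
      simp [coAtom, hc, hne]
  have hvX : v ∉ fixS V X := fun h => by
    have h1 := heqv ⟨t, htE⟩ v a
    rw [show ((⟨t, htE⟩ : ↥(E i)) : H) • v = v from h t (hAX ht), hti, hv, hσ,
      Equiv.swap_apply_left] at h1
    simp [coAtom, hab] at h1
  have hcardfix : 2 * Nat.card ↥(fixS V X) ≤ Nat.card ↥(fixS V X') := by
    have hle : fixS V X ≤ fixS V X' := fixS_mono hX'X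
    obtain ⟨c, hc⟩ := AddSubgroup.card_dvd_of_le hle
    have hlt : Nat.card ↥(fixS V X) < Nat.card ↥(fixS V X') := by
      refine lt_of_le_of_ne (AddSubgroup.card_le_of_le hle) fun e => hvX ?_
      rw [AddSubgroup.eq_of_le_of_card_ge hle e.ge]
      exact hvX'
    have hc2 : 2 ≤ c := by
      by_contra hh
      have : c = 0 ∨ c = 1 := by omega
      rcases this with rfl | rfl <;> omega
    calc 2 * Nat.card ↥(fixS V X) = Nat.card ↥(fixS V X) * 2 := mul_comm _ _
      _ ≤ _ := hc ▸ Nat.mul_le_mul_left _ hc2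
  have hcardX : Nat.card ↥X ≤ 2 * Nat.card ↥X' := by
    refine (Subgroup.card_le_of_le hsupX).trans ((card_sup_le ?_).trans_eq ?_)
    · exact fun x hx y hy => hX.1.comm x (hAX hx) y (hX'X hy)
    · rw [hA.card]
  calc Nat.card V ≤ Nat.card ↥X * Nat.card ↥(fixS V X) := hX.2
    _ ≤ 2 * Nat.card ↥X' * Nat.card ↥(fixS V X) := Nat.mul_le_mul_right _ hcardX
    _ = Nat.card ↥X' * (2 * Nat.card ↥(fixS V X)) := by ring
    _ ≤ _ := Nat.mul_le_mul_left _ hcardfix

/-- An exact offender is generated by roots. -/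
theorem le_rootsIn_self (d : Dec V p q n T M E) :
    ∀ (m : ℕ) (X : Subgroup H), Nat.card ↥X ≤ m → IsOff V p X → X ≤ rootsIn V p q X := by
  intro m
  induction m with
  | zero => exact fun X h => absurd h (not_le.2 Nat.card_pos)
  | succ m ih =>
    intro X hm hX
    by_cases hne : X = ⊥
    · conv_lhs => rw [hne]
      exact bot_le
    have hsmall : ∀ Y, Y ≤ X → Y ≠ X → IsOff V p Y → Y ≤ rootsIn V p q X := fun Y hY hne hoff =>
      (ih Y (Nat.lt_succ_iff.1 ((lt_of_le_of_ne (Subgroup.card_le_of_le hY) fun e =>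
        hne (Subgroup.eq_of_le_of_card_ge hY e.ge)).trans_le hm)) hoff).trans (rootsIn_mono hY)
    obtain ⟨A, hAX, hA⟩ := d.frame.exists_root_le d.ctx hX hne
    obtain ⟨i, hi⟩ := d.frame.covered A hA
    have hin : X ≤ d.frame.inner i := (d.frame.le_iSup d.ctx _ X le_rfl hX).trans (d.frame.iSup_le_inner i)
    obtain ⟨P, X', hPX, hPi, hPoff, hX'X, hX'off, hsup, hfix, -⟩ := d.frame.split_step d.ctx i hX hin
    have hX'ne : X' ≠ X := fun e => hA.ne_bot d.frame.least ((Subgroup.eq_bot_iff_forall A).2 fun a ha =>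
      d.frame.eq_one d.ctx (hi ha) (hfix a (e.ge (hAX ha))))
    refine hsup.trans (sup_le ?_ (hsmall X' hX'X hX'ne hX'off))
    by_cases hPX' : P = X
    swap
    · exact hsmall P hPX hPX' hPoff
    rcases d.frame.least.two_le.eq_or_lt with hq | hq
    · obtain ⟨X₁, hX₁, hX₁off, hle, hne₁⟩ := d.le_rootsIn_comp hq.symm hX hA hAX (hPX' ▸ hPi)
      exact hPX.trans (hle.trans (sup_le (le_rootsIn hA hAX) (hsmall X₁ hX₁ hne₁ hX₁off)))
    · have h1 := d.eq_root_of_pgroup hq hA hAX hX.1.pgroup (hPX' ▸ hPi)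
      exact hPX.trans (h1.le.trans (le_rootsIn hA hAX))

/-- Every exact offender in `R` lies in the join of the roots of `R`. -/
theorem offender_le (d : Dec V p q n T M E) {R X : Subgroup H} (hX : IsOff V p X) (hXR : X ≤ R) :
    X ≤ rootsIn V p q R :=
  (d.le_rootsIn_self _ X le_rfl hX).trans (rootsIn_mono hXR)

end Dec

end CfsgLib.CFun.MinParab.Push
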