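import Cfsg.Agent.Lib.CFun.MinParab.Push.Defs
import Cfsg.Agent.Lib.CFun.MinParab.Push.Trans
import Cfsg.Agent.Lib.Coprime.Action
import Cfsg.Agent.Lib.LocalStructure.BaumannNormal

/-!
# Pushing up: the Baumann lemma

The elementary abelian subgroups of largest order of `T` are exact offenders on `V = Ω₁ Z(O_p(G))`, so
`V` lies in `J(T)`, `W₀ = Ω₁ Z(J(T))` lies in `O_p(G)`, `W₀ V` is normal and the image of the Baumann subgroup
is the product of the roots of the image of `T`.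
-/

set_option autoImplicit false
set_option linter.unusedSectionVars false
set_option linter.style.haveILetI false

open Subgroup
open CfsgLib.Char.NatSL (fixS mem_fixS)
open CfsgLib.Fusion (conjBy mem_conjBy conj_mem_conjBy conjBy_le_iff conjBy_eq_iff IsMaxEA)
open scoped commutatorElement IsMulCommutative

namespace CfsgLib.CFun.MinParab.Push

open Rec Off

universe u v w

variable {G : Type u} [Group G] [Finite G] {p : ℕ} [hp : Fact p.Prime] {T : Sylow p G}

theorem thompson_map_top :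
    Cfsg.thompsonSubgroupOf p (bT T) = Cfsg.thompsonSubgroupOf p (T : Subgroup G) := by
  obtain ⟨g, -, h, -⟩ := CfsgLib.BaumannNormal.thompson_eq_and_normalizer T
    (T.2.to_le (inf_le_left : bT T ≤ (T : Subgroup G))) (CfsgLib.BaumannNormal.thompson_le_baumann _)
  exact h

/-- A characteristic subgroup of the Baumann subgroup is normalized by `T`. -/
theorem sylow_le_normalizer_char {C : Subgroup G} (hC : C ≤ bT T)
    (hchar : (C.subgroupOf (bT T)).Characteristic) :
    (T : Subgroup G) ≤ normalizer (C : Set G) := by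
  intro t ht
  have htB : t ∈ normalizer (bT T : Set G) := CfsgLib.BaumannNormal.le_normalizer_baumann T T.2 inf_le_left ht
  refine conjBy_eq_iff.1 (CfsgLib.Fusion.conjBy_eq_of_le ?_)
  haveI := hchar
  have h := Subgroup.characteristic_iff_map_eq.1 hchar ((bT T).normalizerMonoidHom ⟨t, htB⟩)
  rintro _ ⟨x, hx, rfl⟩
  have h2 : (bT T).normalizerMonoidHom ⟨t, htB⟩ ⟨x, hC hx⟩ ∈ C.subgroupOf (bT T) := h.le ⟨⟨x, hC hx⟩, hx, rfl⟩
  exact h2

theorem Hyp.sylow_ne_bot (hh : Hyp p T) : (T : Subgroup G) ≠ ⊥ := fun h =>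
  hh.moved (by
    have h1 : Cfsg.omegaOneCenter p (T : Subgroup G) = ⊥ :=
      le_bot_iff.1 (((CfsgLib.LS.omegaOne_le_self _).trans inf_le_left).trans h.le)
    rw [h1]
    infer_instance)

theorem thompson_char :
    ((Cfsg.thompsonSubgroupOf p (T : Subgroup G)).subgroupOf (bT T)).Characteristic := by
  rw [← thompson_map_top, Cfsg.thompsonSubgroupOf, Subgroup.subgroupOf,
    comap_map_eq_self_of_injective (bT T).subtype_injective]
  refine characteristic_iff_map_le.2 fun φ => ?_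
  rw [map_le_iff_le_comap, Cfsg.thompsonSubgroup]
  refine sSup_le fun A hA => map_le_iff_le_comap.1 ?_
  refine le_sSup ⟨CfsgLib.Fusion.isElementaryAbelian_map _ hA.1, fun B hB => ?_⟩
  rw [card_map_of_injective (f := φ.toMonoidHom) φ.injective]
  exact hA.2 B hB

/-- `C**(G, T) ≠ G`. -/
theorem Hyp.exists_setting (hh : Hyp p T) : ∃ M, Glue.Setting G p T M := by
  obtain ⟨M, hM, hu⟩ := (hh.min T).2
  have honly := CfsgLib.LS.onlyMax_of_unique hM ⟨M, hM, hu⟩
  refine ⟨M, hh.char, honly, (hh.min T).1, fun htop => honly.1.1 (top_le_iff.1 (htop ▸ sup_le ?_ ?_))⟩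
  · refine honly.2.2 _ (le_centralizer_iff.2 ((CfsgLib.LS.omegaOne_le_self _).trans inf_le_right)) fun h => ?_
    refine hh.moved ⟨fun z hz g => ?_⟩
    rw [← mem_centralizer_iff.1 (h.ge (mem_top g)) z hz, mul_inv_cancel_right]
    exact hz
  · refine honly.2.2 _ ?_ fun h => ?_
    · exact Subgroup.le_normalizer.trans (CfsgLib.Fusion.normalizer_le_normalizer_thompsonSubgroupOf _)
    · exact hh.noChar _ (CfsgLib.BaumannNormal.thompson_le_baumann _)
        (CfsgLib.Fusion.thompsonSubgroupOf_ne_bot T.2 hh.sylow_ne_bot) thompson_char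
        (normalizer_eq_top_iff.1 h)

variable {M : Subgroup G}

theorem pCore_le_T : Cfsg.pCore p G ≤ (T : Subgroup G) := CfsgLib.Coprime.pCore_le_sylow T

theorem inf_cent (hs : Glue.Setting G p T M) :
    (T : Subgroup G) ⊓ centralizer (vQ p G : Set G) = Cfsg.pCore p G := by
  haveI := Glue.Setting.omega_normal (G := G) (p := p)
  refine le_antisymm ?_ (le_inf pCore_le_T (le_centralizer_iff.1 Glue.Setting.omega_le_centralizer))
  exact CfsgLib.LS.inf_le_pCore_of_normal_le T hs.only _ (hs.centralizer_le.1.trans hs.centralizer_le.2)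

theorem w0_ea : Cfsg.IsElementaryAbelian p (w0 T) := CfsgLib.LS.omegaOne_center_ea _

theorem w0_le_J : w0 T ≤ Cfsg.thompsonSubgroupOf p (T : Subgroup G) :=
  (CfsgLib.LS.omegaOne_le_self _).trans inf_le_left

theorem w0_le_cent : w0 T ≤ centralizer (Cfsg.thompsonSubgroupOf p (T : Subgroup G) : Set G) :=
  (CfsgLib.LS.omegaOne_le_self _).trans inf_le_right

theorem mem_w0 {z : G} (hJ : z ∈ Cfsg.thompsonSubgroupOf p (T : Subgroup G))
    (hc : z ∈ centralizer (Cfsg.thompsonSubgroupOf p (T : Subgroup G) : Set G)) (hz : z ^ p = 1) : z ∈ w0 T :=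
  subset_closure ⟨mem_inf.2 ⟨hJ, hc⟩, hz⟩

/-- A maximal elementary abelian subgroup contains what it centralizes of order `p`. -/
theorem mem_of_maxEA {D A : Subgroup G} (hA : IsMaxEA p D A) {z : G} (hzD : z ∈ D) (hz : z ^ p = 1)
    (hc : ∀ a ∈ A, z * a = a * z) : z ∈ A := by
  have hel : Cfsg.IsElementaryAbelian p (zpowers z) := by
    refine ⟨⟨⟨?_⟩⟩, fun a ha => ?_⟩
    · rintro ⟨a, ha⟩ ⟨b, hb⟩
      obtain ⟨i, rfl⟩ := mem_zpowers_iff.1 ha
      obtain ⟨j, rfl⟩ := mem_zpowers_iff.1 hb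
      exact Subtype.ext ((Commute.refl z).zpow_zpow i j).eq
    · obtain ⟨i, rfl⟩ := mem_zpowers_iff.1 ha
      rw [← zpow_natCast, ← zpow_mul, mul_comm, zpow_mul, zpow_natCast, hz, one_zpow]
  have h := CfsgLib.EABasic.isElementaryAbelian_sup hA.2.1 hel fun a ha b hb => by
    obtain ⟨i, rfl⟩ := mem_zpowers_iff.1 hb
    exact (Commute.zpow_right (show Commute a z from (hc a ha).symm) i).eq
  have h1 := eq_of_le_of_card_ge (le_sup_left : A ≤ A ⊔ zpowers z)
    (hA.2.2 _ (sup_le hA.1 (zpowers_le.2 hzD)) h)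
  exact h1.ge (mem_sup_right (mem_zpowers z))

variable {H : Type v} [Group H] [Finite H] {U : Type w} [AddCommGroup U] [Finite U] [DistribMulAction H U]
  (m : Glue.Mdl (vQ p G) ⊤ H U)

theorem img_mono {X Y : Subgroup G} (h : X ≤ Y) : img m X ≤ img m Y :=
  Subgroup.map_mono (Subgroup.comap_mono h)

theorem mem_img {X : Subgroup G} {h : H} : h ∈ img m X ↔ ∃ x ∈ X, m.π ⟨x, mem_top x⟩ = h :=
  ⟨fun ⟨x, hx, e⟩ => ⟨x, hx, e⟩, fun ⟨x, hx, e⟩ => ⟨⟨x, mem_top x⟩, hx, e⟩⟩

/-- The exchange of a maximal elementary abelian subgroup of `T` with one containing `V`. -/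
theorem exists_exchange (m : Glue.Mdl (vQ p G) ⊤ H U) (hs : Glue.Setting G p T M) {A : Subgroup G} (hA : IsMaxEA p (T : Subgroup G) A) :
    ∃ A' : Subgroup G, IsMaxEA p (T : Subgroup G) A' ∧ IsMaxEA p (Cfsg.pCore p G) A' ∧ vQ p G ≤ A' ∧
      A' = (A ⊓ centralizer (vQ p G : Set G)) ⊔ vQ p G := by
  haveI := Glue.Setting.omega_normal (G := G) (p := p)
  obtain ⟨S, N, -, -, hc, -⟩ := hs.ctx m
  set C := A ⊓ centralizer (vQ p G : Set G)
  obtain ⟨hel, -⟩ := Glue.offender_image m Glue.Setting.omega_ea (Glue.mem_maxEA hA)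
  set X := img m A
  have hle := hc.card_le hel
  have hcU : Nat.card U = Nat.card ↥(vQ p G) := Nat.card_congr (Equiv.ofBijective
    (fun u => (⟨m.val u, m.val_mem u⟩ : ↥(vQ p G)))
    ⟨fun a b h => m.val_inj (congrArg Subtype.val h), fun v => (m.exists_val v v.2).imp fun u hu => Subtype.ext hu⟩)
  have hcA : Nat.card ↥A = Nat.card ↥X * Nat.card ↥C := by
    let f : ↥A →* H := m.π.comp (A.subtype.codRestrict ⊤ fun a => Subgroup.mem_top _)
    have hker : Nat.card ↥f.ker = Nat.card ↥C := Nat.card_congr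
      { toFun := fun a => ⟨((a : ↥A) : G), (a : ↥A).2, (m.π_eq_one).1 a.2⟩
        invFun := fun c => ⟨⟨(c : G), c.2.1⟩, (m.π_eq_one (g := ⟨(c : G), Subgroup.mem_top _⟩)).2 c.2.2⟩
        left_inv := fun a => rfl
        right_inv := fun c => rfl }
    have hrange : f.range = X := by
      ext x
      constructor
      · rintro ⟨a, rfl⟩
        exact ⟨⟨(a : G), Subgroup.mem_top _⟩, a.2, rfl⟩
      · rintro ⟨a, ha, rfl⟩
        exact ⟨⟨(a : G), ha⟩, rfl⟩
    rw [← hrange, ← hker, Subgroup.card_eq_card_quotient_mul_card_subgroup f.ker,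
      Nat.card_congr (QuotientGroup.quotientKerEquivRange f).toEquiv]
  have hVA : Nat.card ↥(C ⊓ vQ p G : Subgroup G) ≤ Nat.card ↥(fixS U X) := by
    have h3 : C ⊓ vQ p G ≤ m.sub (fixS U X) := fun v hv => by
      obtain ⟨u, rfl⟩ := m.exists_val v hv.2
      refine m.val_mem_sub.2 ?_
      rintro _ ⟨a, ha, rfl⟩
      refine m.val_inj ?_
      rw [m.val_smul, mul_inv_eq_iff_eq_mul]
      exact congrArg Subtype.val (hA.2.1.1.is_comm.comm (⟨a, ha⟩ : A) ⟨m.val u, hv.1.1⟩)
    refine (Subgroup.card_le_of_le h3).trans (Nat.card_le_card_of_surjective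
      (fun u : ↥(fixS U X) => (⟨m.val u, m.val_mem_sub.2 u.2⟩ : ↥(m.sub (fixS U X)))) fun w => ?_)
    obtain ⟨u, hu, he⟩ := m.mem_sub.1 w.2
    exact ⟨⟨u, hu⟩, Subtype.ext he⟩
  have hcard : Nat.card ↥A ≤ Nat.card ↥(C ⊔ vQ p G : Subgroup G) := by
    refine Nat.le_of_mul_le_mul_right ?_ (Nat.card_pos (α := ↥(C ⊓ vQ p G : Subgroup G)))
    rw [CfsgLib.Fusion.card_sup_mul_card_inf C (vQ p G), hcA, ← hcU]
    calc Nat.card ↥X * Nat.card ↥C * Nat.card ↥(C ⊓ vQ p G : Subgroup G)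
        ≤ Nat.card ↥X * Nat.card ↥C * Nat.card ↥(fixS U X) := Nat.mul_le_mul_left _ hVA
      _ = Nat.card ↥C * (Nat.card ↥X * Nat.card ↥(fixS U X)) := by ring
      _ ≤ _ := Nat.mul_le_mul_left _ hle
  have hel' : Cfsg.IsElementaryAbelian p (C ⊔ vQ p G : Subgroup G) :=
    CfsgLib.EABasic.isElementaryAbelian_sup (CfsgLib.EABasic.isElementaryAbelian_le hA.2.1 inf_le_left)
      Glue.Setting.omega_ea fun c hc v hv => (mem_centralizer_iff.1 hc.2 v hv).symm
  have hVQ : vQ p G ≤ Cfsg.pCore p G := Glue.Setting.omega_le_pCore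
  have hle' : C ⊔ vQ p G ≤ Cfsg.pCore p G :=
    sup_le ((inf_le_inf_right _ hA.1).trans (inf_cent hs).le) hVQ
  exact ⟨C ⊔ vQ p G, ⟨hle'.trans pCore_le_T, hel', fun B hB hBe => (hA.2.2 B hB hBe).trans hcard⟩,
    ⟨hle', hel', fun B hB hBe => (hA.2.2 B (hB.trans pCore_le_T) hBe).trans hcard⟩, le_sup_right, rfl⟩

theorem vQ_le_J (hs : Glue.Setting G p T M) (m : Glue.Mdl (vQ p G) ⊤ H U) :
    vQ p G ≤ Cfsg.thompsonSubgroupOf p (T : Subgroup G) := by
  obtain ⟨A, hA⟩ := CfsgLib.Fusion.exists_isMaxEA p (T : Subgroup G)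
  obtain ⟨A', h1, -, h2, -⟩ := exists_exchange m hs hA
  exact h2.trans (CfsgLib.Fusion.le_thompsonSubgroupOf h1)

theorem vQ_ea : Cfsg.IsElementaryAbelian p (vQ p G) := Glue.Setting.omega_ea

theorem w0_cent_vQ (hs : Glue.Setting G p T M) (m : Glue.Mdl (vQ p G) ⊤ H U) :
    w0 T ≤ centralizer (vQ p G : Set G) :=
  w0_le_cent.trans (centralizer_le (vQ_le_J hs m))

theorem w0_le_pCore (hs : Glue.Setting G p T M) (m : Glue.Mdl (vQ p G) ⊤ H U) : w0 T ≤ Cfsg.pCore p G :=
  (le_inf (w0_le_J.trans (CfsgLib.Fusion.thompsonSubgroupOf_le _)) (w0_cent_vQ hs m)).trans (inf_cent hs).le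

/-- `Ω₁ Z(J(O_p(G)))`. -/
abbrev yQ (p : ℕ) (G : Type u) [Group G] : Subgroup G :=
  Cfsg.omegaOne p (Cfsg.centerThompsonOf p (Cfsg.pCore p G))

theorem yQ_normal : (yQ p G).Normal := by
  haveI := CfsgLib.Coprime.pCore_normal' (G := G) p
  refine normalizer_eq_top_iff.1 (top_le_iff.1 ?_)
  exact (normalizer_eq_top_iff.2 inferInstance).ge.trans
    ((CfsgLib.Fusion.normalizer_le_normalizer_thompsonSubgroupOf _).trans
      (CfsgLib.BaumannNormal.omegaOne_centerThompson_normalizer _))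

theorem maxEA_pCore_iff (hs : Glue.Setting G p T M) (m : Glue.Mdl (vQ p G) ⊤ H U) {A : Subgroup G}
    (hA : IsMaxEA p (Cfsg.pCore p G) A) : IsMaxEA p (T : Subgroup G) A := by
  obtain ⟨A₀, hA₀⟩ := CfsgLib.Fusion.exists_isMaxEA p (T : Subgroup G)
  obtain ⟨A', h1, h2, -, -⟩ := exists_exchange m hs hA₀
  exact ⟨hA.1.trans pCore_le_T, hA.2.1, fun B hB hBe => (h1.2.2 B hB hBe).trans (hA.2.2 A' h2.1 h2.2.1)⟩

theorem w0_sup_le_yQ (hs : Glue.Setting G p T M) (m : Glue.Mdl (vQ p G) ⊤ H U) :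
    w0 T ⊔ vQ p G ≤ yQ p G := by
  have key : ∀ z ∈ Cfsg.pCore p G, z ^ p = 1 →
      z ∈ centralizer (Cfsg.thompsonSubgroupOf p (Cfsg.pCore p G) : Set G) → z ∈ yQ p G := by
    intro z hz hzp hc
    obtain ⟨A, hA⟩ := CfsgLib.Fusion.exists_isMaxEA p (Cfsg.pCore p G)
    refine subset_closure ⟨mem_inf.2 ⟨?_, hc⟩, hzp⟩
    exact CfsgLib.Fusion.le_thompsonSubgroupOf hA (mem_of_maxEA hA hz hzp fun a ha =>
      (mem_centralizer_iff.1 hc a (CfsgLib.Fusion.le_thompsonSubgroupOf hA ha)).symm)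
  have hJle : Cfsg.thompsonSubgroupOf p (Cfsg.pCore p G) ≤ Cfsg.thompsonSubgroupOf p (T : Subgroup G) := by
    rw [CfsgLib.Fusion.thompsonSubgroupOf_eq]
    exact sSup_le fun A hA => CfsgLib.Fusion.le_thompsonSubgroupOf (maxEA_pCore_iff hs m hA)
  refine sup_le (fun z hz => key z (w0_le_pCore hs m hz) (w0_ea.2 z hz) (centralizer_le hJle (w0_le_cent hz)))
    fun z hz => key z (Glue.Setting.omega_le_pCore hz) (vQ_ea.2 z hz) ?_
  exact (Glue.Setting.omega_le_centralizer.trans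
    (centralizer_le (CfsgLib.Fusion.thompsonSubgroupOf_le _))) hz

theorem comm_yQ (hs : Glue.Setting G p T M) (m : Glue.Mdl (vQ p G) ⊤ H U) :
    ⁅yQ p G, Cfsg.thompsonSubgroup p G⁆ ≤ vQ p G := by
  haveI := Glue.Setting.omega_normal (G := G) (p := p)
  haveI := yQ_normal (G := G) (p := p)
  set V := vQ p G
  set Y := yQ p G
  have key : ∀ A, IsMaxEA p (T : Subgroup G) A → ∀ y ∈ Y, ∀ a ∈ A, ⁅y, a⁆ ∈ V := by
    intro A hA y hy a ha
    obtain ⟨A', h1, h2, -, hA'⟩ := exists_exchange m hs hA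
    have hyQ : y ∈ Cfsg.pCore p G :=
      ((CfsgLib.LS.omegaOne_le_self _).trans inf_le_left).trans (CfsgLib.Fusion.thompsonSubgroupOf_le _) hy
    have hy' : y ∈ A' := mem_of_maxEA h2 hyQ ((CfsgLib.LS.omegaOne_center_ea _).2 y hy) fun b hb =>
      (mem_centralizer_iff.1 (((CfsgLib.LS.omegaOne_le_self _).trans inf_le_right) hy) b
        (CfsgLib.Fusion.le_thompsonSubgroupOf h2 hb)).symm
    rw [hA'] at hy'
    obtain ⟨c, hc, v, hv, rfl⟩ := Subgroup.mem_sup_of_normal_right.1 hy'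
    have hca : c * a = a * c := congrArg Subtype.val (hA.2.1.1.is_comm.comm (⟨c, hc.1⟩ : A) ⟨a, ha⟩)
    have e : ⁅c * v, a⁆ = c * ⁅v, a⁆ * c⁻¹ := by
      rw [commutatorElement_def, commutatorElement_def]
      calc c * v * a * (c * v)⁻¹ * a⁻¹ = c * v * a * v⁻¹ * (c⁻¹ * a⁻¹) := by group
        _ = c * v * a * v⁻¹ * (a⁻¹ * c⁻¹) := by
          rw [show c⁻¹ * a⁻¹ = a⁻¹ * c⁻¹ by rw [← mul_inv_rev, ← hca, mul_inv_rev]]
        _ = _ := by group
    rw [e]
    refine Normal.conj_mem inferInstance _ ?_ c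
    exact commutator_le_left V ⊤ (commutator_mem_commutator hv (mem_top a))
  haveI : ((⊤ : Subgroup G)).Normal := inferInstance
  refine commutator_le.2 fun y hy x hx => ?_
  revert y
  let K : Subgroup G :=
    { carrier := {x | ∀ y ∈ Y, ⁅y, x⁆ ∈ V}
      one_mem' := fun y _ => by rw [commutatorElement_one_right]; exact one_mem _
      mul_mem' := fun {a b} ha hb y hy => by
        rw [show ⁅y, a * b⁆ = ⁅y, a⁆ * (a * ⁅y, b⁆ * a⁻¹) by simp only [commutatorElement_def]; group]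
        exact mul_mem (ha y hy) (Normal.conj_mem inferInstance _ (hb y hy) a)
      inv_mem' := fun {a} ha y hy => by
        rw [show ⁅y, a⁻¹⁆ = a⁻¹ * ⁅y, a⁆⁻¹ * (a⁻¹)⁻¹ by simp only [commutatorElement_def]; group]
        exact Normal.conj_mem inferInstance _ (inv_mem (ha y hy)) a⁻¹ }
  suffices h : Cfsg.thompsonSubgroup p G ≤ K from fun y hy => h hx y hy
  refine sSup_le fun A hA a ha y hy => ?_
  obtain ⟨Q, hQ⟩ := (show IsPGroup p A from fun b => ⟨1, Subtype.ext (by rw [pow_one]; exact hA.1.2 b b.2)⟩).exists_le_sylow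
  obtain ⟨g, hg⟩ := MulAction.exists_smul_eq G Q T
  have hAT : IsMaxEA p (T : Subgroup G) (conjBy g A) := by
    refine ⟨by rw [← hg]; exact Subgroup.map_mono hQ, CfsgLib.Fusion.isElementaryAbelian_map _ hA.1,
      fun B _ hBe => ?_⟩
    rw [CfsgLib.Fusion.card_conjBy]
    exact hA.2 B hBe
  have h1 := key _ hAT (g * y * g⁻¹) (Normal.conj_mem inferInstance y hy g) (g * a * g⁻¹) (conj_mem_conjBy ha)
  have h2 := Normal.conj_mem (show V.Normal from inferInstance) _ h1 g⁻¹
  rwa [show g⁻¹ * ⁅g * y * g⁻¹, g * a * g⁻¹⁆ * (g⁻¹)⁻¹ = ⁅y, a⁆ by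
    simp only [commutatorElement_def]; group] at h2

theorem sylow_sup_J (hs : Glue.Setting G p T M) : (T : Subgroup G) ⊔ Cfsg.thompsonSubgroup p G = ⊤ := by
  by_contra hne
  haveI := Glue.thompsonSubgroup_normal (G := G) (p := p)
  haveI := Glue.Setting.omega_normal (G := G) (p := p)
  have h1 := hs.only.2.2 _ le_sup_left hne
  have h2 := CfsgLib.LS.inf_le_pCore_of_normal_le T hs.only (Cfsg.thompsonSubgroup p G) (le_sup_right.trans h1)
  refine hs.thompson_not_le ?_
  refine le_trans ((le_inf (CfsgLib.Fusion.thompsonSubgroupOf_le _)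
    (CfsgLib.Fusion.thompsonSubgroupOf_le_whole T)).trans h2) ?_
  exact le_centralizer_iff.1 Glue.Setting.omega_le_centralizer

theorem y1_normal (hs : Glue.Setting G p T M) (m : Glue.Mdl (vQ p G) ⊤ H U) :
    (w0 T ⊔ vQ p G).Normal := by
  haveI := Glue.Setting.omega_normal (G := G) (p := p)
  refine normalizer_eq_top_iff.1 (top_le_iff.1 ?_)
  rw [← sylow_sup_J hs]
  refine sup_le ?_ ?_
  · intro t ht
    refine conjBy_eq_iff.1 (CfsgLib.Fusion.conjBy_eq_of_le ?_)
    have hW : t ∈ normalizer (w0 T : Set G) :=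
      CfsgLib.BaumannNormal.omegaOne_centerThompson_normalizer _
        (CfsgLib.Fusion.normalizer_le_normalizer_thompsonSubgroupOf _ (le_normalizer ht))
    rw [CfsgLib.Fusion.conjBy, Subgroup.map_sup]
    refine sup_le_sup (conjBy_eq_iff.2 hW).le ?_
    rintro _ ⟨v, hv, rfl⟩
    exact Normal.conj_mem inferInstance v hv t
  · intro x hx
    refine conjBy_eq_iff.1 (CfsgLib.Fusion.conjBy_eq_of_le ?_)
    rintro _ ⟨y, hy, rfl⟩
    show x * y * x⁻¹ ∈ _
    have h1 : ⁅y, x⁆ ∈ vQ p G := comm_yQ hs m (commutator_mem_commutator (w0_sup_le_yQ hs m hy) hx)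
    rw [show x * y * x⁻¹ = ⁅y, x⁆⁻¹ * y by simp only [commutatorElement_def]; group]
    exact mul_mem (mem_sup_right (inv_mem h1)) hy

/-- The data of the pushing-up proof. -/
theorem exists_data (hh : Hyp p T) (hs : Glue.Setting G p T M) (m : Glue.Mdl (vQ p G) ⊤ H U) :
    ∃ (q n r : ℕ) (S : Sylow p H) (E : Fin r → Subgroup H), Data T M m q n r S E ∧
      Dec U p q n S (img m M) E ∧ img m (bT T) = rootsIn U p q (S : Subgroup H) := by
  classical
  obtain ⟨q, r, S, N, E, hS, hN, hc, hF, hJ, n, hn, hnat⟩ := hs.exists_model m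
  subst hN
  have d : Dec U p q n S (img m M) E := ⟨hc, hF, hn, hnat⟩
  haveI := Glue.Setting.omega_normal (G := G) (p := p)
  set J := Cfsg.thompsonSubgroupOf p (T : Subgroup G)
  have hJB : J ≤ bT T := CfsgLib.BaumannNormal.thompson_le_baumann _
  have hBT : bT T ≤ (T : Subgroup G) := inf_le_left
  have hw0Q := w0_le_pCore hs m
  have hy1 := y1_normal hs m
  -- the image of `J`
  set A₀ := rootsIn U p q (S : Subgroup H)
  have hJA : img m J ≤ A₀ := by
    have h1 : J ≤ m.lift A₀ := by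
      show Cfsg.thompsonSubgroupOf p (T : Subgroup G) ≤ _
      rw [CfsgLib.Fusion.thompsonSubgroupOf_eq]
      refine sSup_le fun A hA a ha => m.mem_lift.2 ⟨mem_top a, ?_⟩
      refine d.offender_le (Glue.offender_image m Glue.Setting.omega_ea (Glue.mem_maxEA hA)) ?_
        ⟨⟨a, mem_top a⟩, ha, rfl⟩
      rw [hS]
      exact img_mono m hA.1
    intro h hh'
    obtain ⟨x, hx, rfl⟩ := (mem_img m).1 hh'
    exact (m.mem_lift.1 (h1 hx)).2
  have hA₀J : A₀ ≤ img m J := by
    obtain ⟨A, hA, hAC⟩ : ∃ A, IsMaxEA p (T : Subgroup G) A ∧ ¬ A ≤ centralizer (vQ p G : Set G) := by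
      by_contra! h
      refine hs.thompson_not_le ?_
      rw [CfsgLib.Fusion.thompsonSubgroupOf_eq]
      exact sSup_le fun A hA => h A hA
    obtain ⟨R, hR, hRr⟩ := hF.exists_root_le hc
      (Glue.offender_image m Glue.Setting.omega_ea (Glue.mem_maxEA hA)) fun h => hAC fun a ha =>
        (m.π_eq_one (g := ⟨a, mem_top a⟩)).1 ((eq_bot_iff_forall _).1 h _ ⟨_, ha, rfl⟩)
    have hRJ : R ≤ img m J := hR.trans (img_mono m (CfsgLib.Fusion.le_thompsonSubgroupOf hA))
    refine sSup_le fun B hB => ?_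
    obtain ⟨s, hs', rfl⟩ := d.conj_roots hRr hB.1 ((hRJ.trans hJA).trans (rootsIn_le _)) hB.2
    rw [hS] at hs'
    obtain ⟨t, ht, rfl⟩ := (mem_img m).1 hs'
    rintro _ ⟨x, hx, rfl⟩
    obtain ⟨j, hj, rfl⟩ := (mem_img m).1 (hRJ hx)
    refine (mem_img m).2 ⟨t * j * t⁻¹, ?_, ?_⟩
    · exact (mem_normalizer_iff.1 (CfsgLib.Fusion.normalizer_le_normalizer_thompsonSubgroupOf _
        (le_normalizer ht)) j).1 hj
    · show _ = m.π ⟨t, _⟩ * m.π ⟨j, _⟩ * (m.π ⟨t, _⟩)⁻¹
      rw [← map_mul, ← map_inv, ← map_mul]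
      exact congrArg m.π (Subtype.ext rfl)
  have hJeq : img m J = A₀ := le_antisymm hJA hA₀J
  -- the image of `B`
  have hBA : img m (bT T) ≤ A₀ := by
    intro h hh'
    obtain ⟨b, hb, rfl⟩ := (mem_img m).1 hh'
    refine d.mem_rootsIn S.2 (by rw [hS]; exact (mem_img m).2 ⟨b, hBT hb, rfl⟩) fun v hv => m.val_inj ?_
    rw [m.val_smul, mul_inv_eq_iff_eq_mul]
    have hw : m.val v ∈ w0 T := by
      refine mem_w0 (vQ_le_J hs m (m.val_mem v)) ?_ (vQ_ea.2 _ (m.val_mem v))
      refine mem_centralizer_iff.2 fun j hj => ?_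
      have h1 := congrArg m.val (hv (m.π ⟨j, mem_top j⟩) (hJeq.le ((mem_img m).2 ⟨j, hj, rfl⟩)))
      rw [m.val_smul, mul_inv_eq_iff_eq_mul] at h1
      exact h1
    exact (mem_centralizer_iff.1 hb.2 _ hw).symm
  have hBeq : img m (bT T) = A₀ := le_antisymm hBA (hA₀J.trans (img_mono m hJB))
  have hA₀le : A₀ ≤ ⨆ i, E i := sSup_le fun B hB => by
    obtain ⟨i, hi⟩ := hF.covered B hB.1
    exact hi.trans (le_iSup E i)
  have hq0 : q0 T = Cfsg.pCore p G ⊓ centralizer ((w0 T ⊔ vQ p G : Subgroup G) : Set G) := by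
    refine le_antisymm (le_inf inf_le_right (le_centralizer_iff.2 (sup_le ?_ ?_))) ?_
    · exact le_centralizer_iff.1 ((inf_le_left : q0 T ≤ bT T).trans inf_le_right)
    · exact (Glue.Setting.omega_le_centralizer).trans (centralizer_le inf_le_right)
    · exact le_inf (le_inf (inf_le_left.trans pCore_le_T) (inf_le_right.trans (centralizer_le (SetLike.coe_subset_coe.2 le_sup_left))))
        inf_le_left
  have hq0n : (q0 T).Normal := by
    haveI := CfsgLib.Coprime.pCore_normal' (G := G) p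
    haveI := hy1
    rw [hq0]
    infer_instance
  have hVq0 : vQ p G ≤ q0 T := le_inf (le_inf (Glue.Setting.omega_le_pCore.trans pCore_le_T)
    (le_centralizer_iff.1 (w0_cent_vQ hs m))) Glue.Setting.omega_le_pCore
  have hw0q0 : w0 T ≤ q0 T := le_inf (le_inf (hw0Q.trans pCore_le_T)
    (le_centralizer_iff_isMulCommutative.2 w0_ea.1)) hw0Q
  refine ⟨q, n, r, S, E, ?_, d, hBeq⟩
  exact
    { hyp := hh
      setting := hs
      ctx := hc
      frame := hF
      one_le := hn
      nat := hnat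
      sylow := hS
      lift_sup := hJ
      inf_cent := inf_cent hs
      w0_le := hw0q0
      vQ_le := hVq0
      y1_normal := hy1
      y1_comm := (commutator_mono (w0_sup_le_yQ hs m) le_rfl).trans (comm_yQ hs m)
      q0_eq := hq0
      q0_normal := hq0n
      q0_self_cent := by
        haveI := hq0n
        have hCq : Cfsg.pCore p G ⊓ centralizer (q0 T : Set G) ≤ q0 T := fun x hx =>
          ⟨⟨pCore_le_T hx.1, centralizer_le hw0q0 hx.2⟩, hx.1⟩
        have hp' : IsPGroup p ↥(centralizer (q0 T : Set G)) := by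
          refine MinParab.eq_one_or_not_dvd _ fun x hx hxp => ?_
          have hcop : (Nat.card ↥(zpowers x)).Coprime p := by
            rw [Nat.card_zpowers]
            exact (hp.out.coprime_iff_not_dvd.2 hxp).symm
          have hn : ∀ Y : Subgroup G, Y ≤ normalizer (Cfsg.pCore p G : Set G) := fun Y =>
            le_top.trans (normalizer_eq_top_iff.2 (CfsgLib.Coprime.pCore_normal' p)).ge
          have h := CfsgLib.Coprime.pq_lemma (P := q0 T) (Q := zpowers x) (U := Cfsg.pCore p G)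
            (T.2.to_le (inf_le_left.trans hBT)) hcop (T.2.to_le pCore_le_T)
            (le_centralizer_iff.1 (zpowers_le.2 hx)) (hn _) (hn _)
            (hCq.trans (le_centralizer_iff.1 (zpowers_le.2 hx)))
          obtain ⟨k, hk⟩ := (T.2.to_le pCore_le_T) ⟨x, hh.char (h (mem_zpowers x))⟩
          have h1 : orderOf x ∣ p ^ k := orderOf_dvd_of_pow_eq_one (congrArg Subtype.val hk)
          obtain ⟨j, -, hj⟩ := (Nat.dvd_prime_pow hp.out).1 h1
          rcases j with _ | j
          · exact orderOf_eq_one_iff.1 hj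
          · exact absurd (hj ▸ dvd_pow_self p (Nat.succ_ne_zero j)) hxp
        exact le_trans (le_inf (CfsgLib.PGroup.le_pCore inferInstance hp') le_rfl) hCq
      pCore_comm := by
        haveI := CfsgLib.Coprime.pCore_normal' (G := G) p
        refine commutator_le.2 fun x hx b hb => mem_inf.2 ⟨?_, commutator_le_left _ _
          (commutator_mem_commutator hx hb)⟩
        have hn := CfsgLib.BaumannNormal.le_normalizer_baumann T T.2 inf_le_left (pCore_le_T hx)
        exact mul_mem ((mem_normalizer_iff.1 hn b).1 hb) (inv_mem hb)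
      bT_thompson := hBeq.trans hJeq.symm
      bT_roots := hBeq
      bT_el := hBeq ▸ (isOff_rootsIn d.sys S.2).1
      bT_le := hBeq ▸ hA₀le
      bT_split := by
        rw [hBeq]
        refine le_antisymm (iSup_le fun i => inf_le_left) (sSup_le fun B hB => ?_)
        obtain ⟨i, hi⟩ := hF.covered B hB.1
        exact le_trans (le_inf (le_rootsIn hB.1 hB.2) hi) (le_iSup (fun i => A₀ ⊓ E i) i)
      bT_linear := fun hq i => by
        rw [hBeq]
        obtain ⟨A, hA⟩ := hF.exists_root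
        obtain ⟨j, hj⟩ := hF.covered A hA
        obtain ⟨R, hR⟩ := hA.el.pgroup.exists_le_sylow
        obtain ⟨g, hg⟩ := MulAction.exists_smul_eq H R S
        have hgA : Root U p q (conjBy g A) := hA.conj g
        have hgS : conjBy g A ≤ (S : Subgroup H) := by rw [← hg]; exact Subgroup.map_mono hR
        obtain ⟨k, hk⟩ := hF.covered _ hgA
        obtain ⟨t, ht, htk⟩ := hF.parts.trans k i
        have hB : Root U p q (conjBy t (conjBy g A)) := hgA.conj t
        have hBS : conjBy t (conjBy g A) ≤ (S : Subgroup H) := conjBy_le_iff.2 fun a ha =>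
          mul_mem (mul_mem ht (hgS ha)) (inv_mem ht)
        have hBi : conjBy t (conjBy g A) ≤ E i := htk ▸ CfsgLib.Fusion.conjBy_mono hk
        have heq := d.eq_root_of_pgroup hq hB (le_inf (le_rootsIn hB hBS) hBi)
          (S.2.to_le (inf_le_left.trans (rootsIn_le _))) inf_le_right
        rw [heq]
        exact ⟨hB.card, hB⟩ }

end CfsgLib.CFun.MinParab.Push
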