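import Cfsg.Agent.Lib.CFun.MinParab.Push.SymSplit
import Cfsg.Agent.Lib.CFun.MinParab.Push.Lin
import Cfsg.Agent.Lib.Invol.AltDoubleCover.Cover
import Cfsg.Agent.Lib.AltModFixed.Reduce

/-!
# Pushing up with one natural step: the symmetric components have no central extension

The residual of a symmetric component acts as the alternating group. The product of two commuting small
elements over disjoint root transpositions gives a lift of a product of two transpositions of order two modulo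
`[V, E i]`, which a non-split double cover of the alternating group does not allow.
-/

set_option autoImplicit false
set_option linter.unusedSectionVars false
set_option linter.style.haveILetI false

open Subgroup
open CfsgLib.Char.NatSL (fixS mem_fixS fixS_mono)
open CfsgLib.Fusion (conjBy mem_conjBy conj_mem_conjBy conjBy_le_iff conjBy_eq_iff conjBy_conjBy conjBy_mono
  conjBy_eq_of_le conjBy_inv_conjBy)
open CfsgLib.Invol.AltDoubleCover (IsDT)
open scoped commutatorElement MatrixGroups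

namespace CfsgLib.CFun.MinParab.Push

open Rec Off

universe u v w

open CfsgLib.Char.AltPres (pt pt_ne gen) in
open CfsgLib.Invol.AltCover (disjoint_swaps) in
/-- In a double cover of an alternating group without quotient of order two no lift of a product of two
transpositions is an involution. -/
theorem no_dt_involution {C : Type*} [Group C] [Finite C] {k : ℕ} (hk : 5 ≤ k) (π : C →* Equiv.Perm (Fin k))
    (hrange : π.range = alternatingGroup (Fin k)) (hker : π.ker = center C) (hcard : Nat.card ↥(center C) = 2)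
    (hres : Cfsg.pResidual 2 C = ⊤) {c : C} (hc : IsDT (π c)) (hc2 : c * c = 1) : False := by
  classical
  haveI : Fact (Nat.Prime 2) := ⟨Nat.prime_two⟩
  haveI : NeZero k := ⟨by omega⟩
  have hmem : ∀ g, π g ∈ alternatingGroup (Fin k) := fun g => hrange ▸ ⟨g, rfl⟩
  obtain ⟨π', hπ'⟩ : ∃ π', π' = π.codRestrict (alternatingGroup (Fin k)) hmem := ⟨_, rfl⟩
  have hs : Function.Surjective π' := fun a => by
    obtain ⟨g, hg⟩ := hrange.ge a.2
    exact ⟨g, by rw [hπ']; exact Subtype.ext hg⟩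
  have hker' : π'.ker = center C := by rw [hπ', MonoidHom.ker_codRestrict]; exact hker
  set e : C ⧸ center C ≃* ↥(alternatingGroup (Fin k)) :=
    (QuotientGroup.quotientMulEquivOfEq hker'.symm).trans (QuotientGroup.quotientKerEquivOfSurjective π' hs)
  have hev : ∀ g, ((e (QuotientGroup.mk g) : ↥(alternatingGroup (Fin k))) : Equiv.Perm (Fin k)) = π g := fun g => by
    show ((π' g : ↥(alternatingGroup (Fin k))) : Equiv.Perm (Fin k)) = π g
    rw [hπ']; rfl
  obtain ⟨z, hz1, hzc, hzz, hzall⟩ := Cfsg.Agent.Lib.Spor.Spin.center_pair hcard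
  -- `C` is perfect
  have hperf : _root_.commutator C = ⊤ := by
    haveI : IsSimpleGroup (alternatingGroup (Fin k)) := alternatingGroup.isSimpleGroup (by simpa using hk)
    have hA : _root_.commutator ↥(alternatingGroup (Fin k)) = ⊤ := by
      obtain ⟨j, rfl⟩ : ∃ j, k = j + 5 := ⟨k - 5, by omega⟩
      refine ((inferInstance : (_root_.commutator ↥(alternatingGroup (Fin (j + 5)))).Normal).eq_bot_or_eq_top).resolve_left
        fun hb => CfsgLib.AltModFixed.Reduce.not_isSolvable_alt j (IsSimpleGroup.comm_iff_isSolvable.1 fun a b => ?_)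
      rw [← commutatorElement_eq_one_iff_mul_comm, ← mem_bot, ← hb, _root_.commutator_def]
      exact commutator_mem_commutator (mem_top a) (mem_top b)
    have hmap : (_root_.commutator C).map π' = ⊤ := by
      rw [_root_.commutator_def, map_commutator, map_top_of_surjective _ hs, ← _root_.commutator_def, hA]
    refine top_le_iff.1 (hres.ge.trans (CfsgLib.Fusion.pResidual_le_of_isPGroup_quotient _ fun x => ⟨1, ?_⟩))
    obtain ⟨g, rfl⟩ := QuotientGroup.mk'_surjective _ x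
    obtain ⟨y, hy, hye⟩ := hmap.ge (mem_top (π' g))
    have hd : y⁻¹ * g ∈ center C := by
      rw [← hker', MonoidHom.mem_ker, map_mul, map_inv, hye, inv_mul_cancel]
    have e1 : QuotientGroup.mk' (_root_.commutator C) g = QuotientGroup.mk' (_root_.commutator C) (y⁻¹ * g) := by
      rw [map_mul, map_inv, show QuotientGroup.mk' (_root_.commutator C) y = 1 from (QuotientGroup.eq_one_iff y).2 hy,
        inv_one, one_mul]
    rw [pow_one, e1, ← map_pow]
    rcases hzall _ hd with h | h <;> simp [h, pow_two, hzz]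
  -- every lift of a product of two transpositions is an involution
  have hall : ∀ d, IsDT (π d) → d * d = 1 := by
    intro d hd
    obtain ⟨f, hf, hfc⟩ := hc.exists_conj hd
    obtain ⟨F, hF⟩ := hrange.ge (Equiv.Perm.mem_alternatingGroup.2 hf)
    have e' : π (F * c * F⁻¹) = π d := by rw [map_mul, map_mul, map_inv, hF, hfc]
    have hd' : d * (F * c * F⁻¹)⁻¹ ∈ center C := by
      rw [← hker, MonoidHom.mem_ker, map_mul, map_inv, e', mul_inv_cancel]
    have hsq : F * c * F⁻¹ * (F * c * F⁻¹) = 1 := by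
      rw [show F * c * F⁻¹ * (F * c * F⁻¹) = F * (c * c) * F⁻¹ by group, hc2, mul_one, mul_inv_cancel]
    rcases hzall _ hd' with h | h
    · rw [mul_inv_eq_one.1 h]; exact hsq
    · rw [mul_inv_eq_iff_eq_mul.1 h, mul_assoc, ← mul_assoc (F * c * F⁻¹) z, mem_center_iff.1 hzc,
        mul_assoc z, hsq, mul_one, hzz]
  have n01 : pt k 0 ≠ pt k 1 := pt_ne (by omega) (by omega) (by omega)
  have n02 : pt k 0 ≠ pt k 2 := pt_ne (by omega) (by omega) (by omega)
  have n03 : pt k 0 ≠ pt k 3 := pt_ne (by omega) (by omega) (by omega)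
  have n12 : pt k 1 ≠ pt k 2 := pt_ne (by omega) (by omega) (by omega)
  have n13 : pt k 1 ≠ pt k 3 := pt_ne (by omega) (by omega) (by omega)
  have n23 : pt k 2 ≠ pt k 3 := pt_ne (by omega) (by omega) (by omega)
  have hg1 : gen k 1 = Equiv.swap (pt k 0) (pt k 1) * Equiv.swap (pt k 2) (pt k 3) := by
    rw [gen, if_neg (by omega)]
  have hd1 : IsDT (gen k 1) := hg1 ▸ IsDT.mk n01 n02 n03 n12 n13 n23
  have hg2 : gen k 0 * gen k 1 * (gen k 0)⁻¹ =
      Equiv.swap (pt k 1) (pt k 2) * Equiv.swap (pt k 0) (pt k 3) := by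
    rw [hg1, show gen k 0 * (Equiv.swap (pt k 0) (pt k 1) * Equiv.swap (pt k 2) (pt k 3)) * (gen k 0)⁻¹ =
      (gen k 0 * Equiv.swap (pt k 0) (pt k 1) * (gen k 0)⁻¹) *
        (gen k 0 * Equiv.swap (pt k 2) (pt k 3) * (gen k 0)⁻¹) by group,
      ← Equiv.swap_apply_apply, ← Equiv.swap_apply_apply]
    simp [gen, Equiv.Perm.mul_apply, Equiv.swap_apply_of_ne_of_ne, n01, n02, n03, n12, n13, n23, n01.symm,
      n02.symm, n03.symm, n12.symm, n13.symm, n23.symm]
  have hd2 := hd1.conj (gen k 0)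
  have hd3 : IsDT (gen k 1 * (gen k 0 * gen k 1 * (gen k 0)⁻¹)) := by
    have e1 := CfsgLib.Invol.AltDoubleCover.dt_klein (p := pt k 0) (q := pt k 1) (u := pt k 3) (v := pt k 2)
      (by simp [n01, n02, n03, n12, n13, n23.symm])
    rw [hg2, hg1, Equiv.swap_comm (pt k 2) (pt k 3), (disjoint_swaps n01.symm n13 n02.symm n23).commute.eq, e1]
    exact IsDT.mk n02 n01 n03 n12.symm n23 n13
  obtain ⟨A, hA⟩ := hrange.ge (Equiv.Perm.mem_alternatingGroup.2 hd1.sign_eq)
  obtain ⟨B, hB⟩ := hrange.ge (Equiv.Perm.mem_alternatingGroup.2 hd2.sign_eq)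
  have hAA := hall A (hA.symm ▸ hd1)
  have hBB := hall B (hB.symm ▸ hd2)
  have hAB := hall (A * B) (by rw [map_mul, hA, hB]; exact hd3)
  refine CfsgLib.Invol.AltCover.standard_pair_ne hk hperf hcard e A B (by rw [hev, hA]) (by rw [hev, hB]) ?_
  rw [commutatorElement_eq_one_iff_mul_comm]
  calc A * B = (A * B)⁻¹ := (inv_eq_of_mul_eq_one_right hAB).symm
    _ = B * A := by rw [mul_inv_rev, inv_eq_of_mul_eq_one_right hAA, inv_eq_of_mul_eq_one_right hBB]

variable {G : Type u} [Group G] [Finite G] {p : ℕ} [hp : Fact p.Prime] {T : Sylow p G} {M : Subgroup G}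
  {H : Type v} [Group H] [Finite H] {U : Type w} [AddCommGroup U] [Finite U] [DistribMulAction H U]
  {m : Glue.Mdl (vQ p G) ⊤ H U} {n r : ℕ} {S : Sylow p H} {E : Fin r → Subgroup H}

/-- The action of the residual of a symmetric component on the points. -/
def compPerm (m : Glue.Mdl (vQ p G) ⊤ H U) (E : Fin r → Subgroup H) (i : Fin r)
    (θ : ↥(E i) ≃* Equiv.Perm (Fin (2 ^ n + 1))) : ↥(comp m E i) →* Equiv.Perm (Fin (2 ^ n + 1)) :=
  θ.toMonoidHom.comp (((proj m).comp (comp m E i).subtype).codRestrict (E i)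
    fun x => mem_lift_proj.1 (res_le _ x.2))

theorem compPerm_apply (i : Fin r) (θ : ↥(E i) ≃* Equiv.Perm (Fin (2 ^ n + 1))) (x : ↥(comp m E i)) :
    compPerm m E i θ x = θ ⟨proj m (x : G), mem_lift_proj.1 (res_le _ x.2)⟩ := rfl

theorem compPerm_range (hp2 : p = 2) (i : Fin r) (θ : ↥(E i) ≃* Equiv.Perm (Fin (2 ^ n + 1))) :
    (compPerm m E i θ).range = alternatingGroup (Fin (2 ^ n + 1)) := by
  classical
  subst hp2
  refine le_antisymm ?_ ?_
  · rintro _ ⟨x, rfl⟩
    have hx : Cfsg.pResidual 2 ↥(comp m E i) = ⊤ := by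
      refine map_injective (comp m E i).subtype_injective ?_
      show Cfsg.pResidualOf 2 (comp m E i) = (⊤ : Subgroup ↥(comp m E i)).map (comp m E i).subtype
      rw [comp, res_res, ← MonoidHom.range_eq_map, range_subtype]
    refine Equiv.Perm.mem_alternatingGroup.2 ?_
    have hu : IsPGroup 2 ℤˣ := fun u => ⟨1, by rw [pow_one, pow_two]; exact Int.units_mul_self u⟩
    exact (CfsgLib.Fusion.pResidual_le_ker (Equiv.Perm.sign.comp (compPerm m E i θ)) hu) (hx.ge (mem_top x))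
  · rw [← Equiv.Perm.closure_three_cycles_eq_alternating, closure_le]
    intro σ hσ
    obtain ⟨x, hx⟩ := proj_surj m ((θ.symm σ : ↥(E i)) : H)
    obtain ⟨a, ha⟩ := CfsgLib.BlockCent.exists_coprime_power 2 x
    have hxl : x ∈ m.lift (E i) := mem_lift_proj.2 (hx ▸ (θ.symm σ).2)
    set y : ↥(comp m E i) := ⟨x ^ 2 ^ a, mem_res (pow_mem hxl _) ha⟩
    have hy : compPerm m E i θ y = σ ^ 2 ^ a := by
      rw [compPerm_apply]
      have e : (⟨proj m ((y : ↥(comp m E i)) : G), mem_lift_proj.1 (res_le _ y.2)⟩ : ↥(E i)) =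
          θ.symm σ ^ 2 ^ a := Subtype.ext (by simp [y, hx])
      rw [e, map_pow, θ.apply_symm_apply]
    have h3 : orderOf σ = 3 := Equiv.Perm.IsThreeCycle.orderOf hσ
    obtain ⟨j, hj⟩ := exists_pow_eq_self_of_coprime
      (show (2 ^ a).Coprime (orderOf σ) by rw [h3]; exact Nat.Coprime.pow_left a (by decide))
    exact ⟨y ^ j, by rw [map_pow, hy, hj]⟩

namespace Data

variable (d : Data T M m 2 n r S E)
include d

variable (hone : IsOne T)
include hone

theorem compPerm_eq_one (i : Fin r) (θ : ↥(E i) ≃* Equiv.Perm (Fin (2 ^ n + 1))) (x : ↥(comp m E i)) :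
    compPerm m E i θ x = 1 ↔ (x : G) ∈ Cfsg.pCore p G := by
  rw [compPerm_apply, map_eq_one_iff _ θ.injective, ← d.proj_eq_one' hone, Subtype.ext_iff]
  rfl

/-- A symmetric component residual meets `O_p(G)` in `[V, E i]`. -/
theorem comp_inf_pCore_sym (i : Fin r) : comp m E i ⊓ Cfsg.pCore p G = wPart m E i := by
  classical
  refine le_antisymm ?_ (le_inf (d.wPart_le_comp hone i) ((sub_le_vQ _).trans Glue.Setting.omega_le_pCore))
  obtain ⟨θ, ψ, hsum, hev, hker, he⟩ : IsPermNat U n (E i) := by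
    rcases d.nat i with ⟨h, -, -⟩ | ⟨-, -, h⟩
    · omega
    · exact h
  have hp2 : p = 2 := by
    rcases d.nat i with ⟨h, -, -⟩ | ⟨-, h, -⟩
    · omega
    · exact h
  haveI := CfsgLib.Coprime.pCore_normal' (G := G) p
  haveI := Glue.Setting.omega_normal (G := G) (p := p)
  obtain ⟨Ec, hEc⟩ : ∃ Ec, Ec = comp m E i := ⟨_, rfl⟩
  set W := wPart m E i
  have hWE : W ≤ Ec := hEc ▸ d.wPart_le_comp hone i
  have hEN : Ec ≤ normalizer (W : Set G) := fun y hy =>
    mem_normalizer_wPart (d.parts_conj i (le_iSup E i (mem_lift_proj.1 (res_le _ (hEc ▸ hy)))))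
  haveI hWn : (W.subgroupOf Ec).Normal := (normal_subgroupOf_iff_le_normalizer hWE).2 hEN
  obtain ⟨f, hf⟩ : ∃ f, f = QuotientGroup.mk' (W.subgroupOf Ec) := ⟨_, rfl⟩
  have hfs : Function.Surjective f := hf ▸ QuotientGroup.mk'_surjective _
  have hfk : ∀ x : ↥Ec, f x = 1 ↔ (x : G) ∈ W := fun x => by rw [hf]; exact QuotientGroup.eq_one_iff x
  subst hEc
  obtain ⟨ρ, hρ⟩ : ∃ ρ, ρ = compPerm m E i θ := ⟨_, rfl⟩
  have hρ1 : ∀ x, ρ x = 1 ↔ (x : G) ∈ Cfsg.pCore p G := hρ ▸ d.compPerm_eq_one hone i θ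
  have hρr : ρ.range = alternatingGroup (Fin (2 ^ n + 1)) := hρ ▸ compPerm_range hp2 i θ
  obtain ⟨Z, hZ⟩ : ∃ Z, Z = ((Cfsg.pCore p G).subgroupOf (comp m E i)).map f := ⟨_, rfl⟩
  have hZc : Z ≤ center _ := by
    rw [hZ]
    rintro _ ⟨z, hz, rfl⟩
    refine mem_center_iff.2 fun y => ?_
    obtain ⟨y, rfl⟩ := hfs y
    rw [← commutatorElement_eq_one_iff_mul_comm, ← map_commutatorElement, hfk]
    exact d.comp_comm hone i y.2 hz
  have hZp : IsPGroup p ↥Z := hZ ▸ ((CfsgLib.Coprime.pCore_isPGroup p).comap_of_injective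
    (comp m E i).subtype (comp m E i).subtype_injective).map f
  have hres : Cfsg.pResidual p ↥(comp m E i) = ⊤ := by
    refine map_injective (comp m E i).subtype_injective ?_
    show Cfsg.pResidualOf p (comp m E i) = (⊤ : Subgroup ↥(comp m E i)).map (comp m E i).subtype
    rw [comp, res_res, ← MonoidHom.range_eq_map, range_subtype]
  have hresmap : ∀ {C : Type u} [Group C] (φ : ↥(comp m E i) →* C), Function.Surjective φ →
      Cfsg.pResidual p C = ⊤ := by
    intro C _ φ hφ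
    refine top_le_iff.1 ?_
    rw [← map_top_of_surjective φ hφ, ← hres, Cfsg.pResidual, MonoidHom.map_closure]
    refine closure_mono ?_
    rintro _ ⟨x, hx, rfl⟩
    exact hx.coprime_dvd_left (orderOf_map_dvd φ x)
  intro z hz
  have hzE : z ∈ comp m E i := hz.1
  refine (hfk ⟨z, hzE⟩).1 ?_
  have hzZ : f ⟨z, hzE⟩ ∈ Z := hZ ▸ mem_map_of_mem f (show (⟨z, hzE⟩ : ↥(comp m E i)) ∈ _ from hz.2)
  by_contra hzne
  rcases Nat.lt_or_ge n 2 with hn | hn
  · -- degree three: the Sylow subgroup is central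
    obtain rfl : n = 1 := by have := d.one_le; omega
    obtain ⟨P, hP⟩ := hZp.exists_le_sylow
    refine hzne (central_eq_one P ?_ (hresmap f hfs) (hZc hzZ) (hP hzZ))
    have hPZ : ∀ a ∈ (P : Subgroup _), a ∈ Z := by
      intro a ha
      obtain ⟨x, rfl⟩ := hfs a
      obtain ⟨j, hj⟩ := P.2 ⟨f x, ha⟩
      have hj' : f (x ^ p ^ j) = 1 := by rw [map_pow]; exact congrArg Subtype.val hj
      have hxQ : ρ (x ^ p ^ j) = 1 :=
        (hρ1 _).2 (((sub_le_vQ _).trans Glue.Setting.omega_le_pCore) ((hfk _).1 hj'))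
      rw [map_pow] at hxQ
      have h1 : orderOf (ρ x) ∣ 3 := by
        have h2 : ρ x ∈ alternatingGroup (Fin (2 ^ 1 + 1)) := hρr ▸ ⟨x, rfl⟩
        have h3 : orderOf (⟨ρ x, h2⟩ : ↥(alternatingGroup (Fin (2 ^ 1 + 1)))) ∣
            Nat.card ↥(alternatingGroup (Fin (2 ^ 1 + 1))) := orderOf_dvd_natCard _
        have h4 : Nat.card ↥(alternatingGroup (Fin (2 ^ 1 + 1))) = 3 := by
          rw [nat_card_alternatingGroup]; simp [Nat.factorial]
        rwa [orderOf_mk, h4] at h3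
      have hx1 : ρ x = 1 := orderOf_eq_one_iff.1 (Nat.eq_one_of_dvd_coprimes
        (Nat.Coprime.pow_left j (by rw [hp2]; decide : p.Coprime 3)) (orderOf_dvd_of_pow_eq_one hxQ) h1)
      rw [hZ]
      exact mem_map_of_mem f ((hρ1 x).1 hx1)
    exact fun a ha b hb => (mem_center_iff.1 (hZc (hPZ a ha)) b).symm
  -- degree at least five
  obtain ⟨cd, hcd⟩ := hZp.exists_card_eq
  have hZne : 1 ≤ cd := by
    by_contra h
    have hcd0 : cd = 0 := by omega
    rw [hcd0, pow_zero] at hcd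
    exact hzne (mem_bot.1 ((card_eq_one.1 hcd).le hzZ))
  obtain ⟨Z₁', hZ₁'⟩ := Sylow.exists_subgroup_card_pow_prime p
    (show p ^ (cd - 1) ∣ Nat.card ↥Z from hcd ▸ pow_dvd_pow p (Nat.sub_le _ _))
  obtain ⟨Z₁, hZ₁⟩ : ∃ Z₁, Z₁ = Z₁'.map Z.subtype := ⟨_, rfl⟩
  have hZ₁le : Z₁ ≤ Z := hZ₁ ▸ map_subtype_le _
  haveI hZ₁n : Z₁.Normal := ⟨fun a ha g => by
    rw [mem_center_iff.1 (hZc (hZ₁le ha)) g, mul_inv_cancel_right]; exact ha⟩
  obtain ⟨g, hg⟩ : ∃ g, g = (QuotientGroup.mk' Z₁).comp f := ⟨_, rfl⟩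
  have hgs : Function.Surjective g := hg ▸ (QuotientGroup.mk'_surjective Z₁).comp hfs
  have hgk : ∀ x, g x = 1 ↔ f x ∈ Z₁ := fun x => by rw [hg]; exact QuotientGroup.eq_one_iff _
  have hZQ : ∀ x, f x ∈ Z → (x : G) ∈ Cfsg.pCore p G := fun x hx => by
    rw [hZ] at hx
    obtain ⟨y, hy, hye⟩ := hx
    have h1 := (hfk (y⁻¹ * x)).1 (by rw [map_mul, map_inv, hye, inv_mul_cancel])
    have := mul_mem (show (y : G) ∈ Cfsg.pCore p G from hy)
      (((sub_le_vQ _).trans Glue.Setting.omega_le_pCore) h1)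
    rwa [Subgroup.coe_mul, Subgroup.coe_inv, mul_inv_cancel_left] at this
  have hle : g.ker ≤ ρ.ker := fun x hx => (hρ1 x).2 (hZQ x (hZ₁le ((hgk x).1 hx)))
  obtain ⟨π, hπ⟩ : ∃ π, π = g.liftOfSurjective hgs ⟨ρ, hle⟩ := ⟨_, rfl⟩
  have hπg : ∀ x, π (g x) = ρ x := fun x => by
    rw [hπ]; exact MonoidHom.liftOfRightInverse_comp_apply g _ _ ⟨ρ, hle⟩ x
  have hπr : π.range = alternatingGroup (Fin (2 ^ n + 1)) := by
    rw [← hρr]
    ext a
    constructor
    · rintro ⟨y, rfl⟩; obtain ⟨x, rfl⟩ := hgs y; exact ⟨x, (hπg x).symm⟩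
    · rintro ⟨x, rfl⟩; exact ⟨g x, hπg x⟩
  have hcent : π.ker = center _ := by
    refine le_antisymm (fun y hy => ?_) fun y hy => ?_
    · obtain ⟨x, rfl⟩ := hgs y
      rw [MonoidHom.mem_ker, hπg, hρ1] at hy
      refine mem_center_iff.2 fun y => ?_
      obtain ⟨y, rfl⟩ := hgs y
      rw [← commutatorElement_eq_one_iff_mul_comm, ← map_commutatorElement, hgk,
        (hfk ⁅y, x⁆).2 (d.comp_comm hone i y.2 hy)]
      exact one_mem _
    · obtain ⟨j, hj⟩ : ∃ j, 2 ^ n + 1 = j + 5 := ⟨2 ^ n + 1 - 5, by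
        have : 2 ^ 2 ≤ 2 ^ n := Nat.pow_le_pow_right (by omega) hn
        omega⟩
      have hmem : π y ∈ alternatingGroup (Fin (2 ^ n + 1)) := hπr ▸ ⟨y, rfl⟩
      have h1 : (⟨π y, hmem⟩ : ↥(alternatingGroup (Fin (2 ^ n + 1)))) ∈ center _ := mem_center_iff.2 fun a => by
        obtain ⟨a', ha'⟩ := hπr.ge a.2
        refine Subtype.ext ?_
        show (a : Equiv.Perm (Fin (2 ^ n + 1))) * π y = π y * (a : Equiv.Perm (Fin (2 ^ n + 1)))
        rw [← ha', ← map_mul, ← map_mul, mem_center_iff.1 hy a']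
      have h2 : center ↥(alternatingGroup (Fin (2 ^ n + 1))) = ⊥ := by
        rw [hj]; exact CfsgLib.AltModFixed.Reduce.center_alt j
      exact congrArg Subtype.val (mem_bot.1 (h2.le h1))
  have hcard : Nat.card ↥(center ((↥(comp m E i) ⧸ W.subgroupOf (comp m E i)) ⧸ Z₁)) = 2 := by
    have e : center ((↥(comp m E i) ⧸ W.subgroupOf (comp m E i)) ⧸ Z₁) = Z.map (QuotientGroup.mk' Z₁) := by
      rw [← hcent]
      ext y
      constructor
      · intro hy
        obtain ⟨x, rfl⟩ := hgs y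
        rw [MonoidHom.mem_ker, hπg, hρ1] at hy
        refine ⟨f x, hZ ▸ mem_map_of_mem f hy, by rw [hg]; rfl⟩
      · rintro ⟨a, ha, rfl⟩
        obtain ⟨x, rfl⟩ := hfs a
        have : QuotientGroup.mk' Z₁ (f x) = g x := by rw [hg]; rfl
        rw [this, MonoidHom.mem_ker, hπg, hρ1]
        exact hZQ x ha
    rw [e, ← relIndex_ker, QuotientGroup.ker_mk']
    have h1 := relIndex_mul_relIndex ⊥ Z₁ Z bot_le hZ₁le
    rw [relIndex_bot_left, relIndex_bot_left, hZ₁, card_map_of_injective Z.subtype_injective, hZ₁', hcd] at h1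
    rw [← hZ₁] at h1
    refine Nat.eq_of_mul_eq_mul_left (pow_pos hp.out.pos (cd - 1)) (h1.trans ?_)
    rw [← hp2, ← pow_succ, show cd - 1 + 1 = cd by omega]
  -- two disjoint root transpositions
  obtain ⟨cc, hcc, htr⟩ := d.dec.sym_sylow i θ
  obtain ⟨A, hA, hAS, hAi⟩ := d.exists_root_in i
  obtain ⟨a, b, hab, t, ht, hAt, hθ⟩ := d.dec.exists_swap θ ψ hev he hA hAi
  have hfive : 5 ≤ 2 ^ n + 1 := by
    have : 2 ^ 2 ≤ 2 ^ n := Nat.pow_le_pow_right (by omega) hn
    omega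
  obtain ⟨x, hxm⟩ := Finset.exists_mem_notMem_of_card_lt_card
    (show ({a, b, cc} : Finset (Fin (2 ^ n + 1))).card < Finset.univ.card by
      rw [Finset.card_univ, Fintype.card_fin]
      exact Finset.card_le_three.trans_lt (by omega))
  have hxne : x ≠ a ∧ x ≠ b ∧ x ≠ cc := by simpa using hxm.2
  have hacc : a ≠ cc := fun e => by
    have h1 := hcc t ⟨hAS ht, hAi ht⟩
    rw [hθ, ← e, Equiv.swap_apply_left] at h1
    exact hab h1.symm
  obtain ⟨s, hs, hsx⟩ := htr a x hacc hxne.2.2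
  obtain ⟨y', hy'⟩ : ∃ y', y' = θ ⟨s, hs.2⟩ b := ⟨_, rfl⟩
  obtain ⟨t', ht'⟩ : ∃ t', t' = s * t * s⁻¹ := ⟨_, rfl⟩
  have ht'i : t' ∈ E i := ht' ▸ mul_mem (mul_mem hs.2 (hAi ht)) (inv_mem hs.2)
  have hθ' : θ ⟨t', ht'i⟩ = Equiv.swap x y' := by
    rw [show (⟨t', ht'i⟩ : ↥(E i)) = ⟨s, hs.2⟩ * ⟨t, hAi ht⟩ * ⟨s, hs.2⟩⁻¹ from Subtype.ext ht', map_mul,
      map_mul, map_inv, hθ, ← Equiv.swap_apply_apply, hsx, hy']
  have hxy : x ≠ y' := fun e => hab ((θ ⟨s, hs.2⟩).injective (by rw [hsx, ← hy', e]))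
  have hcomm : Equiv.swap x y' * Equiv.swap a b = Equiv.swap a b * Equiv.swap x y' := by
    rw [← hθ', ← hθ, ← map_mul, ← map_mul]
    refine congrArg θ (Subtype.ext ?_)
    exact d.sys.com_in S.2 (hA.conj s) hA
      (conjBy_le_iff.2 fun z hz => mul_mem (mul_mem hs.1 (hAS hz)) (inv_mem hs.1)) hAS t'
      (ht' ▸ conj_mem_conjBy ht) t ht
  have hdis : x ≠ a ∧ x ≠ b ∧ y' ≠ a ∧ y' ≠ b := ne_of_commute_swap hab hxy hcomm fun e => by
    have h1 := DFunLike.congr_fun e x
    rw [Equiv.swap_apply_left, Equiv.swap_apply_of_ne_of_ne hxne.1 hxne.2.1] at h1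
    exact hxy h1.symm
  obtain ⟨-, -, hy'a, hy'b⟩ := hdis
  -- the small element and its conjugate
  obtain ⟨bb, hbb, hbp, hbA, hb1, hby⟩ := d.exists_lift hone hA hAS hAi
  have hbt : proj m bb = t := by
    obtain ⟨l, hl⟩ := mem_zpowers_iff.1 (hAt.le hbA)
    have ht2 : t ^ 2 = 1 := hp2 ▸ hA.el.pow t ht
    rcases Int.even_or_odd' l with ⟨j, rfl | rfl⟩
    · rw [zpow_mul, zpow_two, ← pow_two, ht2, one_zpow] at hl
      exact absurd hl.symm hb1
    · rw [zpow_add_one, zpow_mul, zpow_two, ← pow_two, ht2, one_zpow, one_mul] at hl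
      exact hl.symm
  have hσeven : Equiv.Perm.sign (Equiv.swap a x * Equiv.swap b y') = 1 := by
    rw [map_mul, Equiv.Perm.sign_swap hxne.1.symm, Equiv.Perm.sign_swap hy'b.symm]; decide
  obtain ⟨y, hy⟩ := hρr.ge (Equiv.Perm.mem_alternatingGroup.2 hσeven)
  have hbN : bb ∈ normalizer (comp m E i : Set G) :=
    CfsgLib.Char.TW.normalizer_le_pResidualOf p _ (le_normalizer (mem_lift_proj.2 (hbt.symm ▸ hAi ht)))
  obtain ⟨b'', hb''⟩ : ∃ b'', b'' = (y : G) * bb * (y : G)⁻¹ := ⟨_, rfl⟩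
  have hyi : proj m (y : G) ∈ E i := mem_lift_proj.1 (res_le _ y.2)
  have hb''p : proj m b'' = t' := by
    rw [hb'', map_mul, map_mul, map_inv, hbt]
    refine congrArg Subtype.val (θ.injective ?_ : (⟨proj m (y : G), hyi⟩ : ↥(E i)) * ⟨t, hAi ht⟩ *
      ⟨proj m (y : G), hyi⟩⁻¹ = ⟨t', ht'i⟩)
    have hyθ : θ ⟨proj m (y : G), hyi⟩ = Equiv.swap a x * Equiv.swap b y' := by
      rw [← hy, hρ]; rfl
    rw [map_mul, map_mul, map_inv, hθ, hθ', hyθ, ← Equiv.swap_apply_apply, Equiv.Perm.mul_apply,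
      Equiv.Perm.mul_apply, Equiv.swap_apply_of_ne_of_ne hab hy'a.symm, Equiv.swap_apply_left,
      Equiv.swap_apply_left, Equiv.swap_apply_of_ne_of_ne hy'a hxy.symm]
  -- it lies in `B`
  have hb''S : t' ∈ (S : Subgroup H) := ht' ▸ mul_mem (mul_mem hs.1 (hAS ht)) (inv_mem hs.1)
  have hb''T : b'' ∈ (T : Subgroup G) := by
    obtain ⟨t₀, ht₀, ht₀e⟩ := (img_eq_map m _).le (d.sylow.le hb''S)
    have h1 : t₀⁻¹ * b'' ∈ Cfsg.pCore p G := by
      rw [← d.proj_eq_one' hone, map_mul, map_inv, ht₀e, hb''p, inv_mul_cancel]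
    have := mul_mem ht₀ (pCore_le_T (T := T) h1)
    rwa [mul_inv_cancel_left] at this
  have hb''B : b'' ∈ bT T := by
    refine ⟨hb''T, mem_centralizer_iff.2 fun w hw => ?_⟩
    obtain ⟨cw, v, hv, hwe, hcB, hcE⟩ := d.w0_split hone i w hw
    have h1 : Commute cw b'' := by
      rw [hb'']
      exact ((hcE _ y.2).mul_right (hcB bb hbb)).mul_right (hcE _ y.2).inv_right
    have ht'B : t' ∈ img m (bT T) := d.bT_roots.ge ((le_rootsIn (hA.conj s) (conjBy_le_iff.2 fun z hz =>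
      mul_mem (mul_mem hs.1 (hAS hz)) (inv_mem hs.1))) (ht' ▸ conj_mem_conjBy ht))
    obtain ⟨b₁, hb₁, hb₁e⟩ := (img_eq_map m _).le ht'B
    have h2 : Commute v b₁ := by
      have h3 : Commute w b₁ := mem_centralizer_iff.1 hb₁.2 w hw
      rw [show v = cw⁻¹ * w by rw [hwe, inv_mul_cancel_left]]
      exact (hcB b₁ hb₁).inv_left.mul_left h3
    have hk : b₁⁻¹ * b'' ∈ centralizer (vQ p G : Set G) := (proj_eq_one m).1 (by
      rw [map_mul, map_inv, hb₁e, hb''p, inv_mul_cancel])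
    have h4 : Commute v b'' := by
      have h5 := h2.mul_right (mem_centralizer_iff.1 hk v hv : Commute v (b₁⁻¹ * b''))
      rwa [mul_inv_cancel_left] at h5
    rw [hwe]
    exact (h1.mul_left h4).eq
  have hcW : ⁅bb, b''⁆ ∈ W := hby _ hb''B
  have hb2 : bb * bb = 1 := by rw [← pow_two, ← hp2, hbp]
  have hb''2 : b'' * b'' = 1 := by
    rw [hb'', show (y : G) * bb * (y : G)⁻¹ * ((y : G) * bb * (y : G)⁻¹) = (y : G) * (bb * bb) * (y : G)⁻¹ by
      group, hb2, mul_one, mul_inv_cancel]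
  have hcEc : bb * b'' ∈ comp m E i := by
    have e : bb * b'' = (bb * (y : G) * bb⁻¹) * (bb * bb) * (y : G)⁻¹ := by rw [hb'']; group
    rw [e, hb2, mul_one]
    exact mul_mem ((mem_normalizer_iff.1 hbN _).1 y.2) (inv_mem y.2)
  refine no_dt_involution hfive π hπr hcent hcard (hp2 ▸ hresmap g hgs) (c := g ⟨bb * b'', hcEc⟩) ?_ ?_
  · have e : π (g ⟨bb * b'', hcEc⟩) = Equiv.swap a b * Equiv.swap x y' := by
      rw [hπg, hρ, compPerm_apply, ← hθ, ← hθ', ← map_mul]
      exact congrArg θ (Subtype.ext (by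
        show proj m (bb * b'') = t * t'
        rw [map_mul, hbt, hb''p]))
    rw [e]
    exact IsDT.mk hab hxne.1.symm hy'a.symm hxne.2.1.symm hy'b.symm hxy
  · rw [← map_mul, hgk]
    have e : f (⟨bb * b'', hcEc⟩ * ⟨bb * b'', hcEc⟩) = 1 := by
      rw [hfk]
      have e' : bb * b'' * (bb * b'') = ⁅bb, b''⁆ := by
        rw [commutatorElement_def, inv_eq_of_mul_eq_one_right hb2, inv_eq_of_mul_eq_one_right hb''2]
        group
      show bb * b'' * (bb * b'') ∈ W
      rw [e']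
      exact hcW
    rw [e]
    exact one_mem _

end Data

end CfsgLib.CFun.MinParab.Push
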