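import Cfsg.Agent.Lib.CFun.MinParab.Push.Crit

/-!
# Pushing up with one natural step: `W₀` splits over a symmetric component

For every element `w` of `W₀` there is `v ∈ V` such that `w v⁻¹` is centralized by `B` and by the residual of
the component: the vectors given by the pairs of opposite roots fit together on the even-weight module.
-/

set_option autoImplicit false
set_option linter.unusedSectionVars false
set_option linter.style.haveILetI false

open Subgroup
open CfsgLib.Char.NatSL (fixS mem_fixS fixS_mono)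
open CfsgLib.Fusion (conjBy mem_conjBy conj_mem_conjBy conjBy_le_iff conjBy_eq_iff conjBy_conjBy conjBy_mono
  conjBy_eq_of_le conjBy_inv_conjBy)
open scoped commutatorElement MatrixGroups

namespace CfsgLib.CFun.MinParab.Push

open Rec Off

universe u v w

variable {G : Type u} [Group G] [Finite G] {p : ℕ} [hp : Fact p.Prime] {T : Sylow p G} {M : Subgroup G}
  {H : Type v} [Group H] [Finite H] {U : Type w} [AddCommGroup U] [Finite U] [DistribMulAction H U]
  {m : Glue.Mdl (vQ p G) ⊤ H U} {n r : ℕ} {S : Sylow p H} {E : Fin r → Subgroup H}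

namespace Data

variable (d : Data T M m 2 n r S E)
include d

section Roots

variable {i : Fin r} {θ : ↥(E i) ≃* Equiv.Perm (Fin (2 ^ n + 1))}
  {ψ : U →+ (Fin (2 ^ n + 1) → ZMod 2)}
  (hev : ∀ w, ∑ a, w a = 0 → ∃ v, ψ v = w)
  (he : ∀ (x : ↥(E i)) (v : U) a, ψ ((x : H) • v) a = ψ v ((θ x)⁻¹ a))
include hev he

/-- Every moved point lies in exactly one root transposition. -/
theorem exists_root_point {cc : Fin (2 ^ n + 1)}
    (hcc : ∀ x (hx : x ∈ (S : Subgroup H) ⊓ E i), θ ⟨x, hx.2⟩ cc = cc)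
    (htr : ∀ a b, a ≠ cc → b ≠ cc → ∃ x, ∃ hx : x ∈ (S : Subgroup H) ⊓ E i, θ ⟨x, hx.2⟩ a = b)
    {a : Fin (2 ^ n + 1)} (ha : a ≠ cc) :
    ∃ A, Root U p 2 A ∧ A ≤ (S : Subgroup H) ∧ A ≤ E i ∧
      ∃ t ∈ A, ∃ ht : t ∈ E i, A = zpowers t ∧ θ ⟨t, ht⟩ a ≠ a := by
  obtain ⟨A₀, hA₀, hA₀S, hA₀i⟩ := d.exists_root_in i
  obtain ⟨a₀, b₀, hab, t, ht, hAt, hθ⟩ := d.dec.exists_swap θ ψ hev he hA₀ hA₀i
  have ha₀ : a₀ ≠ cc := by
    intro e
    have h1 := hcc t ⟨hA₀S ht, hA₀i ht⟩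
    rw [hθ, ← e, Equiv.swap_apply_left] at h1
    exact hab h1.symm
  obtain ⟨x, hx, hxa⟩ := htr a₀ a ha₀ ha
  have hxi : conjBy x A₀ ≤ E i := conjBy_le_iff.2 fun y hy => mul_mem (mul_mem hx.2 (hA₀i hy)) (inv_mem hx.2)
  refine ⟨conjBy x A₀, hA₀.conj x,
    conjBy_le_iff.2 fun y hy => mul_mem (mul_mem hx.1 (hA₀S hy)) (inv_mem hx.1), hxi, x * t * x⁻¹,
    conj_mem_conjBy ht, hxi (conj_mem_conjBy ht), by rw [hAt, conjBy_zpowers], ?_⟩
  rw [show (⟨x * t * x⁻¹, hxi (conj_mem_conjBy ht)⟩ : ↥(E i)) = ⟨x, hx.2⟩ * ⟨t, hA₀i ht⟩ * ⟨x, hx.2⟩⁻¹ from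
    Subtype.ext rfl, map_mul, map_mul, map_inv, hθ, ← Equiv.swap_apply_apply, hxa, Equiv.swap_apply_left]
  exact fun e => hab ((θ ⟨x, hx.2⟩).injective (hxa.trans e.symm))

theorem root_unique {A A' : Subgroup H} (hA : Root U p 2 A) (hA' : Root U p 2 A') (hAS : A ≤ (S : Subgroup H))
    (hA'S : A' ≤ (S : Subgroup H)) (hAi : A ≤ E i) (hA'i : A' ≤ E i) {t t' : H} (ht : t ∈ A) (ht' : t' ∈ A')
    {a : Fin (2 ^ n + 1)} (hta : θ ⟨t, hAi ht⟩ a ≠ a) (hta' : θ ⟨t', hA'i ht'⟩ a ≠ a) : A = A' := by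
  by_contra hne
  obtain ⟨a₁, b₁, hab₁, t₁, ht₁, hAt₁, hθ₁⟩ := d.dec.exists_swap θ ψ hev he hA hAi
  obtain ⟨a₂, b₂, hab₂, t₂, ht₂, hAt₂, hθ₂⟩ := d.dec.exists_swap θ ψ hev he hA' hA'i
  have key : ∀ {A : Subgroup H} {t₁ t : H} {hAi : A ≤ E i} {a₁ b₁ : Fin (2 ^ n + 1)} {ht₁ : t₁ ∈ A} {ht : t ∈ A},
      A = zpowers t₁ → θ ⟨t₁, hAi ht₁⟩ = Equiv.swap a₁ b₁ → θ ⟨t, hAi ht⟩ a ≠ a → a = a₁ ∨ a = b₁ := by
    intro A t₁ t hAi a₁ b₁ ht₁ ht hA' hθ hta
    by_contra! hh
    obtain ⟨k, hk⟩ := mem_zpowers_iff.1 (hA'.le ht)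
    refine hta ?_
    rw [show (⟨t, hAi ht⟩ : ↥(E i)) = ⟨t₁, hAi ht₁⟩ ^ k from Subtype.ext hk.symm, map_zpow, hθ]
    have hfix : Equiv.swap a₁ b₁ a = a := Equiv.swap_apply_of_ne_of_ne hh.1 hh.2
    exact (zpow_mem (show Equiv.swap a₁ b₁ ∈ MulAction.stabilizer _ a from hfix) k :
      Equiv.swap a₁ b₁ ^ k ∈ MulAction.stabilizer _ a)
  have hne' : Equiv.swap a₂ b₂ ≠ Equiv.swap a₁ b₁ := by
    rw [← hθ₁, ← hθ₂]
    intro e
    have h : t₂ = t₁ := congrArg Subtype.val (θ.injective e)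
    exact hne (by rw [hAt₁, hAt₂, h])
  have hcom : Equiv.swap a₂ b₂ * Equiv.swap a₁ b₁ = Equiv.swap a₁ b₁ * Equiv.swap a₂ b₂ := by
    rw [← hθ₁, ← hθ₂, ← map_mul, ← map_mul]
    exact congrArg θ (Subtype.ext (d.sys.com_in S.2 hA' hA hA'S hAS t₂ ht₂ t₁ ht₁))
  have h := ne_of_commute_swap hab₁ hab₂ hcom hne'
  rcases key (ht := ht) hAt₁ hθ₁ hta with rfl | rfl <;> rcases key (ht := ht') hAt₂ hθ₂ hta' with h' | h'
  · exact h.1 h'.symm
  · exact h.2.2.1 h'.symm
  · exact h.2.1 h'.symm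
  · exact h.2.2.2 h'.symm

/-- The third point of the pair of a root is the fixed point of the Sylow subgroup. -/
theorem pair_swap {cc : Fin (2 ^ n + 1)}
    (hcc : ∀ x (hx : x ∈ (S : Subgroup H) ⊓ E i), θ ⟨x, hx.2⟩ cc = cc)
    (htr : ∀ a b, a ≠ cc → b ≠ cc → ∃ x, ∃ hx : x ∈ (S : Subgroup H) ⊓ E i, θ ⟨x, hx.2⟩ a = b)
    {A L R : Subgroup H} {g : H} (hAS : A ≤ (S : Subgroup H)) (hP : Pair U p 2 (S : Subgroup H) (E i) A L R g)
    {a b : Fin (2 ^ n + 1)} (hab : a ≠ b) {t : H} (ht : t ∈ A) (htE : t ∈ E i) (hAt : A = zpowers t)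
    (hθ : θ ⟨t, htE⟩ = Equiv.swap a b) :
    ∃ u, ∃ hu : u ∈ E i, u ∈ L ∧ conjBy g A = zpowers u ∧
      (θ ⟨u, hu⟩ = Equiv.swap a cc ∨ θ ⟨u, hu⟩ = Equiv.swap b cc) := by
  have hgi : conjBy g A ≤ E i := (le_sup_right.trans hP.gen.le).trans hP.part_le
  obtain ⟨a₁, b₁, hab₁, u, hu, hAu, hθu⟩ := d.dec.exists_swap θ ψ hev he (hP.root.conj g) hgi
  refine ⟨u, hgi hu, hP.gen.le (mem_sup_right hu), hAu, ?_⟩
  have hA : Root U p 2 A := hP.root
  have hAi : A ≤ E i := (le_sup_left.trans hP.gen.le).trans hP.part_le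
  have hacc : a ≠ cc := fun e => by
    have h1 := hcc t ⟨hAS ht, htE⟩
    rw [hθ, ← e, Equiv.swap_apply_left] at h1
    exact hab h1.symm
  have hbcc : b ≠ cc := fun e => by
    have h1 := hcc t ⟨hAS ht, htE⟩
    rw [hθ, ← e, Equiv.swap_apply_right] at h1
    exact hab h1
  -- the two transpositions do not commute
  have hnc : ¬ Equiv.swap a₁ b₁ * Equiv.swap a b = Equiv.swap a b * Equiv.swap a₁ b₁ := by
    intro hc
    rw [← hθ, ← hθu, ← map_mul, ← map_mul] at hc
    have hc' : u * t = t * u := congrArg Subtype.val (θ.injective hc)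
    have hcom : Com A (conjBy g A) := by rw [hAu, hAt]; exact com_zpowers.2 hc'.symm
    obtain ⟨F, _, _, hF, ρ, -⟩ := hP.nat
    -- then `L` is abelian
    have hle : L ≤ centralizer (L : Set H) := by
      have hA' : A ⊔ conjBy g A ≤ centralizer ((A ⊔ conjBy g A : Subgroup H) : Set H) := by
        refine sup_le (le_centralizer_iff.1 (sup_le (fun x hx => mem_centralizer_iff.2 fun y hy =>
            hA.el.comm y hy x hx) fun x hx => mem_centralizer_iff.2 fun y hy => hcom y hy x hx))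
          (le_centralizer_iff.1 (sup_le (fun x hx => mem_centralizer_iff.2 fun y hy => (hcom x hx y hy).symm)
            fun x hx => mem_centralizer_iff.2 fun y hy => (hA.conj g).el.comm y hy x hx))
      rwa [hP.gen] at hA'
    have hN : conjBy g A = A := conjBy_eq_iff.2 (centralizer_le_normalizer _
      (centralizer_le (SetLike.coe_subset_coe.2 (le_sup_left.trans hP.gen.le)) (hle hP.g_mem)))
    exact hP.ne hN
  -- another point of it is fixed by the other roots
  have other : ∀ z w, θ ⟨u, hgi hu⟩ = Equiv.swap z w → z ≠ w → z ≠ a → z ≠ b → z = cc := by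
    intro z w hzw hne hza hzb
    by_contra hzc
    obtain ⟨A', hA', hA'S, hA'i, t', ht', ht'E, hA't, hz⟩ := d.exists_root_point hev he hcc htr hzc
    obtain ⟨a₂, b₂, hab₂, t₂, ht₂, hA't₂, hθ₂⟩ := d.dec.exists_swap θ ψ hev he hA' hA'i
    have hne' : A' ≠ A := by
      rintro rfl
      obtain ⟨k, hk⟩ := mem_zpowers_iff.1 (hAt.le ht')
      refine hz ?_
      rw [show (⟨t', ht'E⟩ : ↥(E i)) = ⟨t, htE⟩ ^ k from Subtype.ext hk.symm, map_zpow, hθ]
      exact (zpow_mem (show Equiv.swap a b ∈ MulAction.stabilizer _ z from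
        Equiv.swap_apply_of_ne_of_ne hza hzb) k : Equiv.swap a b ^ k ∈ MulAction.stabilizer _ z)
    have hcu : u * t' = t' * u := hP.cent A' hA' hA'S hne' u (hP.gen.le (mem_sup_right hu)) t' ht'
    have h1 : θ ⟨u, hgi hu⟩ * θ ⟨t', ht'E⟩ = θ ⟨t', ht'E⟩ * θ ⟨u, hgi hu⟩ := by
      rw [← map_mul, ← map_mul]; exact congrArg θ (Subtype.ext hcu)
    rw [hzw] at h1
    -- `t'` moves `z`, so it maps `z` to `w`
    have h2 := DFunLike.congr_fun h1 z
    rw [Equiv.Perm.mul_apply, Equiv.Perm.mul_apply, Equiv.swap_apply_left] at h2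
    set z' := θ ⟨t', ht'E⟩ z
    by_cases hz'w : z' = w
    · -- then `t'` is the transposition of `u`
      have ht22 : t₂ ^ 2 = 1 := by
        have h := hA'.el.pow t₂ ht₂
        rwa [d.dec.sys.p_eq_two hA'] at h
      have ht'' : t₂ = t' ∨ t' = 1 := by
        obtain ⟨k, hk⟩ := mem_zpowers_iff.1 (hA't₂.le ht')
        rcases Int.even_or_odd' k with ⟨l, rfl | rfl⟩
        · refine Or.inr ?_
          rw [← hk, zpow_mul, zpow_two, ← pow_two, ht22, one_zpow]
        · refine Or.inl ?_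
          rw [← hk, zpow_add_one, zpow_mul, zpow_two, ← pow_two, ht22, one_zpow, one_mul]
      rcases ht'' with rfl | rfl
      · have e : Equiv.swap a₂ b₂ = Equiv.swap z w := by
          have hz2 : Equiv.swap a₂ b₂ z ≠ z := hθ₂ ▸ hz
          have hw2 : Equiv.swap a₂ b₂ z = w := hθ₂ ▸ hz'w
          by_cases h3 : z = a₂
          · subst h3; rw [Equiv.swap_apply_left] at hw2; rw [hw2]
          by_cases h4 : z = b₂
          · subst h4; rw [Equiv.swap_apply_right] at hw2; rw [hw2, Equiv.swap_comm]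
          exact absurd (Equiv.swap_apply_of_ne_of_ne h3 h4) hz2
        refine hnc ?_
        rw [← hθu, hzw, ← e, ← hθ₂, ← hθ, ← map_mul, ← map_mul]
        exact congrArg θ (Subtype.ext (d.sys.com_in S.2 hA' hA hA'S hAS t₂ ht₂ t ht))
      · exact hz (by simp [z', show (⟨(1 : H), ht'E⟩ : ↥(E i)) = 1 from rfl])
    · rw [Equiv.swap_apply_of_ne_of_ne hz hz'w] at h2
      exact hne ((θ ⟨t', ht'E⟩).injective h2)
  have hdisj : a₁ = a ∨ a₁ = b ∨ b₁ = a ∨ b₁ = b := by
    by_contra! hh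
    exact hnc (commute_of_disjoint_swap hh.1.symm hh.2.2.1.symm hh.2.1.symm hh.2.2.2.symm)
  have hne₁ : Equiv.swap a₁ b₁ ≠ Equiv.swap a b := fun e => hnc (by rw [e])
  rcases hdisj with rfl | rfl | rfl | rfl
  · left
    rw [hθu, other b₁ a₁ (by rw [hθu, Equiv.swap_comm]) hab₁.symm hab₁.symm fun e => hne₁ (by rw [e])]
  · right
    rw [hθu, other b₁ a₁ (by rw [hθu, Equiv.swap_comm]) hab₁.symm
      (fun e => hne₁ (by rw [e, Equiv.swap_comm])) hab₁.symm]
  · left
    rw [hθu, other a₁ b₁ hθu hab₁ hab₁ (fun e => hne₁ (by rw [e, Equiv.swap_comm])), Equiv.swap_comm]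
  · right
    rw [hθu, other a₁ b₁ hθu hab₁ (fun e => hne₁ (by rw [e])) hab₁, Equiv.swap_comm]

end Roots

variable (hone : IsOne T)
include hone

/-- `W₀` is centralized by the residual of a symmetric component modulo `V`. -/
theorem w0_split (i : Fin r) : ∀ w ∈ w0 T, ∃ c, ∃ v ∈ vQ p G, w = c * v ∧
    (∀ b ∈ bT T, Commute c b) ∧ ∀ x ∈ comp m E i, Commute c x := by
  classical
  intro w hw
  obtain ⟨θ, ψ, hsum, hev, hker, he⟩ : IsPermNat U n (E i) := by
    rcases d.nat i with ⟨h, -, -⟩ | ⟨-, -, h⟩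
    · omega
    · exact h
  obtain ⟨cc, hcc, htr⟩ := d.dec.sym_sylow i θ
  have hp2 : p = 2 := by
    rcases d.nat i with ⟨h, -, -⟩ | ⟨-, h, -⟩
    · omega
    · exact h
  have hs := d.sys
  -- the pairs
  have hdata : ∀ A : Subgroup H, ∃ (L R : Subgroup H) (g : H) (gG c : G) (v : U),
      Root U p 2 A → A ≤ (S : Subgroup H) → A ≤ E i → Pair U p 2 (S : Subgroup H) (E i) A L R g ∧
        proj m gG = g ∧ w = c * m.val v ∧ (∀ b ∈ bT T, Commute c b) ∧
        ∀ b ∈ conjBy gG (bT T), Commute c b := by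
    intro A
    by_cases h : Root U p 2 A ∧ A ≤ (S : Subgroup H) ∧ A ≤ E i
    · obtain ⟨L, R, g, hP⟩ := d.dec.exists_pair h.1 h.2.1 h.2.2
      obtain ⟨gG, hg⟩ := proj_surj m g
      obtain ⟨c, v, hv, hwe, hc, hc'⟩ := d.w0_le_inter hP hg w hw
      obtain ⟨u, rfl⟩ := m.exists_val v hv
      exact ⟨L, R, g, gG, c, u, fun _ _ _ => ⟨hP, hg, hwe, hc, hc'⟩⟩
    · exact ⟨⊥, ⊥, 1, 1, 1, 0, fun h1 h2 h3 => absurd ⟨h1, h2, h3⟩ h⟩
  choose L R g gG c v hspec using hdata
  -- the vectors are fixed by the image of `B`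
  have hvfix : ∀ A, Root U p 2 A → A ≤ (S : Subgroup H) → A ≤ E i → ∀ x ∈ img m (bT T), x • v A = v A := by
    intro A hA hAS hAi x hx
    obtain ⟨-, -, hwe, hc, -⟩ := hspec A hA hAS hAi
    obtain ⟨b, hb, rfl⟩ := (img_eq_map m _).le hx
    refine m.val_inj ?_
    rw [val_proj, mul_inv_eq_iff_eq_mul]
    have h1 : Commute b (m.val (v A)) := by
      rw [show m.val (v A) = (c A)⁻¹ * w by rw [hwe, inv_mul_cancel_left]]
      exact (hc b hb).symm.inv_right.mul_right (mem_centralizer_iff.1 hb.2 w hw).symm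
    exact h1.eq
  choose rt hrt using fun (a : Fin (2 ^ n + 1)) (ha : a ≠ cc) => d.exists_root_point hev he hcc htr ha
  let f : Fin (2 ^ n + 1) → ZMod 2 := fun a =>
    if ha : a = cc then 0 else ψ (v (rt a ha)) a + ψ (v (rt a ha)) cc
  obtain ⟨ε, hε⟩ : ∃ ε : ZMod 2, ∑ a, (f a + ε) = 0 := ⟨∑ a, f a, by
    rw [Finset.sum_add_distrib, Finset.sum_const, Finset.card_univ, Fintype.card_fin, nsmul_eq_mul]
    have h2 : ((2 ^ n + 1 : ℕ) : ZMod 2) = 1 := by
      push_cast
      rw [show (2 : ZMod 2) = 0 from by decide, zero_pow (by have := d.one_le; omega), zero_add]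
    rw [h2, one_mul, CharTwo.add_self_eq_zero]⟩
  obtain ⟨u₀, hu₀⟩ := hev _ hε
  obtain ⟨u, hu, hψu⟩ : ∃ u ∈ CFun.MinParab.commS U (E i), ψ u = fun a => f a + ε := by
    obtain ⟨a₀, ha₀, b₀, hb₀, hab⟩ := AddSubgroup.mem_sup.1
      (d.frame.full i ▸ AddSubgroup.mem_top u₀ : u₀ ∈ CFun.MinParab.commS U (E i) ⊔ fixS U (E i))
    refine ⟨a₀, ha₀, ?_⟩
    rw [← hu₀, ← hab, map_add, (hker _).2 hb₀, add_zero]
  -- an element of order two of the component fixing the coordinates fixes the vector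
  have hfixc : ∀ (e : ↥(E i)), (e : H) ^ p = 1 → ∀ z : U, (∀ a, ψ z ((θ e)⁻¹ a) = ψ z a) → (e : H) • z = z := by
    intro e hep z hz
    refine d.frame.nofix i e e.2 hep z ((hker _).1 (funext fun a => ?_))
    rw [map_sub, Pi.sub_apply, he, hz, sub_self]; rfl
  -- `v_A` and `u` agree on the three points of the root
  have hagree : ∀ A (hA : Root U p 2 A) (hAS : A ≤ (S : Subgroup H)) (hAi : A ≤ E i) a b t (ht : t ∈ A),
      a ≠ b → θ ⟨t, hAi ht⟩ = Equiv.swap a b →
        (a ≠ cc ∧ b ≠ cc) ∧ ψ (v A - u) a = ψ (v A - u) cc ∧ ψ (v A - u) b = ψ (v A - u) cc := by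
    intro A hA hAS hAi a b t ht hab hθ
    have hacc : a ≠ cc := fun e => by
      have h1 := hcc t ⟨hAS ht, hAi ht⟩
      rw [hθ, ← e, Equiv.swap_apply_left] at h1
      exact hab h1.symm
    have hbcc : b ≠ cc := fun e => by
      have h1 := hcc t ⟨hAS ht, hAi ht⟩
      rw [hθ, ← e, Equiv.swap_apply_right] at h1
      exact hab h1
    have hrta : ∀ z (hz : z ≠ cc), θ ⟨t, hAi ht⟩ z ≠ z → rt z hz = A := by
      intro z hz hmove
      obtain ⟨h1, h2, h3, t', ht', ht'E, -, hz'⟩ := hrt z hz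
      exact d.root_unique hev he h1 hA h2 hAS h3 hAi ht' ht hz' hmove
    have hab' : ψ (v A) a = ψ (v A) b := by
      have h1 := congrArg ψ (hvfix A hA hAS hAi t (d.bT_roots.ge (le_rootsIn hA hAS ht)))
      have h2 := congrFun h1 a
      rw [show (t : H) = ((⟨t, hAi ht⟩ : ↥(E i)) : H) from rfl, he, hθ, Equiv.swap_inv,
        Equiv.swap_apply_left] at h2
      exact h2.symm
    have key : ∀ z (hz : z ≠ cc), θ ⟨t, hAi ht⟩ z ≠ z → ψ (v A - u) z = ψ (v A - u) cc := by
      intro z hz hmove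
      rw [map_sub, Pi.sub_apply, Pi.sub_apply, hψu]
      simp only [f, dif_neg hz, dite_true, hrta z hz hmove]
      rw [CharTwo.sub_eq_add, CharTwo.sub_eq_add]
      linear_combination (CharTwo.add_self_eq_zero (ψ (v A) z))
    refine ⟨⟨hacc, hbcc⟩, key a hacc ?_, key b hbcc ?_⟩
    · rw [hθ, Equiv.swap_apply_left]; exact hab.symm
    · rw [hθ, Equiv.swap_apply_right]; exact hab
  -- hence `u` is fixed by the image of `B`
  have hufix : ∀ x ∈ img m (bT T), x • u = u := by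
    have hle : img m (bT T) ≤ MulAction.stabilizer H u := by
      rw [d.bT_roots]
      refine sSup_le fun A hA x hx => ?_
      obtain ⟨j, hj⟩ := d.frame.covered A hA.1
      by_cases hji : j = i
      swap
      · exact mem_fixS.1 (d.frame.parts.cross i j (Ne.symm hji) hu) x (hj hx)
      subst hji
      obtain ⟨a, b, hab, t, ht, hAt, hθ⟩ := d.dec.exists_swap θ ψ hev he hA.1 hj
      obtain ⟨-, h1, h2⟩ := hagree A hA.1 hA.2 hj a b t ht hab hθ
      have hvt : (t : H) • v A = v A := hvfix A hA.1 hA.2 hj t (d.bT_roots.ge (le_rootsIn hA.1 hA.2 ht))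
      have hd : (t : H) • (v A - u) = v A - u := by
        refine hfixc ⟨t, hj ht⟩ (hA.1.el.pow t ht) _ fun z => ?_
        rw [hθ, Equiv.swap_inv, Equiv.swap_apply_def]
        split_ifs with e1 e2
        · subst e1; exact h2.trans h1.symm
        · subst e2; exact h1.trans h2.symm
        · rfl
      rw [smul_sub, hvt] at hd
      have htu : (t : H) • u = u := sub_right_injective hd
      exact (zpowers_le.2 (show t ∈ MulAction.stabilizer H u from htu)) (hAt.le hx)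
    exact fun x hx => hle hx
  obtain ⟨cs, hcs⟩ : ∃ cs, cs = w * (m.val u)⁻¹ := ⟨_, rfl⟩
  refine ⟨cs, m.val u, m.val_mem u, by rw [hcs, inv_mul_cancel_right], ?_⟩
  have hcB : ∀ b ∈ bT T, Commute cs b := fun b hb => by
    rw [hcs]
    refine (show Commute w b from mem_centralizer_iff.1 hb.2 w hw).mul_left (Commute.inv_left ?_)
    have h1 := congrArg m.val (hufix (proj m b) ((img_eq_map m _).ge (mem_map_of_mem _ hb)))
    rw [val_proj, mul_inv_eq_iff_eq_mul] at h1
    exact h1.symm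
  refine ⟨hcB, ?_⟩
  -- the centralizer contains the conjugates over every root
  set K := centralizer ({cs} : Set G)
  have hBK : bT T ≤ K := fun b hb => mem_centralizer_singleton_iff.2 (hcB b hb).symm.eq
  have hLK : ∀ A, Root U p 2 A → A ≤ (S : Subgroup H) → A ≤ E i → L A ≤ img m K := by
    intro A hA hAS hAi
    obtain ⟨hP, hg, hwe, -, hc'⟩ := hspec A hA hAS hAi
    obtain ⟨a, b, hab, t, ht, hAt, hθ⟩ := d.dec.exists_swap θ ψ hev he hA hAi
    obtain ⟨u', hu', hu'L, hgA, hθu'⟩ := d.pair_swap hev he hcc htr hAS hP hab ht (hAi ht) hAt hθ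
    obtain ⟨-, h1, h2⟩ := hagree A hA hAS hAi a b t ht hab hθ
    have hgfix : ∀ x ∈ conjBy (g A) (img m (bT T)), x • (v A - u) = v A - u := by
      have hle : conjBy (g A) (img m (bT T)) ≤ MulAction.stabilizer H (v A - u) := by
        rw [d.bT_roots, ← hP.split, CfsgLib.Fusion.conjBy, Subgroup.map_sup]
        refine sup_le ?_ ?_
        · show conjBy (g A) A ≤ _
          rw [hgA, zpowers_le]
          refine hfixc ⟨u', hu'⟩ ?_ _ fun z => ?_
          · exact (hA.conj (g A)).el.pow u' (hgA.ge (mem_zpowers u'))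
          · rcases hθu' with e | e <;> rw [e, Equiv.swap_inv, Equiv.swap_apply_def] <;> split_ifs with e1 e2
            · subst e1; exact h1.symm
            · subst e2; exact h1
            · rfl
            · subst e1; exact h2.symm
            · subst e2; exact h2
            · rfl
        · rintro _ ⟨y, hy, rfl⟩
          show g A * y * (g A)⁻¹ ∈ _
          rw [hP.com (g A) hP.g_mem y hy, mul_inv_cancel_right]
          have hyB : y ∈ img m (bT T) := d.bT_roots.ge (hP.R_le hy)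
          show y • (v A - u) = v A - u
          rw [smul_sub, hvfix A hA hAS hAi y hyB, hufix y hyB]
      exact fun x hx => hle hx
    have hgK : conjBy (gG A) (bT T) ≤ K := by
      rintro _ ⟨b₀, hb₀, rfl⟩
      refine mem_centralizer_singleton_iff.2 ?_
      have e : cs = c A * m.val (v A - u) := by rw [hcs, hwe, m.val_sub, mul_assoc]
      rw [e]
      refine (Commute.mul_left (hc' _ (conj_mem_conjBy hb₀)) ?_).symm.eq
      have h3 := congrArg m.val (hgfix (g A * proj m b₀ * (g A)⁻¹)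
        (conj_mem_conjBy ((img_eq_map m _).ge (mem_map_of_mem _ hb₀))))
      rw [← hg, ← map_inv, ← map_mul, ← map_mul, val_proj, mul_inv_eq_iff_eq_mul] at h3
      exact h3.symm
    rw [← hP.gen]
    refine sup_le ?_ ?_
    · exact (le_rootsIn hA hAS).trans (d.bT_roots.ge.trans (img_mono m hBK))
    · rintro _ ⟨x, hx, rfl⟩
      obtain ⟨b₀, hb₀, rfl⟩ := (img_eq_map m _).le (d.bT_roots.ge (le_rootsIn hA hAS hx))
      refine (img_eq_map m _).ge ⟨gG A * b₀ * (gG A)⁻¹, hgK (conj_mem_conjBy hb₀), ?_⟩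
      rw [map_mul, map_mul, map_inv, hg]
      rfl
  have hEK : E i ≤ img m K := by
    have hstar : ∀ z, z ≠ cc → (θ.symm (Equiv.swap z cc) : H) ∈ img m K := by
      intro z hz
      obtain ⟨hA, hAS, hAi, t, ht, htE, hAt, hmove⟩ := hrt z hz
      obtain ⟨hP, -, -, -, -⟩ := hspec _ hA hAS hAi
      obtain ⟨a, b, hab, t₁, ht₁, hAt₁, hθ₁⟩ := d.dec.exists_swap θ ψ hev he hA hAi
      obtain ⟨u', hu', hu'L, -, hθu'⟩ := d.pair_swap hev he hcc htr hAS hP hab ht₁ (hAi ht₁) hAt₁ hθ₁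
      obtain ⟨⟨hacc, hbcc⟩, -, -⟩ := hagree _ hA hAS hAi a b t₁ ht₁ hab hθ₁
      have hzab : z = a ∨ z = b := by
        by_contra! hh
        obtain ⟨k, hk⟩ := mem_zpowers_iff.1 (hAt₁.le ht)
        refine hmove ?_
        rw [show (⟨t, htE⟩ : ↥(E i)) = ⟨t₁, hAi ht₁⟩ ^ k from Subtype.ext hk.symm, map_zpow, hθ₁]
        exact (zpow_mem (show Equiv.swap a b ∈ MulAction.stabilizer _ z from
          Equiv.swap_apply_of_ne_of_ne hh.1 hh.2) k : Equiv.swap a b ^ k ∈ MulAction.stabilizer _ z)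
      have hL := hLK _ hA hAS hAi
      have ht₁L : t₁ ∈ img m K := hL (hP.gen.le (mem_sup_left ht₁))
      have huK : u' ∈ img m K := hL hu'L
      have hconj : (θ.symm (Equiv.swap a b * θ ⟨u', hu'⟩ * (Equiv.swap a b)⁻¹) : H) ∈ img m K := by
        rw [← hθ₁, ← map_inv, ← map_mul, ← map_mul, θ.symm_apply_apply]
        exact mul_mem (mul_mem ht₁L huK) (inv_mem ht₁L)
      have huK' : (θ.symm (θ ⟨u', hu'⟩) : H) ∈ img m K := by rw [θ.symm_apply_apply]; exact huK
      have eA : Equiv.swap a b * Equiv.swap a cc * (Equiv.swap a b)⁻¹ = Equiv.swap b cc := by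
        rw [← Equiv.swap_apply_apply, Equiv.swap_apply_left, Equiv.swap_apply_of_ne_of_ne hacc.symm hbcc.symm]
      have eB : Equiv.swap a b * Equiv.swap b cc * (Equiv.swap a b)⁻¹ = Equiv.swap a cc := by
        rw [← Equiv.swap_apply_apply, Equiv.swap_apply_right, Equiv.swap_apply_of_ne_of_ne hacc.symm hbcc.symm]
      rcases hzab with rfl | rfl <;> rcases hθu' with e | e <;> rw [e] at hconj huK'
      · exact huK'
      · rwa [eB] at hconj
      · rwa [eA] at hconj
      · exact huK'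
    intro y hy
    have hswap : ∀ z z', z ≠ z' → (θ.symm (Equiv.swap z z') : H) ∈ img m K := by
      intro z z' hzz
      by_cases h1 : z = cc
      · rw [h1, Equiv.swap_comm]; exact hstar z' (fun e' => hzz (h1.trans e'.symm))
      by_cases h2 : z' = cc
      · rw [h2]; exact hstar z h1
      rw [← swap_mul_swap_mul_swap_star (Ne.symm h1) (Ne.symm h2) hzz, map_mul, map_mul, Subgroup.coe_mul,
        Subgroup.coe_mul, Equiv.swap_comm cc z, Equiv.swap_comm cc z']
      exact mul_mem (mul_mem (hstar z h1) (hstar z' h2)) (hstar z h1)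
    have key : ∀ π : Equiv.Perm (Fin (2 ^ n + 1)), (θ.symm π : H) ∈ img m K := by
      intro π
      induction π using Equiv.Perm.swap_induction_on with
      | one => rw [map_one]; exact (img m K).one_mem
      | swap_mul π z z' hzz ih => rw [map_mul]; exact (img m K).mul_mem (hswap z z' hzz) ih
    simpa using key (θ ⟨y, hy⟩)
  -- the residual of the component
  set K' := K ⊓ m.lift (E i)
  obtain ⟨P⟩ : Nonempty (Sylow p ↥K') := inferInstance
  set Y := Cfsg.pResidualOf p K'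
  have hYK : Y ≤ K' := res_le K'
  haveI := CfsgLib.Coprime.pCore_normal' (G := G) p
  have hQY : Cfsg.pCore p G ≤ normalizer (Y : Set G) := fun z hz => conjBy_eq_iff.1 (conjBy_eq_of_le (by
    refine map_le_iff_le_comap.2 (res_le_of fun e he ho => ?_)
    show z * e * z⁻¹ ∈ Y
    have h1 := d.comp_comm hone i (mem_res he.2 ho) hz
    have hmem : z * e * z⁻¹ ∈ K' := by
      rw [show z * e * z⁻¹ = ⁅e, z⁆⁻¹ * e by simp only [commutatorElement_def]; group]
      refine K'.mul_mem (K'.inv_mem ⟨hBK ?_, ?_⟩) he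
      · exact ((sub_le_vQ _).trans (d.vQ_le.trans inf_le_left)) h1
      · exact (sub_le_vQ _).trans (Glue.Setting.omega_le_pCore.trans (d.pCore_le_lift hone (E i))) h1
    exact mem_res hmem ((orderOf_injective (MulAut.conj z).toMonoidHom (MulAut.conj z).injective e).symm ▸ ho :
      (orderOf ((MulAut.conj z).toMonoidHom e)).Coprime p)))
  have hPY : (P : Subgroup ↥K').map K'.subtype ≤ normalizer (Y : Set G) :=
    (map_subtype_le _).trans (le_normalizer.trans (CfsgLib.Char.TW.normalizer_le_pResidualOf p K'))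
  have hdec := res_sup_sylow K' P
  intro x hx
  suffices h : comp m E i ≤ K from (mem_centralizer_singleton_iff.1 (h hx)).symm
  refine res_le_of fun y hy ho => (mem_inf.1 (hYK ?_)).1
  refine CfsgLib.BaumannNormal.coprime_mem_sup (Q := (P : Subgroup ↥K').map K'.subtype ⊔ Cfsg.pCore p G)
    ((P.2.map _).to_sup_of_normal_right (CfsgLib.Coprime.pCore_isPGroup p)) (sup_le hPY hQY) ?_ ho
  obtain ⟨k, hk, hke⟩ := (img_eq_map m K).le (hEK (mem_lift_proj.1 hy))
  have hkK : k ∈ K' := ⟨hk, mem_lift_proj.2 (hke ▸ mem_lift_proj.1 hy)⟩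
  have hz : k⁻¹ * y ∈ Cfsg.pCore p G := by
    rw [← d.proj_eq_one' hone, map_mul, map_inv, hke, inv_mul_cancel]
  rw [← mul_inv_cancel_left k y]
  exact mul_mem ((sup_le_sup_left le_sup_left Y) (hdec.ge hkK)) (mem_sup_right (mem_sup_right hz))

end Data

end CfsgLib.CFun.MinParab.Push
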